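/-
Permutations of the 24 points given by tables (5 bits per point), their action on masks, and
membership in the group of the code.
-/
import Cfsg.Agent.Lib.Golay.Words
import Cfsg.Prelude.Def_SporadicCombinatorics

set_option autoImplicit false

namespace CfsgLib.GolayStructure

open Cfsg CfsgLib.Golay
open scoped Pointwise symmDiff

/-- Entry `i` of a table. -/
def tblAt (t i : ℕ) : ℕ := (t >>> (5 * i)) % 32

/-- The map of points given by a table. -/
def tblFun (t : ℕ) (p : GolayPt) : GolayPt := pt (tblAt t (idx p))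

/-- A pair of tables which are inverse to each other. -/
def isTbl (t : ℕ × ℕ) : Bool :=
  (List.range 24).all fun i =>
    (tblAt t.1 i).blt 24 && (tblAt t.2 i).blt 24 && tblAt t.2 (tblAt t.1 i) == i &&
      tblAt t.1 (tblAt t.2 i) == i

theorem isTbl_spec {t : ℕ × ℕ} (h : isTbl t = true) {i : ℕ} (hi : i < 24) :
    tblAt t.1 i < 24 ∧ tblAt t.2 i < 24 ∧ tblAt t.2 (tblAt t.1 i) = i ∧
      tblAt t.1 (tblAt t.2 i) = i := by
  have := List.all_eq_true.1 h i (List.mem_range.2 hi)
  simp only [Bool.and_eq_true, Nat.blt_eq, beq_iff_eq] at this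
  exact ⟨this.1.1.1, this.1.1.2, this.1.2, this.2⟩

theorem tblFun_left {t : ℕ × ℕ} (h : isTbl t = true) (p : GolayPt) :
    tblFun t.2 (tblFun t.1 p) = p := by
  obtain ⟨h1, -, h3, -⟩ := isTbl_spec h (idx_lt p)
  rw [tblFun, tblFun, idx_pt h1, h3, pt_idx]

theorem tblFun_right {t : ℕ × ℕ} (h : isTbl t = true) (p : GolayPt) :
    tblFun t.1 (tblFun t.2 p) = p := by
  obtain ⟨-, h2, -, h4⟩ := isTbl_spec h (idx_lt p)
  rw [tblFun, tblFun, idx_pt h2, h4, pt_idx]

/-- The permutation given by a pair of tables (the identity if the tables are invalid). -/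
def permOf (t : ℕ × ℕ) : Equiv.Perm GolayPt :=
  if h : isTbl t = true then ⟨tblFun t.1, tblFun t.2, tblFun_left h, tblFun_right h⟩ else 1

theorem idx_permOf {t : ℕ × ℕ} (h : isTbl t = true) (p : GolayPt) :
    idx (permOf t p) = tblAt t.1 (idx p) := by
  rw [permOf, dif_pos h]
  exact idx_pt (isTbl_spec h (idx_lt p)).1

/-- The image of a mask under a table. -/
def imgAux (t m : ℕ) : ℕ → ℕ
  | 0 => 0
  | i + 1 => bif m.testBit i then (1 <<< tblAt t i) ||| imgAux t m i else imgAux t m i

/-- The image of a mask under a table. -/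
def imgMask (t m : ℕ) : ℕ := imgAux t m 24

theorem testBit_imgAux (t m j : ℕ) : ∀ n, (imgAux t m n).testBit j = true ↔
    ∃ i < n, m.testBit i = true ∧ tblAt t i = j
  | 0 => by simp [imgAux]
  | n + 1 => by
    have ih := testBit_imgAux t m j n
    cases hm : m.testBit n
    · simp only [imgAux, hm, cond_false, ih]
      exact ⟨fun ⟨i, hi, h⟩ => ⟨i, by omega, h⟩, fun ⟨i, hi, h, h'⟩ => ⟨i, by
        rcases Nat.lt_succ_iff_lt_or_eq.1 hi with hi | rfl
        · exact hi
        · rw [hm] at h; exact absurd h Bool.false_ne_true, h, h'⟩⟩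
    · simp only [imgAux, hm, cond_true, Nat.testBit_lor, Bool.or_eq_true, ih,
        Nat.one_shiftLeft, Nat.testBit_two_pow, decide_eq_true_iff]
      constructor
      · rintro (h | ⟨i, hi, h⟩)
        · exact ⟨n, by omega, hm, h⟩
        · exact ⟨i, by omega, h⟩
      · rintro ⟨i, hi, h, h'⟩
        rcases Nat.lt_succ_iff_lt_or_eq.1 hi with hi | rfl
        · exact Or.inr ⟨i, hi, h, h'⟩
        · exact Or.inl h'

theorem smul_unmask {t : ℕ × ℕ} (h : isTbl t = true) (m : ℕ) :
    permOf t • unmask m = unmask (imgMask t.1 m) := by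
  ext q
  simp only [Finset.mem_smul_finset, mem_unmask, imgMask, testBit_imgAux, Equiv.Perm.smul_def]
  constructor
  · rintro ⟨p, hp, rfl⟩
    exact ⟨idx p, idx_lt p, hp, (idx_permOf h p).symm⟩
  · rintro ⟨i, hi, hm, he⟩
    exact ⟨pt i, by rwa [idx_pt hi], idx_injective (by rw [idx_permOf h, idx_pt hi, he])⟩

theorem imgMask_lt {t : ℕ × ℕ} (h : isTbl t = true) (m : ℕ) : imgMask t.1 m < 2 ^ 24 := by
  apply Nat.lt_pow_two_of_testBit
  intro j hj
  by_contra hb
  obtain ⟨i, hi, -, he⟩ := (testBit_imgAux t.1 m j 24).1 (by simpa [imgMask] using hb)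
  have := (isTbl_spec h hi).1
  omega

theorem support₂_add (v w : GolayPt → ZMod 2) : support₂ (v + w) = support₂ v ∆ support₂ w := by
  ext p
  simp only [support₂, Finset.mem_filter, Finset.mem_univ, true_and, Finset.mem_symmDiff,
    Pi.add_apply]
  generalize v p = a
  generalize w p = b
  revert a b
  decide

/-- A table pair in the group of the code. -/
def isM24Tbl (t : ℕ × ℕ) : Bool := isTbl t && basisMasks.all fun b => inCode (imgMask t.1 b)

theorem isTbl_of_isM24Tbl {t : ℕ × ℕ} (h : isM24Tbl t = true) : isTbl t = true :=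
  (Bool.and_eq_true _ _ ▸ h : _ ∧ _).1

theorem permOf_mem {t : ℕ × ℕ} (h : isM24Tbl t = true) : permOf t ∈ M24 := by
  have ht := isTbl_of_isM24Tbl h
  have hb : ∀ b ∈ basisMasks, inCode (imgMask t.1 b) = true := fun b hb => by
    simp only [isM24Tbl, Bool.and_eq_true, List.all_eq_true] at h
    exact h.2 b hb
  have hsub : permOf t • supports (golayCode : Set (GolayPt → ZMod 2)) ⊆
      supports (golayCode : Set (GolayPt → ZMod 2)) := by
    rintro _ ⟨s, hs, rfl⟩
    obtain ⟨n, hn, rfl⟩ := mem_supports_iff.1 hs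
    have := spanMasks_induction (P := fun w => permOf t • support₂ w ∈
        supports (golayCode : Set (GolayPt → ZMod 2))) ?_ ?_ ?_ hn
    · simpa [support₂_wordOf] using this
    · rw [show support₂ (0 : GolayPt → ZMod 2) = ∅ by ext; simp [support₂]]
      simpa using mem_supports_iff.2 ⟨0, zero_mem_spanMasks _, unmask_zero⟩
    · intro v w hv hw
      rw [support₂_add, Finset.smul_finset_symmDiff]
      exact symmDiff_mem_supports hv hw
    · intro b hbm
      rw [support₂_wordOf, smul_unmask ht]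
      exact mem_supports_iff.2 ⟨_, inCode_iff.1 (hb b hbm), rfl⟩
  rw [MulAction.mem_stabilizer_iff]
  exact Set.eq_of_subset_of_ncard_le hsub (Set.ncard_smul_set _ _).ge (Set.toFinite _)

/-- The group element of a table pair. -/
def m24Of (t : ℕ × ℕ) : M24 :=
  if h : isM24Tbl t = true then ⟨permOf t, permOf_mem h⟩ else 1

theorem coe_m24Of {t : ℕ × ℕ} (h : isM24Tbl t = true) :
    (m24Of t : Equiv.Perm GolayPt) = permOf t := by
  rw [m24Of, dif_pos h]

theorem m24Of_smul_unmask {t : ℕ × ℕ} (h : isM24Tbl t = true) (m : ℕ) :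
    m24Of t • unmask m = unmask (imgMask t.1 m) := by
  rw [← smul_unmask (isTbl_of_isM24Tbl h), ← coe_m24Of h]
  rfl

end CfsgLib.GolayStructure
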