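/-
Orbit certificates: depth-first trees of table-given group elements.
-/
import Cfsg.Agent.Lib.GolayStructure.Table

set_option autoImplicit false

namespace CfsgLib.GolayStructure

open Cfsg CfsgLib.Golay

/-- Field `i` of width `w` of a packed number. -/
def fieldAt (w T i : ℕ) : ℕ := (T >>> (w * i)) % 2 ^ w

/-- The entries of a packed tree (24 bits each: depth, generator, rank). -/
def treeList (T : ℕ) : ℕ → List ℕ
  | 0 => []
  | n + 1 => T % 16777216 :: treeList (T >>> 24) n

/-- The rank of an entry. -/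
def entryRank (e : ℕ) : ℕ := e % 4096

/-- Walk a tree; `ok g p r` says that generator `g` takes rank `p` to rank `r`. -/
def walk (ok : ℕ → ℕ → ℕ → Bool) : List ℕ → List ℕ → Bool
  | _, [] => true
  | stack, e :: rest =>
    match stack.drop (stack.length - e / 262144) with
    | [] => false
    | p :: st => ok (e / 4096 % 64) p (entryRank e) && walk ok (entryRank e :: p :: st) rest

theorem walk_sound {ok : ℕ → ℕ → ℕ → Bool} {P : ℕ → Prop}
    (hok : ∀ g p r, ok g p r = true → P p → P r) :
    ∀ (l stack : List ℕ), walk ok stack l = true → (∀ x ∈ stack, P x) → ∀ e ∈ l, P (entryRank e)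
  | [], _, _, _ => by simp
  | e :: rest, stack, h, hP => by
    rw [walk] at h
    split at h
    · exact absurd h Bool.false_ne_true
    · rename_i p st hst
      rw [Bool.and_eq_true] at h
      have hp : ∀ x ∈ p :: st, P x := fun x hx => hP x (List.mem_of_mem_drop (hst ▸ hx))
      have he : P (entryRank e) := hok _ _ _ h.1 (hp p List.mem_cons_self)
      intro e' he'
      rcases List.mem_cons.1 he' with rfl | he'
      · exact he
      · refine walk_sound hok rest _ h.2 (fun x hx => ?_) e' he'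
        rcases List.mem_cons.1 hx with rfl | hx
        · exact he
        · exact hp x hx

/-- A part of a certificate: root rank, packed tree, number of tree entries. -/
structure Part where
  root : ℕ
  tree : ℕ
  size : ℕ

/-- The ranks covered by a part. -/
def Part.ranks (P : Part) : List ℕ := P.root :: (treeList P.tree P.size).map entryRank

theorem length_treeList (T : ℕ) : ∀ n, (treeList T n).length = n
  | 0 => rfl
  | n + 1 => by simp [treeList, length_treeList (T >>> 24) n]

theorem Part.length_ranks (P : Part) : P.ranks.length = P.size + 1 := by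
  simp [Part.ranks, length_treeList]

/-- Bitmap of a list. -/
def bitsOf : List ℕ → ℕ
  | [] => 0
  | a :: l => (1 <<< a) ||| bitsOf l

theorem testBit_bitsOf (l : List ℕ) (j : ℕ) : (bitsOf l).testBit j = true ↔ j ∈ l := by
  induction l with
  | nil => simp [bitsOf]
  | cons a l ih =>
    simp only [bitsOf, Nat.one_shiftLeft, Nat.testBit_lor, Nat.testBit_two_pow, Bool.or_eq_true,
      decide_eq_true_iff, ih, List.mem_cons]
    exact or_congr_left eq_comm

/-- The parts cover the ranks below `N` exactly once. -/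
def coversExactly (parts : List Part) (N : ℕ) : Bool :=
  bitsOf (parts.flatMap Part.ranks) == 2 ^ N - 1 && (parts.map fun P => P.size + 1).sum == N

theorem mem_ranks_iff {parts : List Part} {N : ℕ} (h : coversExactly parts N = true) (j : ℕ) :
    j ∈ parts.flatMap Part.ranks ↔ j < N := by
  simp only [coversExactly, Bool.and_eq_true, beq_iff_eq] at h
  rw [← testBit_bitsOf, h.1, Nat.testBit_two_pow_sub_one, decide_eq_true_iff]

theorem nodup_ranks {parts : List Part} {N : ℕ} (h : coversExactly parts N = true) :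
    (parts.flatMap Part.ranks).Nodup := by
  have hf : (parts.flatMap Part.ranks).toFinset = Finset.range N := by
    ext j; simp only [List.mem_toFinset, Finset.mem_range, mem_ranks_iff h]
  simp only [coversExactly, Bool.and_eq_true, beq_iff_eq] at h
  have hlen : (parts.flatMap Part.ranks).length = N := by
    rw [List.length_flatMap, ← h.2]
    congr 1
    exact List.map_congr_left fun P _ => P.length_ranks
  rw [← List.dedup_eq_self]
  exact (List.dedup_sublist _).eq_of_length (by
    rw [← List.card_toFinset, hf, Finset.card_range, hlen])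

/-- A representation of a finite family by numbers, with a checker for the action of tables. -/
structure Kind (X : Type*) [MulAction M24 X] where
  dec : ℕ → X
  ok : ℕ → ℕ → ℕ → Bool
  ok_spec : ∀ t : ℕ × ℕ, isM24Tbl t = true → ∀ p r, ok t.1 p r = true → m24Of t • dec p = dec r

variable {X : Type*} [MulAction M24 X]

/-- The step checker for a list of generators and a rank-to-representative table. -/
def Kind.step (K : Kind X) (gens : List (ℕ × ℕ)) (R : ℕ → ℕ) (g p r : ℕ) : Bool :=
  match gens[g]? with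
  | none => false
  | some t => K.ok t.1 (R p) (R r)

/-- A part is a valid tree. -/
def Kind.checkPart (K : Kind X) (gens : List (ℕ × ℕ)) (R : ℕ → ℕ) (P : Part) : Bool :=
  walk (K.step gens R) [P.root] (treeList P.tree P.size)

theorem Kind.mem_orbit {K : Kind X} {gens : List (ℕ × ℕ)} {R : ℕ → ℕ} {P : Part}
    (hc : K.checkPart gens R P = true) (hv : gens.all isM24Tbl = true) {H : Subgroup M24}
    (hH : ∀ t ∈ gens, m24Of t ∈ H) :
    ∀ r ∈ P.ranks, K.dec (R r) ∈ MulAction.orbit H (K.dec (R P.root)) := by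
  have h := walk_sound (P := fun r => K.dec (R r) ∈ MulAction.orbit H (K.dec (R P.root))) ?_
    _ _ hc (by simp)
  · intro r hr
    rcases List.mem_cons.1 hr with rfl | hr
    · exact MulAction.mem_orbit_self _
    · obtain ⟨e, he, rfl⟩ := List.mem_map.1 hr
      exact h e he
  · intro g p r hok hp
    rw [Kind.step] at hok
    split at hok
    · exact absurd hok Bool.false_ne_true
    · rename_i t ht
      have ht := List.mem_of_getElem? ht
      rw [← K.ok_spec t (List.all_eq_true.1 hv t ht) _ _ hok]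
      exact MulAction.mem_orbit_of_mem_orbit (⟨m24Of t, hH t ht⟩ : H) hp

/-- A checked certificate: parts which cover `N` injectively represented elements of `Ω`. -/
structure Cert (K : Kind X) (Ω : Set X) (N : ℕ) where
  gens : List (ℕ × ℕ)
  R : ℕ → ℕ
  parts : List Part
  gens_valid : gens.all isM24Tbl = true
  parts_valid : parts.all (K.checkPart gens R) = true
  covers : coversExactly parts N = true
  injOn : Set.InjOn (fun r => K.dec (R r)) {r | r < N}
  mapsTo : ∀ r < N, K.dec (R r) ∈ Ω
  ncard_eq : Ω.ncard = N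

variable {K : Kind X} {Ω : Set X} {N : ℕ}

/-- The elements of a part. -/
def Cert.set (C : Cert K Ω N) (P : Part) : Set X := (fun r => K.dec (C.R r)) '' {r | r ∈ P.ranks}

theorem Cert.lt_of_mem (C : Cert K Ω N) {P : Part} (hP : P ∈ C.parts) {r : ℕ}
    (hr : r ∈ P.ranks) : r < N :=
  (mem_ranks_iff C.covers r).1 (List.mem_flatMap.2 ⟨P, hP, hr⟩)

theorem Cert.ncard_set (C : Cert K Ω N) {P : Part} (hP : P ∈ C.parts) :
    (C.set P).ncard = P.size + 1 := by
  have hinj : Set.InjOn (fun r => K.dec (C.R r)) {r | r ∈ P.ranks} :=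
    C.injOn.mono fun r hr => C.lt_of_mem hP hr
  rw [Cert.set, hinj.ncard_image,
    show {r | r ∈ P.ranks} = ↑P.ranks.toFinset by ext; simp, Set.ncard_coe_finset,
    List.toFinset_card_of_nodup, P.length_ranks]
  exact (List.nodup_flatMap.1 (nodup_ranks C.covers)).1 P hP

theorem Cert.set_subset (C : Cert K Ω N) {P : Part} (hP : P ∈ C.parts) : C.set P ⊆ Ω := by
  rintro _ ⟨r, hr, rfl⟩
  exact C.mapsTo r (C.lt_of_mem hP hr)

theorem Cert.root_mem (C : Cert K Ω N) (P : Part) : K.dec (C.R P.root) ∈ C.set P :=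
  ⟨P.root, List.mem_cons_self, rfl⟩

theorem Cert.image_eq (C : Cert K Ω N) (hN : 0 < N) :
    (fun r => K.dec (C.R r)) '' {r | r < N} = Ω := by
  refine Set.eq_of_subset_of_ncard_le ?_ ?_ (Set.finite_of_ncard_pos (by rw [C.ncard_eq]; exact hN))
  · rintro _ ⟨r, hr, rfl⟩
    exact C.mapsTo r hr
  · rw [C.injOn.ncard_image, C.ncard_eq, show {r | r < N} = ↑(Finset.range N) by ext; simp,
      Set.ncard_coe_finset, Finset.card_range]

theorem Cert.exists_part (C : Cert K Ω N) (hN : 0 < N) {x : X} (hx : x ∈ Ω) :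
    ∃ P ∈ C.parts, x ∈ C.set P := by
  rw [← C.image_eq hN] at hx
  obtain ⟨r, hr, rfl⟩ := hx
  obtain ⟨P, hP, hrP⟩ := List.mem_flatMap.1 ((mem_ranks_iff C.covers r).2 hr)
  exact ⟨P, hP, r, hrP, rfl⟩

theorem Cert.eq_of_mem (C : Cert K Ω N) {P Q : Part} (hP : P ∈ C.parts) (hQ : Q ∈ C.parts)
    {x : X} (hxP : x ∈ C.set P) (hxQ : x ∈ C.set Q) : P = Q := by
  obtain ⟨r, hr, rfl⟩ := hxP
  obtain ⟨s, hs, he⟩ := hxQ
  have hsr : s = r := C.injOn (C.lt_of_mem hQ hs) (C.lt_of_mem hP hr) he
  subst hsr
  have hpw := (List.nodup_flatMap.1 (nodup_ranks C.covers)).2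
  by_contra hne
  haveI : Std.Symm (Function.onFun List.Disjoint Part.ranks) := ⟨fun a b h => List.Disjoint.symm h⟩
  exact List.Pairwise.forall hpw hP hQ hne hr hs

theorem Cert.set_subset_orbit (C : Cert K Ω N) {H : Subgroup M24}
    (hH : ∀ t ∈ C.gens, m24Of t ∈ H) {P : Part} (hP : P ∈ C.parts) :
    C.set P ⊆ MulAction.orbit H (K.dec (C.R P.root)) := by
  rintro _ ⟨r, hr, rfl⟩
  exact Kind.mem_orbit (List.all_eq_true.1 C.parts_valid P hP) C.gens_valid hH r hr

theorem Cert.related (C : Cert K Ω N) {H : Subgroup M24}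
    (hH : ∀ t ∈ C.gens, m24Of t ∈ H) {P : Part} (hP : P ∈ C.parts) {x y : X}
    (hx : x ∈ C.set P) (hy : y ∈ C.set P) : ∃ h ∈ H, h • x = y := by
  obtain ⟨a, ha⟩ := C.set_subset_orbit hH hP hx
  obtain ⟨b, hb⟩ := C.set_subset_orbit hH hP hy
  refine ⟨(b : M24) * (a : M24)⁻¹, mul_mem b.2 (inv_mem a.2), ?_⟩
  rw [mul_smul, ← ha, ← hb]
  exact congrArg ((b : M24) • ·) (inv_smul_smul (a : M24) _)

/-- If an invariant separates the roots, the parts are the orbits. -/
theorem Cert.orbit_eq (C : Cert K Ω N) (hN : 0 < N) {H : Subgroup M24}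
    (hH : ∀ t ∈ C.gens, m24Of t ∈ H) (hΩ : ∀ h ∈ H, ∀ x ∈ Ω, h • x ∈ Ω) {β : Type*} (f : X → β)
    (hf : ∀ h ∈ H, ∀ x, f (h • x) = f x)
    (hsep : ∀ P ∈ C.parts, ∀ Q ∈ C.parts,
      f (K.dec (C.R P.root)) = f (K.dec (C.R Q.root)) → P = Q)
    {P : Part} (hP : P ∈ C.parts) :
    MulAction.orbit H (K.dec (C.R P.root)) = C.set P := by
  refine Set.Subset.antisymm ?_ (C.set_subset_orbit hH hP)
  rintro _ ⟨h, rfl⟩
  obtain ⟨Q, hQ, hxQ⟩ := C.exists_part hN
    (hΩ h.1 h.2 _ (C.set_subset hP (C.root_mem P)))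
  obtain ⟨k, hk⟩ := C.set_subset_orbit hH hQ hxQ
  have hPQ : P = Q := hsep P hP Q hQ (by
    have h1 := congrArg f hk
    change f ((k : M24) • K.dec (C.R Q.root)) = f ((h : M24) • K.dec (C.R P.root)) at h1
    rw [hf _ k.2, hf _ h.2] at h1
    exact h1.symm)
  exact hPQ ▸ hxQ

/-- With an invariant separating the roots, two points with one invariant are related. -/
theorem Cert.related_of_inv (C : Cert K Ω N) (hN : 0 < N) {H : Subgroup M24}
    (hH : ∀ t ∈ C.gens, m24Of t ∈ H) {β : Type*} (f : X → β)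
    (hf : ∀ h ∈ H, ∀ x, f (h • x) = f x)
    (hsep : ∀ P ∈ C.parts, ∀ Q ∈ C.parts,
      f (K.dec (C.R P.root)) = f (K.dec (C.R Q.root)) → P = Q)
    {x y : X} (hx : x ∈ Ω) (hy : y ∈ Ω) (hxy : f x = f y) : ∃ h ∈ H, h • x = y := by
  obtain ⟨P, hP, hxP⟩ := C.exists_part hN hx
  obtain ⟨Q, hQ, hyQ⟩ := C.exists_part hN hy
  obtain ⟨a, ha, ha'⟩ := C.related hH hP (C.root_mem P) hxP
  obtain ⟨b, hb, hb'⟩ := C.related hH hQ (C.root_mem Q) hyQ
  have hPQ : P = Q := hsep P hP Q hQ (by
    have h1 := hxy
    rw [← ha', ← hb', hf a ha, hf b hb] at h1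
    exact h1)
  exact C.related hH hP hxP (hPQ ▸ hyQ)

end CfsgLib.GolayStructure
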