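/-
The kinds of objects on which orbit certificates are used.
-/
import Cfsg.Agent.Lib.GolayStructure.Walk
import Cfsg.Agent.Lib.GolayStructure.Sextet
import Cfsg.Agent.Lib.GolayStructure.OctadTable

set_option autoImplicit false

namespace CfsgLib.GolayStructure

open Cfsg CfsgLib.Golay
open scoped Pointwise symmDiff

theorem smul_mem_supports (g : M24) {s : Finset GolayPt}
    (hs : s ∈ supports (golayCode : Set (GolayPt → ZMod 2))) :
    g • s ∈ supports (golayCode : Set (GolayPt → ZMod 2)) := by
  have h := MulAction.mem_stabilizer_iff.1 g.2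
  rw [← h]
  exact Set.smul_mem_smul_set hs

theorem smul_mem_wordsOfWeight (g : M24) {n : ℕ} {s : Finset GolayPt}
    (hs : s ∈ wordsOfWeight (golayCode : Set (GolayPt → ZMod 2)) n) :
    g • s ∈ wordsOfWeight (golayCode : Set (GolayPt → ZMod 2)) n :=
  ⟨smul_mem_supports g hs.1, (Finset.card_smul_finset _ s).trans hs.2⟩

theorem smul_mem_octads (g : M24) {o : Finset GolayPt} (ho : o ∈ octads) : g • o ∈ octads :=
  smul_mem_wordsOfWeight g ho

theorem smul_mem_dodecads (g : M24) {d : Finset GolayPt} (hd : d ∈ dodecads) : g • d ∈ dodecads :=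
  smul_mem_wordsOfWeight g hd

theorem smul_union (g : M24) (s t : Finset GolayPt) : g • (s ∪ t) = g • s ∪ g • t :=
  Finset.smul_finset_union

theorem smul_compl (g : M24) (s : Finset GolayPt) : g • sᶜ = (g • s)ᶜ := by
  ext p
  simp only [Finset.mem_compl, ← Finset.inv_smul_mem_iff]

theorem card_smul (g : M24) (s : Finset GolayPt) : (g • s).card = s.card :=
  Finset.card_smul_finset _ s

theorem disjoint_smul {g : M24} {s t : Finset GolayPt} (h : Disjoint s t) :
    Disjoint (g • s) (g • t) := by
  rw [Finset.disjoint_left] at *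
  intro p hp hp'
  exact h (Finset.inv_smul_mem_iff.2 hp) (Finset.inv_smul_mem_iff.2 hp')

theorem smul_mem_sextets (g : M24) {S : Finset (Finset GolayPt)} (hS : S ∈ sextets) :
    g • S ∈ sextets := by
  refine ⟨(Finset.card_smul_finset _ S).trans hS.1, ?_, ?_⟩
  · intro t ht
    obtain ⟨t, ht', rfl⟩ := Finset.mem_smul_finset.1 ht
    rw [card_smul]; exact hS.2.1 t ht'
  · intro t ht u hu hne
    obtain ⟨t, ht', rfl⟩ := Finset.mem_smul_finset.1 ht
    obtain ⟨u, hu', rfl⟩ := Finset.mem_smul_finset.1 hu
    rw [← smul_union]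
    exact smul_mem_octads g (hS.2.2 t ht' u hu' fun h => hne (h ▸ rfl))

theorem smul_mem_trios (g : M24) {T : Finset (Finset GolayPt)} (hT : T ∈ trios) :
    g • T ∈ trios := by
  refine ⟨(Finset.card_smul_finset _ T).trans hT.1, ?_, ?_⟩
  · intro t ht
    obtain ⟨t, ht', rfl⟩ := Finset.mem_smul_finset.1 ht
    exact smul_mem_octads g (hT.2.1 t ht')
  · intro t ht u hu hne
    obtain ⟨t, ht', rfl⟩ := Finset.mem_smul_finset.1 ht
    obtain ⟨u, hu', rfl⟩ := Finset.mem_smul_finset.1 hu
    exact disjoint_smul (hT.2.2 t ht' u hu' fun h => hne (h ▸ rfl))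

theorem smul_sextetOf (g : M24) {t : Finset GolayPt} (ht : t.card = 4) :
    g • sextetOf t = sextetOf (g • t) :=
  eq_sextetOf (smul_mem_sextets g (sextetOf_mem ht))
    (Finset.smul_mem_smul_finset (Finset.mem_insert_self _ _))

theorem mem_octads_unmask {m : ℕ} (h : (inCode m && popc m == 8) = true) :
    unmask m ∈ octads := by
  simp only [Bool.and_eq_true, beq_iff_eq] at h
  exact mem_octads_iff.2 ⟨m, inCode_iff.1 h.1, h.2, rfl⟩

/-- Sets of points, represented by their masks. -/
def setKind : Kind (Finset GolayPt) where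
  dec := unmask
  ok t p r := imgMask t p == r
  ok_spec t ht p r h := by rw [m24Of_smul_unmask ht, beq_iff_eq.1 h]

/-- Sextets, represented by the mask of one tetrad. -/
noncomputable def sextetKind : Kind (Finset (Finset GolayPt)) where
  dec m := sextetOf (unmask m)
  ok t p r :=
    let q := imgMask t p
    popc p == 4 && popc r == 4 &&
      (q == r || (q &&& r == 0 && inCode (q ||| r)))
  ok_spec t ht p r h := by
    simp only [Bool.and_eq_true, Bool.or_eq_true, beq_iff_eq] at h
    obtain ⟨⟨hp, hr⟩, h⟩ := h
    rw [smul_sextetOf _ (by rw [card_unmask, hp]), m24Of_smul_unmask ht]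
    rcases h with h | ⟨hd, hc⟩
    · rw [h]
    · set q := imgMask t.1 p
      have hq : (unmask q).card = 4 := by
        rw [← m24Of_smul_unmask ht, card_smul, card_unmask, hp]
      have hr' : (unmask r).card = 4 := by rw [card_unmask, hr]
      have hdis := disjoint_unmask hd
      have ho : unmask q ∪ unmask r ∈ octads := by
        refine ⟨?_, by rw [Finset.card_union_of_disjoint hdis, hq, hr']⟩
        rw [← unmask_or]
        exact mem_supports_iff.2 ⟨_, inCode_iff.1 hc, rfl⟩
      exact (eq_sextetOf (sextetOf_mem hr')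
        (Finset.mem_insert_of_mem (mem_partners.2 ⟨_, ho, Finset.subset_union_right,
          Finset.union_sdiff_cancel_right hdis⟩))).symm

/-- The trio of a packed pair of octad masks. -/
def trioDec (m : ℕ) : Finset (Finset GolayPt) :=
  trioOf (unmask (m / 16777216)) (unmask (m % 16777216))

/-- The packed pair is two disjoint octads. -/
def trioOk (m : ℕ) : Bool :=
  isOctad (m / 16777216) && isOctad (m % 16777216) && (m / 16777216 &&& m % 16777216 == 0)

theorem trioDec_mem {m : ℕ} (h : trioOk m = true) : trioDec m ∈ trios := by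
  simp only [trioOk, Bool.and_eq_true] at h
  exact trioOf_mem (mem_octads_unmask (isOctad_spec h.1.1))
    (mem_octads_unmask (isOctad_spec h.1.2))
    (disjoint_unmask (beq_iff_eq.1 h.2))

/-- `q` is one of the three octads of a packed pair. -/
def trioHas (m q : ℕ) : Bool :=
  q == m / 16777216 || q == m % 16777216 ||
    q == (m / 16777216 ||| m % 16777216) ^^^ fullMask

theorem trioHas_mem {m q : ℕ} (h : trioHas m q = true) : unmask q ∈ trioDec m := by
  simp only [trioHas, Bool.or_eq_true, beq_iff_eq] at h
  rcases h with (rfl | rfl) | rfl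
  · simp [trioDec, trioOf]
  · simp [trioDec, trioOf]
  · rw [unmask_compl, unmask_or]
    simp [trioDec, trioOf]

/-- Trios, represented by packed pairs of octad masks. -/
def trioKind : Kind (Finset (Finset GolayPt)) where
  dec := trioDec
  ok t p r :=
    trioOk p && trioOk r && trioHas r (imgMask t (p / 16777216)) &&
      trioHas r (imgMask t (p % 16777216))
  ok_spec t ht p r h := by
    simp only [Bool.and_eq_true] at h
    obtain ⟨⟨⟨hp, hr⟩, h1⟩, h2⟩ := h
    have hg := smul_mem_trios (m24Of t) (trioDec_mem hp)
    have hne : m24Of t • unmask (p / 16777216) ≠ m24Of t • unmask (p % 16777216) := by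
      intro h
      simp only [trioOk, Bool.and_eq_true] at hp
      exact octad_ne_of_disjoint
        (mem_octads_unmask (isOctad_spec hp.1.1))
        (disjoint_unmask (beq_iff_eq.1 hp.2)) (smul_left_cancel _ h)
    have e1 : m24Of t • unmask (p / 16777216) ∈ m24Of t • trioDec p :=
      Finset.smul_mem_smul_finset (by simp [trioDec, trioOf])
    have e2 : m24Of t • unmask (p % 16777216) ∈ m24Of t • trioDec p :=
      Finset.smul_mem_smul_finset (by simp [trioDec, trioOf])
    have f1 := trioHas_mem h1
    have f2 := trioHas_mem h2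
    rw [← m24Of_smul_unmask ht] at f1 f2
    rw [eq_trioOf hg e1 e2 hne, eq_trioOf (trioDec_mem hr) f1 f2 hne]

/-- A set and its complement. -/
def pairDec (m : ℕ) : Finset (Finset GolayPt) := {unmask m, (unmask m)ᶜ}

/-- Unordered pairs of a set and its complement, represented by one mask. -/
def pairKind : Kind (Finset (Finset GolayPt)) where
  dec := pairDec
  ok t p r := imgMask t p == r || imgMask t p == r ^^^ fullMask
  ok_spec t ht p r h := by
    have hsm : m24Of t • pairDec p = pairDec (imgMask t.1 p) := by
      simp only [pairDec, Finset.smul_finset_insert, Finset.smul_finset_singleton, smul_compl,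
        m24Of_smul_unmask ht]
    rw [hsm]
    simp only [Bool.or_eq_true, beq_iff_eq] at h
    rcases h with h | h
    · rw [h]
    · rw [h, pairDec, pairDec, unmask_compl, compl_compl, Finset.pair_comm]

/-! ### Tables of representatives -/

/-- A table (fields of width `w`) is strictly increasing on its first `n` fields. -/
def incTable (w T : ℕ) : ℕ → Bool
  | 0 => true
  | 1 => true
  | n + 2 => (fieldAt w T n).blt (fieldAt w T (n + 1)) && incTable w T (n + 1)

theorem fieldAt_lt {w T : ℕ} : ∀ {n : ℕ}, incTable w T n = true → ∀ i j, i < j → j < n →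
    fieldAt w T i < fieldAt w T j
  | 0, _, i, j, _, hj => absurd hj (Nat.not_lt_zero j)
  | 1, _, i, j, hij, hj => absurd hij (by omega)
  | n + 2, h, i, j, hij, hj => by
    rw [incTable, Bool.and_eq_true, Nat.blt_eq] at h
    rcases Nat.lt_succ_iff_lt_or_eq.1 hj with hj' | rfl
    · exact fieldAt_lt h.2 i j hij hj'
    · rcases Nat.lt_succ_iff_lt_or_eq.1 hij with hi | rfl
      · exact (fieldAt_lt h.2 i n hi (by omega)).trans h.1
      · exact h.1

theorem fieldAt_injOn {w T n : ℕ} (h : incTable w T n = true) :
    Set.InjOn (fieldAt w T) {r | r < n} := by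
  intro a ha b hb he
  rcases lt_trichotomy a b with hab | hab | hab
  · exact absurd he (fieldAt_lt h a b hab hb).ne
  · exact hab
  · exact absurd he (fieldAt_lt h b a hab ha).ne'

theorem fieldAt_lt_pow (w T i : ℕ) : fieldAt w T i < 2 ^ w := Nat.mod_lt _ (Nat.two_pow_pos w)

theorem setKind_injOn {T n : ℕ} (h : incTable 24 T n = true) :
    Set.InjOn (fun r => setKind.dec (fieldAt 24 T r)) {r | r < n} := fun _ ha _ hb he =>
  fieldAt_injOn h ha hb (unmask_injOn (fieldAt_lt_pow ..) (fieldAt_lt_pow ..) he)

theorem sextetKind_injOn {T n : ℕ} (h : incTable 24 T n = true)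
    (hc : ((List.range n).all fun r =>
      popc (fieldAt 24 T r) == 4 && (fieldAt 24 T r).testBit 23) = true) :
    Set.InjOn (fun r => sextetKind.dec (fieldAt 24 T r)) {r | r < n} := by
  intro a ha b hb he
  have key : ∀ r < n, (unmask (fieldAt 24 T r)).card = 4 ∧ none ∈ unmask (fieldAt 24 T r) := by
    intro r hr
    have := List.all_eq_true.1 hc r (List.mem_range.2 hr)
    simp only [Bool.and_eq_true, beq_iff_eq] at this
    exact ⟨by rw [card_unmask, this.1], mem_unmask.2 this.2⟩
  refine fieldAt_injOn h ha hb (unmask_injOn (fieldAt_lt_pow ..) (fieldAt_lt_pow ..) ?_)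
  by_contra hne
  obtain ⟨ha4, haN⟩ := key a ha
  obtain ⟨hb4, hbN⟩ := key b hb
  have hb' : unmask (fieldAt 24 T b) ∈ sextetOf (unmask (fieldAt 24 T a)) := by
    have he : sextetOf (unmask (fieldAt 24 T a)) = sextetOf (unmask (fieldAt 24 T b)) := he
    rw [he]; exact Finset.mem_insert_self _ _
  exact Finset.disjoint_left.1
    (sextet_disjoint (sextetOf_mem ha4) (Finset.mem_insert_self _ _) hb' hne) haN hbN

/-- Is a packed pair in canonical form: the first octad holds point 23 and the second holds the
least point outside the first. -/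
def trioCanon (m : ℕ) : Bool :=
  trioOk m && (m / 16777216).testBit 23 &&
    match (List.range 24).find? (fun i => !(m / 16777216).testBit i) with
    | none => false
    | some i => (m % 16777216).testBit i

theorem trioKind_injOn {T n : ℕ} (h : incTable 48 T n = true)
    (hc : ((List.range n).all fun r => trioCanon (fieldAt 48 T r)) = true) :
    Set.InjOn (fun r => trioKind.dec (fieldAt 48 T r)) {r | r < n} := by
  intro a ha b hb he
  refine fieldAt_injOn h ha hb ?_
  have hca := List.all_eq_true.1 hc a (List.mem_range.2 ha)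
  have hcb := List.all_eq_true.1 hc b (List.mem_range.2 hb)
  have l1 := fieldAt_lt_pow 48 T a
  have l2 := fieldAt_lt_pow 48 T b
  change trioDec (fieldAt 48 T a) = trioDec (fieldAt 48 T b) at he
  generalize hA : fieldAt 48 T a = A at he hca l1
  generalize hB : fieldAt 48 T b = B at he hcb l2
  simp only [trioCanon, Bool.and_eq_true] at hca hcb
  obtain ⟨⟨oka, a23⟩, amatch⟩ := hca
  obtain ⟨⟨okb, b23⟩, bmatch⟩ := hcb
  have hTA := trioDec_mem oka
  set a1 := unmask (A / 16777216) with ha1
  set b1 := unmask (B / 16777216) with hb1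
  have ma1 : a1 ∈ trioDec A := by simp [trioDec, trioOf, ha1]
  have mb1 : b1 ∈ trioDec A := by rw [he]; simp [trioDec, trioOf, hb1]
  have e1 : a1 = b1 := by
    by_contra hne
    exact Finset.disjoint_left.1 (hTA.2.2 _ ma1 _ mb1 hne)
      (mem_unmask.2 a23 : (none : GolayPt) ∈ a1) (mem_unmask.2 b23)
  have e1' : A / 16777216 = B / 16777216 :=
    unmask_injOn (by omega) (by omega) e1
  rw [e1'] at amatch
  split at amatch
  · exact absurd amatch Bool.false_ne_true
  · rename_i i hi
    rw [hi] at bmatch
    have hi24 : i < 24 := List.mem_range.1 (List.mem_of_find?_eq_some hi)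
    have ma2 : unmask (A % 16777216) ∈ trioDec A := by simp [trioDec, trioOf]
    have mb2 : unmask (B % 16777216) ∈ trioDec A := by rw [he]; simp [trioDec, trioOf]
    have e2 : unmask (A % 16777216) = unmask (B % 16777216) := by
      by_contra hne
      exact Finset.disjoint_left.1 (hTA.2.2 _ ma2 _ mb2 hne)
        ((pt_mem_unmask hi24).2 amatch) ((pt_mem_unmask hi24).2 bmatch)
    have e2' := unmask_injOn (by omega) (by omega) e2
    omega

theorem pairKind_injOn {T n : ℕ} (h : incTable 24 T n = true)
    (hc : ((List.range n).all fun r => (fieldAt 24 T r).testBit 23) = true) :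
    Set.InjOn (fun r => pairKind.dec (fieldAt 24 T r)) {r | r < n} := by
  intro a ha b hb he
  have hca := List.all_eq_true.1 hc a (List.mem_range.2 ha)
  have hcb := List.all_eq_true.1 hc b (List.mem_range.2 hb)
  refine fieldAt_injOn h ha hb (unmask_injOn (fieldAt_lt_pow ..) (fieldAt_lt_pow ..) ?_)
  have hmem : unmask (fieldAt 24 T a) ∈ pairDec (fieldAt 24 T b) := by
    have he : pairDec (fieldAt 24 T a) = pairDec (fieldAt 24 T b) := he
    rw [← he]; simp [pairDec]
  simp only [pairDec, Finset.mem_insert, Finset.mem_singleton] at hmem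
  rcases hmem with hm | hm
  · exact hm
  · exfalso
    have hN : (none : GolayPt) ∈ unmask (fieldAt 24 T a) := mem_unmask.2 hca
    rw [hm, Finset.mem_compl] at hN
    exact hN (mem_unmask.2 hcb)

end CfsgLib.GolayStructure
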