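/-
Maximality of a point stabiliser from a decomposition of the orbit, and transfer between points.
-/
import Mathlib

set_option autoImplicit false

namespace CfsgLib.GolayStructure

open MulAction

variable {G X : Type*} [Group G] [MulAction G X]

/-- Some element above the stabiliser moves `x` onto a piece, hence onto all of it. -/
theorem orbit_meets_part {x : X} {K : Subgroup G} (hHK : stabilizer G x ≤ K) {P : Set X}
    (hP : ∀ y ∈ P, ∀ z ∈ P, ∃ h ∈ stabilizer G x, h • y = z)
    (h : ∃ y ∈ P, y ∈ orbit K x) : P ⊆ orbit K x := by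
  obtain ⟨y, hy, k, hk⟩ := h
  intro z hz
  obtain ⟨h, hh, hhz⟩ := hP y hy z hz
  refine ⟨⟨h, hHK hh⟩ * k, ?_⟩
  change (h * (k : G)) • x = z
  rw [mul_smul]
  exact (congrArg (h • ·) hk).trans hhz

/-- A point stabiliser is maximal if no union of the given pieces and the point has size dividing
the degree. -/
theorem isCoatom_stabilizer {ι : Type*} [Fintype ι] [DecidableEq ι] {x : X} {N : ℕ}
    (parts : ι → Set X) (size : ι → ℕ) (hN : (orbit G x).ncard = N) (h1 : 1 < N)
    (hsize : ∀ i, (parts i).ncard = size i) (hpos : ∀ i, 0 < size i)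
    (hrel : ∀ i, ∀ y ∈ parts i, ∀ z ∈ parts i, ∃ h ∈ stabilizer G x, h • y = z)
    (hdisj : ∀ i j, i ≠ j → Disjoint (parts i) (parts j)) (hx : ∀ i, x ∉ parts i)
    (hcover : orbit G x = {x} ∪ ⋃ i, parts i)
    (hdiv : ∀ J : Finset ι, (1 + ∑ i ∈ J, size i) ∣ N → J = ∅ ∨ J = Finset.univ) :
    IsCoatom (stabilizer G x) := by
  have hfin : (orbit G x).Finite := Set.finite_of_ncard_pos (by omega)
  have hidx : (stabilizer G x).index = N := by rw [index_stabilizer, hN]
  refine ⟨fun h => ?_, fun K hK => ?_⟩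
  · rw [h, Subgroup.index_top] at hidx; omega
  classical
  set J := Finset.univ.filter fun i => ∃ y ∈ parts i, y ∈ orbit K x with hJ
  have hsub : ∀ i, parts i ⊆ orbit G x := fun i => by
    rw [hcover]; exact Set.subset_union_of_subset_right (Set.subset_iUnion parts i) _
  have horb : orbit K x = {x} ∪ ⋃ i ∈ J, parts i := by
    ext z
    constructor
    · intro hz
      have hzG : z ∈ orbit G x := by
        obtain ⟨k, hk⟩ := hz; exact ⟨(k : G), hk⟩
      rw [hcover] at hzG
      rcases hzG with hzx | hzp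
      · exact Or.inl hzx
      · obtain ⟨i, hi⟩ := Set.mem_iUnion.1 hzp
        exact Or.inr (Set.mem_iUnion₂.2 ⟨i, by simp [hJ]; exact ⟨z, hi, hz⟩, hi⟩)
    · rintro (rfl | hz)
      · exact mem_orbit_self _
      · obtain ⟨i, hi, hzi⟩ := Set.mem_iUnion₂.1 hz
        exact orbit_meets_part hK.le (hrel i) (by simpa [hJ] using hi) hzi
  have hcard : (orbit K x).ncard = 1 + ∑ i ∈ J, size i := by
    have hu : (⋃ i ∈ J, parts i).ncard = ∑ i ∈ J, size i := by
      clear_value J
      clear horb hJ
      induction J using Finset.induction_on with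
      | empty => simp
      | insert a s ha ih =>
        rw [Finset.set_biUnion_insert, Set.ncard_union_eq
          (Set.disjoint_iUnion₂_right.2 fun j hj => hdisj a j fun e => ha (e ▸ hj))
          (hfin.subset (hsub a)) (hfin.subset (Set.iUnion₂_subset fun j _ => hsub j)),
          ih, hsize, Finset.sum_insert ha]
    have hnx : Disjoint {x} (⋃ i ∈ J, parts i) := by
      rw [Set.disjoint_singleton_left, Set.mem_iUnion₂]
      rintro ⟨i, -, hi⟩
      exact hx i hi
    rw [horb, Set.ncard_union_eq hnx (Set.finite_singleton x)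
      (hfin.subset (Set.iUnion₂_subset fun j _ => hsub j)), Set.ncard_singleton, hu]
  have hdvd : (orbit K x).ncard ∣ N := by
    have e : stabilizer K x = (stabilizer G x).subgroupOf K := by
      ext k; simp [Subgroup.mem_subgroupOf, mem_stabilizer_iff, Subgroup.smul_def]
    rw [← index_stabilizer K x, e, ← hidx]
    exact Subgroup.relIndex_dvd_index_of_le hK.le
  rcases hdiv J (hcard ▸ hdvd) with hJ0 | hJ1
  · exfalso
    apply hK.not_ge
    intro k hk
    have : k • x ∈ orbit K x := ⟨⟨k, hk⟩, rfl⟩
    rw [horb, hJ0] at this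
    simpa [mem_stabilizer_iff] using this
  · rw [eq_top_iff]
    intro g _
    have : g • x ∈ orbit K x := by
      rw [horb, hJ1]
      simp [← hcover]
    obtain ⟨k, hk⟩ := this
    have hmem : (k : G)⁻¹ * g ∈ stabilizer G x := by
      rw [mem_stabilizer_iff, mul_smul, ← hk]
      exact inv_smul_smul (k : G) x
    have := K.mul_mem k.2 (hK.le hmem)
    rwa [mul_inv_cancel_left] at this

/-- Conjugate stabilisers are maximal together. -/
theorem isCoatom_stabilizer_smul {x : X} (h : IsCoatom (stabilizer G x)) (g : G) :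
    IsCoatom (stabilizer G (g • x)) := by
  rw [stabilizer_smul_eq_stabilizer_map_conj]
  exact (OrderIso.isCoatom_iff
    ((MulAut.conj g).mapSubgroup : Subgroup G ≃o Subgroup G) _).2 h

/-- Orbits of conjugate stabilisers. -/
theorem orbit_stabilizer_smul (x y : X) (g : G) :
    orbit (stabilizer G (g • x)) (g • y) = (g • ·) '' orbit (stabilizer G x) y := by
  ext z
  constructor
  · rintro ⟨⟨h, hh⟩, rfl⟩
    refine ⟨(g⁻¹ * h * g) • y, ⟨⟨g⁻¹ * h * g, ?_⟩, rfl⟩, ?_⟩
    · rw [mem_stabilizer_iff] at hh ⊢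
      rw [mul_smul, mul_smul, hh, inv_smul_smul]
    · change g • (g⁻¹ * h * g) • y = h • g • y
      simp [← mul_smul, mul_assoc]
  · rintro ⟨_, ⟨⟨h, hh⟩, rfl⟩, rfl⟩
    refine ⟨⟨g * h * g⁻¹, ?_⟩, ?_⟩
    · rw [mem_stabilizer_iff] at hh ⊢
      rw [mul_smul, mul_smul, inv_smul_smul, hh]
    · change (g * h * g⁻¹) • g • y = g • h • y
      simp [← mul_smul, mul_assoc]

theorem ncard_orbit_stabilizer_smul (x y : X) (g : G) :
    (orbit (stabilizer G (g • x)) (g • y)).ncard = (orbit (stabilizer G x) y).ncard := by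
  rw [orbit_stabilizer_smul]
  exact Set.ncard_image_of_injective _ (MulAction.injective g)

end CfsgLib.GolayStructure
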