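/-
Consequences of orbit certificates.
-/
import Cfsg.Agent.Lib.GolayStructure.Kinds
import Cfsg.Agent.Lib.GolayStructure.Maximal

set_option autoImplicit false

namespace CfsgLib.GolayStructure

open Cfsg CfsgLib.Golay
open scoped Pointwise

variable {X : Type*} [MulAction M24 X] {K : Kind X} {Ω : Set X} {N : ℕ}

/-- A one-part certificate shows that the orbit of the root is everything. -/
theorem Cert.orbit_all (C : Cert K Ω N) (hN : 0 < N) (P : Part) (hparts : C.parts = [P])
    (hΩ : ∀ g : M24, ∀ x ∈ Ω, g • x ∈ Ω) :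
    MulAction.orbit M24 (K.dec (C.R P.root)) = Ω := by
  have hP : P ∈ C.parts := by simp [hparts]
  refine Set.Subset.antisymm ?_ ?_
  · rintro _ ⟨g, rfl⟩
    exact hΩ g _ (C.set_subset hP (C.root_mem P))
  · intro x hx
    obtain ⟨Q, hQ, hxQ⟩ := C.exists_part hN hx
    rw [hparts, List.mem_singleton] at hQ
    subst hQ
    obtain ⟨h, hh⟩ := C.set_subset_orbit (H := ⊤) (fun _ _ => Subgroup.mem_top _) hP hxQ
    exact ⟨(h : M24), hh⟩

/-- The generators fixing the base lie in its stabiliser. -/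
theorem gens_mem_stabilizer {gens : List (ℕ × ℕ)} {R : ℕ → ℕ} {r : ℕ}
    (hv : gens.all isM24Tbl = true) (hfix : (gens.all fun t => K.ok t.1 (R r) (R r)) = true) :
    ∀ t ∈ gens, m24Of t ∈ MulAction.stabilizer M24 (K.dec (R r)) := fun t ht =>
  K.ok_spec t (List.all_eq_true.1 hv t ht) _ _ (List.all_eq_true.1 hfix t ht)

/-- The stabiliser of the base is maximal. -/
theorem Cert.isCoatom_base (C : Cert K Ω N) (h1 : 1 < N) (P0 : Part) (others : List Part)
    (hparts : C.parts = P0 :: others) (hP0 : P0.size = 0)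
    (hH : ∀ t ∈ C.gens, m24Of t ∈ MulAction.stabilizer M24 (K.dec (C.R P0.root)))
    (horb : MulAction.orbit M24 (K.dec (C.R P0.root)) = Ω)
    (hdiv : ∀ J : Finset (Fin others.length),
      (1 + ∑ i ∈ J, (others[i].size + 1)) ∣ N → J = ∅ ∨ J = Finset.univ) :
    IsCoatom (MulAction.stabilizer M24 (K.dec (C.R P0.root))) := by
  have hmem : ∀ i : Fin others.length, others[i] ∈ C.parts := fun i => by
    rw [hparts]; exact List.mem_cons_of_mem _ (List.getElem_mem _)
  have h0 : P0 ∈ C.parts := by simp [hparts]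
  have hnd : C.parts.Nodup := by
    have := (List.nodup_flatMap.1 (nodup_ranks C.covers)).2
    refine this.imp fun {a b} h e => ?_
    subst e
    exact h List.mem_cons_self List.mem_cons_self
  rw [hparts, List.nodup_cons] at hnd
  refine isCoatom_stabilizer (fun i : Fin others.length => C.set others[i])
    (fun i => others[i].size + 1) (N := N) (by rw [horb, C.ncard_eq]) h1
    (fun i => C.ncard_set (hmem i)) (fun i => Nat.succ_pos _)
    (fun i y hy z hz => C.related hH (hmem i) hy hz) ?_ ?_ ?_ hdiv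
  · intro i j hij
    rw [Set.disjoint_left]
    intro y hy hy'
    exact hij (Fin.ext (hnd.2.getElem_inj_iff.1 (C.eq_of_mem (hmem i) (hmem j) hy hy')))
  · intro i hi
    exact hnd.1 ((C.eq_of_mem h0 (hmem i) (C.root_mem P0) hi) ▸ List.getElem_mem _)
  · rw [horb]
    refine Set.Subset.antisymm (fun x hx => ?_) ?_
    · obtain ⟨Q, hQ, hxQ⟩ := C.exists_part (by omega) hx
      rw [hparts] at hQ
      rcases List.mem_cons.1 hQ with rfl | hQ
      · obtain ⟨r, hr, rfl⟩ := hxQ
        left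
        rw [Part.ranks, List.eq_nil_of_length_eq_zero (l := List.map entryRank _)
          (by simp [length_treeList, hP0]), Set.mem_ofPred_eq, List.mem_singleton] at hr
        rw [Set.mem_singleton_iff]
        change K.dec (C.R r) = _
        rw [hr]
      · obtain ⟨i, hi, rfl⟩ := List.getElem_of_mem hQ
        exact Or.inr (Set.mem_iUnion.2 ⟨⟨i, hi⟩, hxQ⟩)
    · rintro x (rfl | hx)
      · exact C.set_subset h0 (C.root_mem P0)
      · obtain ⟨i, hi⟩ := Set.mem_iUnion.1 hx
        exact C.set_subset (hmem i) hi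

/-- Transfer of maximality to every element of `Ω`. -/
theorem isCoatom_of_base {x0 : X} (horb : MulAction.orbit M24 x0 = Ω)
    (h : IsCoatom (MulAction.stabilizer M24 x0)) {x : X} (hx : x ∈ Ω) :
    IsCoatom (MulAction.stabilizer M24 x) := by
  rw [← horb] at hx
  obtain ⟨g, rfl⟩ := hx
  exact isCoatom_stabilizer_smul h g

/-- The fibre of an invariant separating the roots is the part. -/
theorem Cert.fiber_eq (C : Cert K Ω N) (hN : 0 < N) {H : Subgroup M24}
    (hH : ∀ t ∈ C.gens, m24Of t ∈ H) {β : Type*} (f : X → β)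
    (hf : ∀ h ∈ H, ∀ x, f (h • x) = f x)
    (hsep : ∀ P ∈ C.parts, ∀ Q ∈ C.parts,
      f (K.dec (C.R P.root)) = f (K.dec (C.R Q.root)) → P = Q)
    {P : Part} (hP : P ∈ C.parts) :
    {x | x ∈ Ω ∧ f x = f (K.dec (C.R P.root))} = C.set P := by
  ext x
  constructor
  · rintro ⟨hx, hfx⟩
    obtain ⟨Q, hQ, hxQ⟩ := C.exists_part hN hx
    obtain ⟨a, ha, ha'⟩ := C.related hH hQ (C.root_mem Q) hxQ
    have : P = Q := hsep P hP Q hQ (by rw [← hfx, ← ha', hf a ha])
    exact this ▸ hxQ
  · intro hx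
    obtain ⟨a, ha, rfl⟩ := C.related hH hP (C.root_mem P) hx
    exact ⟨C.set_subset hP hx, hf a ha _⟩

/-- Invariance of intersection counts. -/
theorem card_smul_inter {g : M24} {o : Finset GolayPt}
    (hg : g ∈ MulAction.stabilizer M24 o) (x : Finset GolayPt) :
    (o ∩ g • x).card = (o ∩ x).card := by
  conv_lhs => rw [← MulAction.mem_stabilizer_iff.1 hg]
  rw [← Finset.smul_finset_inter]
  exact Finset.card_smul_finset _ _

theorem smul_set_sep (g : M24) (Ω : Set (Finset GolayPt)) (hΩ : ∀ g : M24, ∀ x ∈ Ω, g • x ∈ Ω)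
    (o : Finset GolayPt) (k : ℕ) :
    {x | x ∈ Ω ∧ ((g • o) ∩ x).card = k} = (g • ·) '' {x | x ∈ Ω ∧ (o ∩ x).card = k} := by
  ext x
  constructor
  · rintro ⟨hx, hk⟩
    refine ⟨g⁻¹ • x, ⟨hΩ _ x hx, ?_⟩, smul_inv_smul g x⟩
    rw [← hk, ← card_smul g (o ∩ g⁻¹ • x), Finset.smul_finset_inter, smul_inv_smul]
  · rintro ⟨y, ⟨hy, hk⟩, rfl⟩
    refine ⟨hΩ _ y hy, ?_⟩
    rw [← hk, ← card_smul g (o ∩ y), Finset.smul_finset_inter]

theorem card_inter_unmask (a b : ℕ) : (unmask a ∩ unmask b).card = popc (a &&& b) := by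
  rw [← unmask_and, card_unmask]

end CfsgLib.GolayStructure
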