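/-
Transitivity on octads and the suborbits of an octad stabiliser.
-/
import Cfsg.Agent.Lib.GolayStructure.DataOctad
import Cfsg.Agent.Lib.GolayStructure.Orbits

set_option autoImplicit false

namespace CfsgLib.GolayStructure

open Cfsg CfsgLib.Golay
open scoped Pointwise

theorem octad_mapsTo (r : ℕ) (hr : r < 759) : setKind.dec (fieldAt 24 octadTable r) ∈ octads :=
  mem_octads_unmask (List.all_eq_true.1 octad_canon r (List.mem_range.2 hr))

/-- All octads. -/
def octadAll : Cert setKind octads 759 where
  gens := octadAllGens
  R := fieldAt 24 octadTable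
  parts := octadAllParts
  gens_valid := octad_allGens
  parts_valid := octad_allParts
  covers := octad_allCovers
  injOn := setKind_injOn octad_inc
  mapsTo := octad_mapsTo
  ncard_eq := ncard_octads

/-- The suborbits of the base octad. -/
def octadSub : Cert setKind octads 759 where
  gens := octadStabGens
  R := fieldAt 24 octadTable
  parts := octadStabParts
  gens_valid := octad_stabGens
  parts_valid := octad_stabParts
  covers := octad_stabCovers
  injOn := setKind_injOn octad_inc
  mapsTo := octad_mapsTo
  ncard_eq := ncard_octads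

/-- The base octad. -/
def baseOctad : Finset GolayPt := unmask (fieldAt 24 octadTable octadRoot)

theorem orbit_baseOctad : MulAction.orbit M24 baseOctad = octads := by
  have h := octadAll.orbit_all (by norm_num) (octadAllParts.head (by simp [octadAllParts])) rfl
    fun g _ h => smul_mem_octads g h
  exact h

theorem exists_smul_baseOctad {o : Finset GolayPt} (ho : o ∈ octads) :
    ∃ g : M24, g • baseOctad = o := by
  rw [← orbit_baseOctad] at ho
  exact ho

theorem octadSub_gens : ∀ t ∈ octadSub.gens, m24Of t ∈ MulAction.stabilizer M24 baseOctad :=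
  gens_mem_stabilizer (K := setKind) octad_stabGens octad_stabFix

/-- The invariant of the suborbits. -/
def octadInv (x : Finset GolayPt) : ℕ := (baseOctad ∩ x).card

theorem octadInv_smul :
    ∀ h ∈ MulAction.stabilizer M24 baseOctad, ∀ x, octadInv (h • x) = octadInv x :=
  fun _ hh x => card_smul_inter hh x

theorem octadRoots_sep :
    (octadStabParts.all fun P => octadStabParts.all fun Q =>
      popc (fieldAt 24 octadTable octadRoot &&& fieldAt 24 octadTable P.root) !=
          popc (fieldAt 24 octadTable octadRoot &&& fieldAt 24 octadTable Q.root) ||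
        (P.root == Q.root && P.tree == Q.tree && P.size == Q.size)) = true := by
  decide +kernel

theorem octadSub_sep : ∀ P ∈ octadSub.parts, ∀ Q ∈ octadSub.parts,
    octadInv (setKind.dec (octadSub.R P.root)) = octadInv (setKind.dec (octadSub.R Q.root)) →
      P = Q := by
  intro P hP Q hQ h
  have := List.all_eq_true.1 (List.all_eq_true.1 octadRoots_sep P hP) Q hQ
  simp only [octadInv, baseOctad, setKind, octadSub, card_inter_unmask] at h
  simp only [Bool.or_eq_true, bne_iff_ne, ne_eq, Bool.and_eq_true, beq_iff_eq] at this
  rcases this with h' | ⟨⟨h1, h2⟩, h3⟩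
  · exact absurd h h'
  · cases P; cases Q; simp_all

theorem octad_related_base {x y : Finset GolayPt} (hx : x ∈ octads) (hy : y ∈ octads)
    (h : (baseOctad ∩ x).card = (baseOctad ∩ y).card) :
    ∃ g ∈ MulAction.stabilizer M24 baseOctad, g • x = y :=
  octadSub.related_of_inv (by norm_num) octadSub_gens octadInv octadInv_smul octadSub_sep hx hy h

theorem isCoatom_octad {o : Finset GolayPt} (ho : o ∈ octads) :
    IsCoatom (MulAction.stabilizer M24 o) := by
  refine isCoatom_of_base orbit_baseOctad ?_ ho
  have h := octadSub.isCoatom_base (by norm_num) (octadStabParts.head (by simp [octadStabParts]))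
    octadStabParts.tail rfl rfl octadSub_gens orbit_baseOctad (by decide +kernel)
  exact h

theorem octad_related {o x y : Finset GolayPt} (ho : o ∈ octads) (hx : x ∈ octads)
    (hy : y ∈ octads) (h : (o ∩ x).card = (o ∩ y).card) :
    ∃ g : M24, g • o = o ∧ g • x = y := by
  obtain ⟨a, rfl⟩ := exists_smul_baseOctad ho
  have e : ∀ z, (baseOctad ∩ a⁻¹ • z).card = ((a • baseOctad) ∩ z).card := fun z => by
    rw [← card_smul a (baseOctad ∩ a⁻¹ • z), Finset.smul_finset_inter, smul_inv_smul]
  obtain ⟨h', hh, he⟩ := octad_related_base (smul_mem_octads a⁻¹ hx) (smul_mem_octads a⁻¹ hy)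
    (by rw [e, e, h])
  refine ⟨a * h' * a⁻¹, ?_, ?_⟩
  · rw [mul_smul, mul_smul, inv_smul_smul, MulAction.mem_stabilizer_iff.1 hh]
  · rw [mul_smul, mul_smul, he, smul_inv_smul]

end CfsgLib.GolayStructure
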