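/-
Orders of the stabilisers of octads, sextets and trios.
-/
import Cfsg.Agent.Lib.Golay.M24
import Cfsg.Agent.Lib.GolayStructure.OctadOrbits

set_option autoImplicit false

namespace CfsgLib.GolayStructure

open Cfsg CfsgLib.Golay
open scoped Pointwise

/-- Orbit-stabiliser in the code group. -/
theorem card_stabilizer_of_orbit {X : Type*} [MulAction M24 X] {x0 x : X} {Ω : Set X}
    (horb : MulAction.orbit M24 x0 = Ω) (hx : x ∈ Ω) :
    Nat.card (MulAction.stabilizer M24 x) * Ω.ncard = 244823040 := by
  rw [← natCard_M24, ← horb, ← MulAction.orbit_eq_iff.2 (horb.symm ▸ hx : x ∈ MulAction.orbit M24 x0),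
    ← MulAction.index_stabilizer, Subgroup.card_mul_index]

theorem card_stabilizer_octad {o : Finset GolayPt} (ho : o ∈ octads) :
    Nat.card (MulAction.stabilizer M24 o) = 322560 := by
  have := card_stabilizer_of_orbit orbit_baseOctad ho
  rw [ncard_octads] at this
  omega

end CfsgLib.GolayStructure
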