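/-
The stabiliser of an octad: 2^4 : A8.
-/
import Cfsg.Agent.Lib.GolayStructure.StabOrders

set_option autoImplicit false

namespace CfsgLib.GolayStructure

open Cfsg CfsgLib.Golay
open scoped Pointwise

local notation "PermP" => Equiv.Perm GolayPt

/-- The elements of the code group fixing every point of `o`. -/
abbrev octadKernel (o : Finset GolayPt) : Subgroup PermP :=
  M24 ⊓ fixingSubgroup PermP (o : Set GolayPt)

/-- The elements of the code group fixing `o` setwise. -/
abbrev octadGroup (o : Finset GolayPt) : Subgroup PermP := M24 ⊓ MulAction.stabilizer PermP o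

theorem mem_octadKernel {o : Finset GolayPt} {g : PermP} :
    g ∈ octadKernel o ↔ g ∈ M24 ∧ ∀ p ∈ o, g p = p := by
  rw [Subgroup.mem_inf, mem_fixingSubgroup_iff]
  simp [Equiv.Perm.smul_def]

theorem mem_octadGroup {o : Finset GolayPt} {g : PermP} :
    g ∈ octadGroup o ↔ g ∈ M24 ∧ g • o = o :=
  Subgroup.mem_inf.trans (and_congr_right fun _ => MulAction.mem_stabilizer_iff)

theorem card_octadGroup {o : Finset GolayPt} (ho : o ∈ octads) :
    Nat.card (octadGroup o) = 322560 := by
  rw [← card_stabilizer_octad ho]
  exact Nat.card_congr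
    { toFun := fun g => ⟨⟨g.1, (mem_octadGroup.1 g.2).1⟩, (mem_octadGroup.1 g.2).2⟩
      invFun := fun g => ⟨g.1.1, mem_octadGroup.2 ⟨g.1.2, g.2⟩⟩
      left_inv := fun _ => rfl
      right_inv := fun _ => rfl }

theorem octadKernel_le (o : Finset GolayPt) : octadKernel o ≤ octadGroup o := by
  intro g hg
  rw [mem_octadKernel] at hg
  refine mem_octadGroup.2 ⟨hg.1, ?_⟩
  refine Finset.eq_of_subset_of_card_le ?_ (Finset.card_smul_finset g o).ge
  intro q hq
  obtain ⟨p, hp, rfl⟩ := Finset.mem_smul_finset.1 hq
  rw [Equiv.Perm.smul_def, hg.2 p hp]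
  exact hp

theorem octPts_mem : octadPts.all (fun n => (octMask &&& n == n) && popc n == 1) = true ∧
    ((List.range 24).all fun i => !octMask.testBit i || octadPts.contains (2 ^ i)) = true := by
  decide +kernel

theorem baseOctad_eq : baseOctad = unmask octMask :=
  congrArg unmask (by decide +kernel : fieldAt 24 octadTable octadRoot = octMask)

theorem octadKernel_base : octadKernel baseOctad = stabK octadPts := by
  ext g
  rw [mem_octadKernel, mem_stabK, baseOctad_eq]
  refine and_congr_right fun _ => ⟨fun h n hn => ?_, fun h p hp => ?_⟩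
  · have := List.all_eq_true.1 octPts_mem.1 n hn
    simp only [Bool.and_eq_true, beq_iff_eq] at this
    obtain ⟨q, hq⟩ := Finset.card_eq_one.1 ((card_unmask n).trans this.2)
    rw [hq, Finset.smul_finset_singleton, Equiv.Perm.smul_def, h q]
    refine unmask_subset (a := n) (b := octMask) ?_ (hq ▸ Finset.mem_singleton_self q)
    rw [Nat.and_comm]
    exact this.1
  · have h2 := List.all_eq_true.1 octPts_mem.2 (idx p) (List.mem_range.2 (idx_lt p))
    rw [mem_unmask.1 hp] at h2
    have := h (2 ^ idx p) (by simpa using h2)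
    rw [unmask_two_pow, Finset.smul_finset_singleton, Finset.singleton_inj] at this
    exact this

theorem card_octadKernel_base : Nat.card (octadKernel baseOctad) = 16 := by
  rw [octadKernel_base, card_stabK_octadPts]

theorem octadKernel_transitive_base {p q : GolayPt} (hp : p ∉ baseOctad) (hq : q ∉ baseOctad) :
    ∃ g ∈ octadKernel baseOctad, g p = q := by
  obtain ⟨-, O, hO, h1, h2, -⟩ := chainOK_cons (l := (1, [], (chainOctad.head (by simp [chainOctad])).2.2))
    (ls := []) (sets := octadPts) (final := finalOctad) chainOctad_ok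
  have hcompl : O = baseOctadᶜ := by
    refine Finset.eq_of_subset_of_card_le ?_ ?_
    · intro r hr
      obtain ⟨t, -, g, hg, -, rfl⟩ := h2 r hr
      rw [← octadKernel_base] at hg
      rw [Finset.mem_compl]
      intro hmem
      have hfix := (mem_octadKernel.1 hg).2 _ hmem
      have : pt 1 ∈ baseOctad := by
        have := g.injective hfix
        rwa [← this]
      rw [baseOctad_eq, pt_mem_unmask (by norm_num)] at this
      exact absurd this (by decide +kernel)
    · rw [Finset.card_compl, hO, card_golayPt,
        card_eq_of_mem_octads (orbit_baseOctad ▸ MulAction.mem_orbit_self baseOctad :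
          baseOctad ∈ octads)]
      decide +kernel
  obtain ⟨-, -, a, ha, -, rfl⟩ := h2 p (by rw [hcompl]; exact Finset.mem_compl.2 hp)
  obtain ⟨-, -, b, hb, -, rfl⟩ := h2 q (by rw [hcompl]; exact Finset.mem_compl.2 hq)
  rw [← octadKernel_base] at ha hb
  exact ⟨b * a⁻¹, mul_mem hb (inv_mem ha), by simp⟩

theorem mem_octadKernel_conj (a : M24) {o : Finset GolayPt} {g : PermP} :
    g ∈ octadKernel o ↔ (a : PermP) * g * (a : PermP)⁻¹ ∈ octadKernel (a • o) := by
  rw [mem_octadKernel, mem_octadKernel]
  refine and_congr ⟨fun h => mul_mem (mul_mem a.2 h) (inv_mem a.2), fun h => ?_⟩ ?_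
  · have := mul_mem (mul_mem (inv_mem a.2) h) a.2
    simpa [mul_assoc] using this
  · constructor
    · intro h p hp
      obtain ⟨q, hq, rfl⟩ := Finset.mem_smul_finset.1 hp
      change ((a : PermP) * g * (a : PermP)⁻¹) ((a : PermP) q) = (a : PermP) q
      simp [h q hq]
    · intro h q hq
      have := h ((a : PermP) q) (Finset.smul_mem_smul_finset (a := a) hq)
      simpa using this

theorem card_octadKernel {o : Finset GolayPt} (ho : o ∈ octads) :
    Nat.card (octadKernel o) = 16 := by
  obtain ⟨a, rfl⟩ := exists_smul_baseOctad ho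
  rw [← card_octadKernel_base]
  refine (Nat.card_congr ((MulAut.conj (a : PermP)).toEquiv.subtypeEquiv fun g => ?_)).symm
  exact mem_octadKernel_conj a

theorem octadKernel_transitive {o : Finset GolayPt} (ho : o ∈ octads) {p q : GolayPt}
    (hp : p ∉ o) (hq : q ∉ o) : ∃ g ∈ octadKernel o, g p = q := by
  obtain ⟨a, rfl⟩ := exists_smul_baseOctad ho
  have hmem : ∀ r, r ∉ a • baseOctad → (a : PermP)⁻¹ r ∉ baseOctad := fun r hr h => hr (by
    have := Finset.smul_mem_smul_finset (a := a) h
    rwa [show a • ((a : PermP)⁻¹ r) = r from (a : PermP).apply_symm_apply r] at this)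
  obtain ⟨g, hg, he⟩ := octadKernel_transitive_base (hmem p hp) (hmem q hq)
  refine ⟨_, (mem_octadKernel_conj a).1 hg, ?_⟩
  rw [Equiv.Perm.mul_apply, Equiv.Perm.mul_apply, he]
  simp

theorem octad_mem_iff {o : Finset GolayPt} {g : PermP} (hg : g ∈ octadGroup o) (x : GolayPt) :
    g x ∈ o ↔ x ∈ o := by
  have := Finset.smul_mem_smul_finset_iff (s := o) (b := x) g
  rwa [(mem_octadGroup.1 hg).2] at this

/-- The action on the points of an octad. -/
def octadRestrict (o : Finset GolayPt) : octadGroup o →* Equiv.Perm ↥o where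
  toFun g := (g : PermP).subtypePerm (octad_mem_iff g.2)
  map_one' := by ext x; rfl
  map_mul' g h := by ext x; rfl

theorem octadRestrict_ker (o : Finset GolayPt) :
    (octadRestrict o).ker = (octadKernel o).subgroupOf (octadGroup o) := by
  ext g
  rw [MonoidHom.mem_ker, Subgroup.mem_subgroupOf, mem_octadKernel]
  constructor
  · intro h
    refine ⟨(mem_octadGroup.1 g.2).1, fun p hp => ?_⟩
    have h1 := congrArg Subtype.val (DFunLike.congr_fun h (⟨p, hp⟩ : ↥o))
    exact h1
  · intro h
    exact Equiv.Perm.ext fun x => Subtype.ext (h.2 x.1 x.2)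

theorem octadRestrict_range {o : Finset GolayPt} (ho : o ∈ octads) :
    (octadRestrict o).range = alternatingGroup ↥o := by
  apply Equiv.Perm.eq_alternatingGroup_of_index_eq_two
  have h1 := Subgroup.card_mul_index (octadRestrict o).ker
  rw [Subgroup.index_ker, card_octadGroup ho, octadRestrict_ker,
    Nat.card_congr (Subgroup.subgroupOfEquivOfLe (octadKernel_le o)).toEquiv,
    card_octadKernel ho] at h1
  have h2 := Subgroup.card_mul_index (octadRestrict o).range
  rw [Nat.card_perm, Nat.card_eq_fintype_card (α := ↥o), Fintype.card_coe,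
    card_eq_of_mem_octads ho, show Nat.factorial 8 = 40320 by decide] at h2
  have h3 : Nat.card (octadRestrict o).range = 20160 := by omega
  rw [h3] at h2
  omega

/-- The elements fixing an octad and a point. -/
abbrev octadPointGroup (o : Finset GolayPt) (p : GolayPt) : Subgroup PermP :=
  M24 ⊓ MulAction.stabilizer PermP o ⊓ MulAction.stabilizer PermP p

theorem card_octadPointGroup {o : Finset GolayPt} (ho : o ∈ octads) {p : GolayPt} (hp : p ∉ o) :
    Nat.card (octadPointGroup o p) = 20160 ∧ octadKernel o ⊓ octadPointGroup o p = ⊥ := by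
  have hc : (oᶜ).card = 16 := by rw [Finset.card_compl, card_eq_of_mem_octads ho, card_golayPt]
  have h1 := card_subgroup_mul (K := octadGroup o) (p := p) (O := oᶜ)
    (fun g hg => by rw [Finset.mem_compl, octad_mem_iff hg]; exact hp)
    (fun q hq => by
      obtain ⟨g, hg, he⟩ := octadKernel_transitive ho hp (Finset.mem_compl.1 hq)
      exact ⟨g, octadKernel_le o hg, he⟩)
  rw [card_octadGroup ho, hc] at h1
  have h2 := card_subgroup_mul (K := octadKernel o) (p := p) (O := oᶜ)
    (fun g hg => by rw [Finset.mem_compl, octad_mem_iff (octadKernel_le o hg)]; exact hp)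
    (fun q hq => octadKernel_transitive ho hp (Finset.mem_compl.1 hq))
  rw [card_octadKernel ho, hc] at h2
  have hbot : octadKernel o ⊓ MulAction.stabilizer PermP p = ⊥ :=
    Subgroup.card_eq_one.1 (by omega)
  refine ⟨by change Nat.card ↥(octadGroup o ⊓ MulAction.stabilizer PermP p) = 20160; omega, ?_⟩
  rw [eq_bot_iff, ← hbot]
  exact inf_le_inf_left _ inf_le_right

theorem octadKernel_sup {o : Finset GolayPt} (ho : o ∈ octads) {p : GolayPt} (hp : p ∉ o) :
    octadKernel o ⊔ octadPointGroup o p = octadGroup o := by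
  refine le_antisymm (sup_le (octadKernel_le o) inf_le_left) fun g hg => ?_
  obtain ⟨a, ha, he⟩ := octadKernel_transitive ho hp (q := g p)
    (fun h => hp ((octad_mem_iff hg p).1 h))
  have hb : a⁻¹ * g ∈ octadPointGroup o p := by
    refine Subgroup.mem_inf.2 ⟨mul_mem (inv_mem (octadKernel_le o ha)) hg, ?_⟩
    change (a⁻¹ * g) p = p
    rw [Equiv.Perm.mul_apply, ← he]
    simp
  have := Subgroup.mul_mem_sup ha hb
  rwa [mul_inv_cancel_left] at this

theorem octadPointGroup_iso {o : Finset GolayPt} (ho : o ∈ octads) {p : GolayPt} (hp : p ∉ o) :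
    Nonempty (octadPointGroup o p ≃* alternatingGroup (Fin 8)) := by
  set ρ := (octadRestrict o).comp (Subgroup.inclusion (inf_le_left :
    octadPointGroup o p ≤ octadGroup o))
  have hinj : Function.Injective ρ := by
    rw [← MonoidHom.ker_eq_bot_iff, eq_bot_iff]
    intro g hg
    have hk : Subgroup.inclusion (inf_le_left : octadPointGroup o p ≤ octadGroup o) g ∈
        (octadRestrict o).ker := hg
    rw [octadRestrict_ker, Subgroup.mem_subgroupOf] at hk
    have : (g : PermP) ∈ octadKernel o ⊓ octadPointGroup o p := ⟨hk, g.2⟩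
    rw [(card_octadPointGroup ho hp).2, Subgroup.mem_bot] at this
    exact Subtype.ext this
  have hmem : ∀ g, ρ g ∈ alternatingGroup ↥o := fun g => by
    rw [← octadRestrict_range ho]
    exact ⟨_, rfl⟩
  let ρ' : octadPointGroup o p →* alternatingGroup ↥o := ρ.codRestrict _ hmem
  have hcard : Nat.card (alternatingGroup ↥o) = 20160 := by
    have : Nontrivial ↥o := Fintype.one_lt_card_iff_nontrivial.1 (by
      rw [Fintype.card_coe, card_eq_of_mem_octads ho]; norm_num)
    rw [nat_card_alternatingGroup, Nat.card_eq_fintype_card, Fintype.card_coe,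
      card_eq_of_mem_octads ho]
    decide
  have hinj' : Function.Injective ρ' := fun a b h => hinj (congrArg Subtype.val h)
  have hbij : Function.Bijective ρ' :=
    (Nat.bijective_iff_injective_and_card _).2 ⟨hinj', by
      rw [(card_octadPointGroup ho hp).1, hcard]⟩
  exact ⟨(MulEquiv.ofBijective ρ' hbij).trans
    (Finset.equivFinOfCardEq (card_eq_of_mem_octads ho)).altCongrHom⟩

end CfsgLib.GolayStructure
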