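/-
The minimal vectors of the lattice by shape, and the action of the monomial group on them.
-/
import Cfsg.Agent.Lib.Leech.Order
import Cfsg.Agent.Lib.Leech.Pairs
import Cfsg.Agent.Lib.GolayStructure.OctadStab
import Cfsg.Agent.Lib.Golay.Stab

set_option autoImplicit false

namespace CfsgLib.GolayStructure

open Cfsg CfsgLib.Leech CfsgLib.Fischer2
open scoped Pointwise Classical

/-- A monomial automorphism of the lattice. -/
def monoAut (d : golayCode) (σ : M24) : Co0 := signAut d * permAut σ

theorem coordVec_monoAut (d : golayCode) (σ : M24) (w : leechLattice) (i : GolayPt) :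
    coordVec (monoAut d σ • w) i =
      if (d : GolayPt → ZMod 2) i = 0 then coordVec w ((σ : Equiv.Perm GolayPt).symm i)
      else -coordVec w ((σ : Equiv.Perm GolayPt).symm i) := by
  rw [monoAut, mul_smul, coordVec_signAut, coordVec_permAut]

/-- The stabiliser of the standard frame. -/
noncomputable abbrev monoGroup : Subgroup Co0 := MulAction.stabilizer Co0 (crossOf vecA)

theorem monoAut_mem (d : golayCode) (σ : M24) : monoAut d σ ∈ monoGroup :=
  mem_stabilizer_crossOf.2 (smul_vecA_monomial d σ)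

theorem leech_ext {v w : leechLattice} (h : ∀ i, coordVec v i = coordVec w i) : v = w :=
  Subtype.ext (funext h)

/-- Two nonzero coordinates, both `±4`. -/
def fourShape : Set leechLattice :=
  {w | ∃ i j, i ≠ j ∧ |coordVec w i| = 4 ∧ |coordVec w j| = 4 ∧
    ∀ p, p ≠ i → p ≠ j → coordVec w p = 0}

/-- `±2` on an octad, zero elsewhere. -/
def octShape : Set leechLattice :=
  {w | ∃ O ∈ octads, (∀ p ∈ O, |coordVec w p| = 2) ∧ ∀ p ∉ O, coordVec w p = 0}

/-- One `±3`, the rest `±1`. -/
def oddShape : Set leechLattice :=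
  {w | ∃ k, |coordVec w k| = 3 ∧ ∀ p, p ≠ k → |coordVec w p| = 1}

theorem shape_cases (w : leechLattice) (hn : sqNorm (coordVec w) = 32) :
    w ∈ fourShape ∨ w ∈ octShape ∨ w ∈ oddShape := by
  rcases even_or_odd_coords w with h | h
  · rcases shape32 w hn h with h' | h'
    · exact Or.inr (Or.inl h')
    · exact Or.inl h'
  · exact Or.inr (Or.inr (odd_shape32 w hn h))

theorem fourShape_abs {w : leechLattice} (h : w ∈ fourShape) (p : GolayPt) :
    coordVec w p = 0 ∨ |coordVec w p| = 4 := by
  obtain ⟨i, j, -, hi, hj, h0⟩ := h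
  by_cases h1 : p = i
  · exact Or.inr (h1 ▸ hi)
  by_cases h2 : p = j
  · exact Or.inr (h2 ▸ hj)
  exact Or.inl (h0 p h1 h2)

theorem octShape_abs {w : leechLattice} (h : w ∈ octShape) (p : GolayPt) :
    coordVec w p = 0 ∨ |coordVec w p| = 2 := by
  obtain ⟨O, -, h2, h0⟩ := h
  by_cases h1 : p ∈ O
  · exact Or.inr (h2 p h1)
  · exact Or.inl (h0 p h1)

theorem oddShape_abs {w : leechLattice} (h : w ∈ oddShape) (p : GolayPt) :
    |coordVec w p| = 1 ∨ |coordVec w p| = 3 := by
  obtain ⟨k, h3, h1⟩ := h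
  by_cases h : p = k
  · exact Or.inr (h ▸ h3)
  · exact Or.inl (h1 p h)

theorem sqNorm_of_fourShape {w : leechLattice} (h : w ∈ fourShape) :
    sqNorm (coordVec w) = 32 := by
  obtain ⟨i, j, hij, hi, hj, h0⟩ := h
  have e : ∀ p, coordVec w p ^ 2 =
      (if p = i then 16 else 0) + (if p = j then (16 : ℤ) else 0) := fun p => by
    by_cases h1 : p = i
    · subst h1; rw [if_pos rfl, if_neg hij, ← sq_abs, hi]; norm_num
    by_cases h2 : p = j
    · subst h2; rw [if_pos rfl, if_neg h1, ← sq_abs, hj]; norm_num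
    rw [if_neg h1, if_neg h2, h0 p h1 h2]; norm_num
  simp only [sqNorm, e, Finset.sum_add_distrib, Finset.sum_ite_eq', Finset.mem_univ, if_true]
  norm_num

theorem sqNorm_of_octShape {w : leechLattice} (h : w ∈ octShape) :
    sqNorm (coordVec w) = 32 := by
  obtain ⟨O, hO, h2, h0⟩ := h
  have e : ∀ p, coordVec w p ^ 2 = if p ∈ O then (4 : ℤ) else 0 := fun p => by
    by_cases h1 : p ∈ O
    · rw [if_pos h1, ← sq_abs, h2 p h1]; norm_num
    · rw [if_neg h1, h0 p h1]; norm_num
  simp only [sqNorm, e, Finset.sum_ite_mem, Finset.univ_inter, Finset.sum_const,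
    CfsgLib.Golay.card_eq_of_mem_octads hO]
  norm_num

theorem sqNorm_of_oddShape {w : leechLattice} (h : w ∈ oddShape) :
    sqNorm (coordVec w) = 32 := by
  obtain ⟨k, h3, h1⟩ := h
  have e : ∀ p, coordVec w p ^ 2 = 1 + if p = k then (8 : ℤ) else 0 := fun p => by
    by_cases hp : p = k
    · subst hp; rw [if_pos rfl, ← sq_abs, h3]; norm_num
    · rw [if_neg hp, ← sq_abs, h1 p hp]; norm_num
  simp only [sqNorm, e, Finset.sum_add_distrib, Finset.sum_ite_eq', Finset.mem_univ, if_true]
  simp [GolayPt]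

/-- The signs of an odd minimal vector are those of a code word. -/
theorem exists_odd_word {w : leechLattice} {k : GolayPt} (h3 : |coordVec w k| = 3)
    (h1 : ∀ p, p ≠ k → |coordVec w p| = 1) :
    ∃ c : golayCode, w = signAut c • oddVec k := by
  obtain ⟨m, hm, c, hc, hr, -⟩ := mem_leechLattice_iff_residues.1 w.2
  have hm1 : m = 1 := by
    have h := hr k
    rcases hm with rfl | rfl
    · exfalso
      rcases bitVec_cases c k with e | e <;> rw [e] at h <;>
        rcases abs_choice (coordVec w k) with e' | e' <;> simp only [coordVec] at h3 e' <;> omega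
    · rfl
  subst hm1
  refine ⟨⟨c, hc⟩, leech_ext fun p => ?_⟩
  rw [coordVec_signAut, coordVec_oddVec]
  have h := hr p
  have h' : |coordVec w p| = if p = k then 3 else 1 := by
    split_ifs with hp
    · rw [hp]; exact h3
    · exact h1 p hp
  simp only [bitVec] at h
  rcases zmod2_cases (c p) with e | e <;>
    simp only [e, one_ne_zero, if_true, if_false] at h ⊢ <;>
    split_ifs at h' ⊢ <;> rcases abs_choice (coordVec w p) with e' | e' <;>
    simp only [coordVec] at h' e' ⊢ <;> omega

theorem signAut_oddVec_injective :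
    Function.Injective fun x : golayCode × GolayPt => signAut x.1 • oddVec x.2 := by
  rintro ⟨c, k⟩ ⟨c', k'⟩ h
  have hp : ∀ p, coordVec (signAut c • oddVec k) p = coordVec (signAut c' • oddVec k') p :=
    fun p => congrArg (fun v => coordVec v p) h
  simp only [coordVec_signAut, coordVec_oddVec] at hp
  have hk : k = k' := by
    by_contra hne
    have := hp k
    rw [if_pos rfl, if_neg hne] at this
    split_ifs at this <;> omega
  subst hk
  refine Prod.ext (Subtype.ext (funext fun p => ?_)) rfl
  have := hp p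
  revert this
  rcases zmod2_cases ((c : GolayPt → ZMod 2) p) with a | a <;>
    rcases zmod2_cases ((c' : GolayPt → ZMod 2) p) with b | b <;>
    simp only [a, b, one_ne_zero, if_true, if_false, implies_true] <;>
    split_ifs <;> intro this <;> first | omega | (exfalso; omega)

/-- Equal octad vectors from agreement on seven points. -/
theorem octShape_ext {w w' : leechLattice} {O : Finset GolayPt}
    (h : ∀ p ∈ O, |coordVec w p| = 2) (h' : ∀ p ∈ O, |coordVec w' p| = 2)
    (h0 : ∀ p ∉ O, coordVec w p = 0) (h0' : ∀ p ∉ O, coordVec w' p = 0) {o : GolayPt}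
    (heq : ∀ p ∈ O, p ≠ o → coordVec w p = coordVec w' p) : w = w' := by
  have hev : ∀ (u : leechLattice), (∀ p ∈ O, |coordVec u p| = 2) →
      (∀ p ∉ O, coordVec u p = 0) → ∀ p, coordVec u p % 2 = 0 := fun u hu hu0 p => by
    by_cases hp : p ∈ O
    · have := hu p hp
      rcases abs_choice (coordVec u p) with e | e <;> omega
    · rw [hu0 p hp]; rfl
  have hp : ∀ p, p ≠ o → coordVec w p = coordVec w' p := fun p hpo => by
    by_cases hpO : p ∈ O
    · exact heq p hpO hpo
    · rw [h0 p hpO, h0' p hpO]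
  refine leech_ext fun p => ?_
  by_cases hpo : p = o
  · subst hpo
    by_cases hpO : p ∈ O
    · have s1 := sum_mod_eight w (hev w h h0)
      have s2 := sum_mod_eight w' (hev w' h' h0')
      have hs : ∑ q, coordVec w q - ∑ q, coordVec w' q = coordVec w p - coordVec w' p := by
        rw [← Finset.sum_sub_distrib]
        exact Finset.sum_eq_single p (fun q _ hq => sub_eq_zero.2 (hp q hq))
          (fun hq => absurd (Finset.mem_univ p) hq)
      have a1 := h p hpO
      have a2 := h' p hpO
      rcases abs_choice (coordVec w p) with e | e <;>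
        rcases abs_choice (coordVec w' p) with e' | e' <;> (rw [e] at a1; rw [e'] at a2; omega)
    · rw [h0 p hpO, h0' p hpO]
  · exact hp p hpo

/-- Moving an octad vector to another, agreeing on prescribed points. -/
theorem exists_octad_move {w w' : leechLattice} {O O' : Finset GolayPt}
    (h : ∀ p ∈ O, |coordVec w p| = 2) (h' : ∀ p ∈ O', |coordVec w' p| = 2)
    (h0 : ∀ p ∉ O, coordVec w p = 0) (h0' : ∀ p ∉ O', coordVec w' p = 0) (σ : M24)
    (hσ : σ • O = O') {o : GolayPt} (d : golayCode)
    (hd : ∀ p ∈ O', p ≠ o → (d : GolayPt → ZMod 2) p =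
      if coordVec w ((σ : Equiv.Perm GolayPt).symm p) = coordVec w' p then 0 else 1) :
    monoAut d σ • w = w' := by
  have hmem : ∀ p, (σ : Equiv.Perm GolayPt).symm p ∈ O ↔ p ∈ O' := fun p => by
    rw [← hσ]
    exact ⟨fun hp => Finset.mem_smul_finset.2 ⟨_, hp, Equiv.apply_symm_apply _ p⟩, fun hp => by
      obtain ⟨q, hq, rfl⟩ := Finset.mem_smul_finset.1 hp
      exact (Equiv.symm_apply_apply (σ : Equiv.Perm GolayPt) q).symm ▸ hq⟩
  have habs : ∀ p ∈ O', |coordVec (monoAut d σ • w) p| = 2 := fun p hp => by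
    rw [coordVec_monoAut]
    have := h _ ((hmem p).2 hp)
    split_ifs
    · exact this
    · rw [abs_neg]; exact this
  refine octShape_ext habs h' (fun p hp => ?_) h0' (o := o) fun p hp hpo => ?_
  · rw [coordVec_monoAut, h0 _ (fun hh => hp ((hmem p).1 hh)), neg_zero, ite_self]
  · rw [coordVec_monoAut, hd p hp hpo]
    by_cases e : coordVec w ((σ : Equiv.Perm GolayPt).symm p) = coordVec w' p
    · rw [if_pos e, if_pos rfl, e]
    · rw [if_neg e, if_neg one_ne_zero]
      have a1 := h _ ((hmem p).2 hp)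
      have a2 := h' p hp
      rcases abs_choice (coordVec w ((σ : Equiv.Perm GolayPt).symm p)) with x | x <;>
        rcases abs_choice (coordVec w' p) with y | y <;> omega

theorem octShape_transitive {w w' : leechLattice} (hw : w ∈ octShape) (hw' : w' ∈ octShape) :
    ∃ g ∈ monoGroup, g • w = w' := by
  obtain ⟨O, hO, h, h0⟩ := hw
  obtain ⟨O', hO', h', h0'⟩ := hw'
  obtain ⟨g, hgO⟩ := CfsgLib.Golay.octad_transitive hO hO'
  obtain ⟨o, ho⟩ : O'.Nonempty :=
    Finset.card_pos.1 (by rw [CfsgLib.Golay.card_eq_of_mem_octads hO']; norm_num)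
  obtain ⟨d, hd, hdv⟩ := exists_code_on (T := O'.erase o)
    (by rw [Finset.card_erase_of_mem ho, CfsgLib.Golay.card_eq_of_mem_octads hO'])
    (fun p => if coordVec w ((g : Equiv.Perm GolayPt).symm p) = coordVec w' p then 0 else 1)
  exact ⟨_, monoAut_mem ⟨d, hd⟩ g,
    exists_octad_move h h' h0 h0' g hgO ⟨d, hd⟩ (o := o)
      fun p hp hpo => hdv p (Finset.mem_erase.2 ⟨hpo, hp⟩)⟩

theorem fourShape_move {w w' : leechLattice} {i j i' j' : GolayPt}
    (hi : |coordVec w i| = 4) (hj : |coordVec w j| = 4)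
    (h0 : ∀ p, p ≠ i → p ≠ j → coordVec w p = 0) (hi' : |coordVec w' i'| = 4)
    (hj' : |coordVec w' j'| = 4) (h0' : ∀ p, p ≠ i' → p ≠ j' → coordVec w' p = 0) (σ : M24)
    (hσi : (σ : Equiv.Perm GolayPt) i = i') (hσj : (σ : Equiv.Perm GolayPt) j = j')
    (d : golayCode)
    (hdi : (d : GolayPt → ZMod 2) i' = if coordVec w i = coordVec w' i' then 0 else 1)
    (hdj : (d : GolayPt → ZMod 2) j' = if coordVec w j = coordVec w' j' then 0 else 1) :
    monoAut d σ • w = w' := by
  refine leech_ext fun p => ?_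
  rw [coordVec_monoAut]
  have key : ∀ a a', (σ : Equiv.Perm GolayPt) a = a' → |coordVec w a| = 4 → |coordVec w' a'| = 4 →
      (d : GolayPt → ZMod 2) a' = (if coordVec w a = coordVec w' a' then 0 else 1) →
      (if (d : GolayPt → ZMod 2) a' = 0 then coordVec w ((σ : Equiv.Perm GolayPt).symm a')
        else -coordVec w ((σ : Equiv.Perm GolayPt).symm a')) = coordVec w' a' := by
    intro a a' ha hwa hwa' hda
    rw [show (σ : Equiv.Perm GolayPt).symm a' = a by rw [← ha, Equiv.symm_apply_apply], hda]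
    by_cases e : coordVec w a = coordVec w' a'
    · rw [if_pos e, if_pos rfl, e]
    · rw [if_neg e, if_neg one_ne_zero]
      rcases abs_choice (coordVec w a) with x | x <;>
        rcases abs_choice (coordVec w' a') with y | y <;> omega
  by_cases hpi : p = i'
  · subst hpi; exact key i p hσi hi hi' hdi
  by_cases hpj : p = j'
  · subst hpj; exact key j p hσj hj hj' hdj
  rw [h0' p hpi hpj, h0 _ (fun e => hpi (by rw [← hσi, ← e, Equiv.apply_symm_apply]))
    (fun e => hpj (by rw [← hσj, ← e, Equiv.apply_symm_apply])), neg_zero, ite_self]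

theorem fourShape_transitive {w w' : leechLattice} (hw : w ∈ fourShape) (hw' : w' ∈ fourShape) :
    ∃ g ∈ monoGroup, g • w = w' := by
  obtain ⟨i, j, hij, hi, hj, h0⟩ := hw
  obtain ⟨i', j', hij', hi', hj', h0'⟩ := hw'
  obtain ⟨g, hg, hgi, hgj⟩ := exists_M24_pair hij hij'
  obtain ⟨d, hd, hdv⟩ := exists_code_on (T := {i', j'})
    (by rw [Finset.card_pair hij']; norm_num)
    (fun p => if coordVec w (g.symm p) = coordVec w' p then 0 else 1)
  refine ⟨_, monoAut_mem ⟨d, hd⟩ ⟨g, hg⟩,
    fourShape_move hi hj h0 hi' hj' h0' ⟨g, hg⟩ hgi hgj ⟨d, hd⟩ ?_ ?_⟩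
  · show d i' = _
    rw [hdv i' (by simp), show g.symm i' = i by rw [← hgi, Equiv.symm_apply_apply]]
  · show d j' = _
    rw [hdv j' (by simp), show g.symm j' = j by rw [← hgj, Equiv.symm_apply_apply]]

theorem oddVec_move (c c' : golayCode) {k k' : GolayPt} (σ : M24)
    (hσ : (σ : Equiv.Perm GolayPt) k = k') (d : golayCode)
    (hd : ∀ p, (d : GolayPt → ZMod 2) p =
      (c' : GolayPt → ZMod 2) p + (c : GolayPt → ZMod 2) ((σ : Equiv.Perm GolayPt).symm p)) :
    monoAut d σ • (signAut c • oddVec k) = signAut c' • oddVec k' := by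
  refine leech_ext fun p => ?_
  rw [coordVec_monoAut, coordVec_signAut, coordVec_signAut, coordVec_oddVec, coordVec_oddVec,
    hd p]
  have hiff : (σ : Equiv.Perm GolayPt).symm p = k ↔ p = k' := by
    rw [Equiv.symm_apply_eq, hσ]
  simp only [hiff]
  rcases zmod2_cases ((c' : GolayPt → ZMod 2) p) with a | a <;>
    rcases zmod2_cases ((c : GolayPt → ZMod 2) ((σ : Equiv.Perm GolayPt).symm p)) with b | b <;>
    simp [a, b, show (1 : ZMod 2) + 1 = 0 by decide]

theorem moved_word_mem (c c' : golayCode) (σ : M24) :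
    (fun p => (c' : GolayPt → ZMod 2) p + (c : GolayPt → ZMod 2)
      ((σ : Equiv.Perm GolayPt).symm p)) ∈ golayCode :=
  golayCode.add_mem c'.2 (comp_mem_golayCode (σ := (σ : Equiv.Perm GolayPt).symm) (M24.inv_mem σ.2) c.2)

theorem oddShape_transitive {w w' : leechLattice} (hw : w ∈ oddShape) (hw' : w' ∈ oddShape) :
    ∃ g ∈ monoGroup, g • w = w' := by
  obtain ⟨k, h3, h1⟩ := hw
  obtain ⟨k', h3', h1'⟩ := hw'
  obtain ⟨c, rfl⟩ := exists_odd_word h3 h1
  obtain ⟨c', rfl⟩ := exists_odd_word h3' h1'
  have := CfsgLib.Golay.M24_transitive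
  obtain ⟨g, hg⟩ := MulAction.exists_smul_eq M24 k k'
  exact ⟨_, monoAut_mem _ g,
    oddVec_move c c' g hg ⟨_, moved_word_mem c c' g⟩ fun p => rfl⟩

/-- The vectors of squared length 32 in the residue classes of a set of code words. -/
def minBlocks (T : Finset golayCode) : Set leechLattice :=
  {w | ∃ c ∈ T, HasResidues 0 (c : GolayPt → ZMod 2) (coordVec w) ∧ sqNorm (coordVec w) = 32}

theorem ncard_minBlocks (T : Finset golayCode) :
    (minBlocks T).ncard = ∑ c ∈ T, blockCount 0 (c : GolayPt → ZMod 2) 32 := by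
  let S : ↥T → Set (GolayPt → ℤ) := fun c =>
    {x | HasResidues 0 ((c : golayCode) : GolayPt → ZMod 2) x ∧ ∑ i, x i ≡ 4 * 0 [ZMOD 8] ∧
      sqNorm x = ((32 : ℕ) : ℤ)}
  have hlat : ∀ (c : golayCode) (x : GolayPt → ℤ), HasResidues 0 (c : GolayPt → ZMod 2) x →
      ∑ i, x i ≡ 4 * 0 [ZMOD 8] → x ∈ leechLattice := fun c x h h' =>
    mem_leechLattice_iff_residues.2 ⟨0, Or.inl rfl, _, c.2, h, h'⟩
  have hu : Subtype.val '' minBlocks T = ⋃ c, S c := by
    ext x
    simp only [Set.mem_image, minBlocks, Set.mem_ofPred_eq, Set.mem_iUnion, S]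
    constructor
    · rintro ⟨w, ⟨c, hc, hr, hn⟩, rfl⟩
      refine ⟨⟨c, hc⟩, hr, ?_, by simpa using hn⟩
      obtain ⟨m, hm, c', -, hr', hs⟩ := mem_leechLattice_iff_residues.1 w.2
      obtain ⟨rfl, -⟩ := hr'.unique hm (Or.inl rfl) hr
      exact hs
    · rintro ⟨c, hr, hs, hn⟩
      exact ⟨⟨x, hlat _ x hr hs⟩, ⟨c, c.2, hr, by simpa using hn⟩, rfl⟩
  have hfin : ∀ c, (S c).Finite := fun c =>
    (layer_finite 32).subset fun x hx => ⟨hlat _ x hx.1 hx.2.1, by simpa using hx.2.2⟩
  rw [← Set.ncard_image_of_injective _ Subtype.val_injective, hu,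
    Set.ncard_iUnion_of_finite hfin (fun a b hab => Set.disjoint_left.2 fun x hx hx' =>
      hab (Subtype.ext (Subtype.ext (hx.1.unique (Or.inl rfl) (Or.inl rfl) hx'.1).2))),
    finsum_eq_sum_of_fintype, ← Finset.sum_coe_sort T]
  rfl

theorem residue_eq (w : leechLattice) {c : GolayPt → ZMod 2}
    (h : HasResidues 0 c (coordVec w)) (p : GolayPt) :
    (c p = 0 ∧ coordVec w p % 4 = 0) ∨ (c p = 1 ∧ coordVec w p % 4 = 2) := by
  have := h p
  rcases zmod2_cases (c p) with e | e <;> simp only [bitVec, e, one_ne_zero, if_true, if_false] at this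
  · exact Or.inl ⟨e, by omega⟩
  · exact Or.inr ⟨e, by omega⟩

theorem fourShape_eq :
    fourShape = minBlocks {⟨0, golayCode.zero_mem⟩} := by
  ext w
  simp only [minBlocks, Finset.mem_singleton, exists_eq_left, Set.mem_ofPred_eq]
  constructor
  · intro h
    refine ⟨fun p => ?_, sqNorm_of_fourShape h⟩
    simp only [bitVec, Pi.zero_apply, if_true]
    rcases fourShape_abs h p with e | e
    · rw [e]; rfl
    · rcases abs_choice (coordVec w p) with e' | e' <;> omega
  · rintro ⟨hr, hn⟩
    rcases shape_cases w hn with h | h | h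
    · exact h
    · exfalso
      obtain ⟨O, hO, h2, -⟩ := h
      obtain ⟨p, hp⟩ : O.Nonempty :=
        Finset.card_pos.1 (by rw [CfsgLib.Golay.card_eq_of_mem_octads hO]; norm_num)
      rcases residue_eq w hr p with ⟨-, e⟩ | ⟨e, -⟩
      · have := h2 p hp
        rcases abs_choice (coordVec w p) with e' | e' <;> omega
      · simp at e
    · exfalso
      rcases residue_eq w hr none with ⟨-, e⟩ | ⟨e, -⟩
      · rcases oddShape_abs h none with a | a <;>
          rcases abs_choice (coordVec w none) with e' | e' <;> omega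
      · simp at e

theorem ncard_fourShape : fourShape.ncard = 1104 := by
  rw [fourShape_eq, ncard_minBlocks, Finset.sum_singleton,
    blockCount_zero _ golayCode.zero_mem (Or.inl rfl)]
  simp [blockSize, support₂]

/-- An octad vector lies in the residue class of the word of its octad. -/
theorem octShape_residue {w : leechLattice} (hw : w ∈ octShape) :
    ∃ c : golayCode, (support₂ (c : GolayPt → ZMod 2)).card = 8 ∧
      HasResidues 0 (c : GolayPt → ZMod 2) (coordVec w) := by
  obtain ⟨O, hO, h2, h0⟩ := hw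
  refine ⟨⟨_, CfsgLib.Leech.mem_supports_iff.1 hO.1⟩, ?_, fun p => ?_⟩
  · rw [show support₂ (fun i => if i ∈ O then (1 : ZMod 2) else 0) = O by ext i; simp [support₂]]
    exact CfsgLib.Golay.card_eq_of_mem_octads hO
  · by_cases hp : p ∈ O
    · have := h2 p hp
      simp only [bitVec, hp, if_true, one_ne_zero, if_false]
      rcases abs_choice (coordVec w p) with e | e <;> omega
    · simp [bitVec, hp, h0 p hp]

theorem octShape_of_residue {w : leechLattice} (hn : sqNorm (coordVec w) = 32)
    {c : GolayPt → ZMod 2} (hc : (support₂ c).card = 8) (hr : HasResidues 0 c (coordVec w)) :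
    w ∈ octShape ∧ ∀ p, |coordVec w p| = if c p = 0 then 0 else 2 := by
  obtain ⟨p0, hp0⟩ : (support₂ c).Nonempty := Finset.card_pos.1 (by rw [hc]; norm_num)
  simp only [support₂, Finset.mem_filter, Finset.mem_univ, true_and] at hp0
  have hoct : w ∈ octShape := by
    rcases shape_cases w hn with h | h | h
    · exfalso
      rcases residue_eq w hr p0 with ⟨e, -⟩ | ⟨-, e⟩
      · exact hp0 e
      · rcases fourShape_abs h p0 with a | a
        · omega
        · rcases abs_choice (coordVec w p0) with e' | e' <;> omega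
    · exact h
    · exfalso
      rcases oddShape_abs h none with a | a <;>
        rcases abs_choice (coordVec w none) with e' | e' <;>
        rcases residue_eq w hr none with ⟨-, e⟩ | ⟨-, e⟩ <;> omega
  refine ⟨hoct, fun p => ?_⟩
  rcases octShape_abs hoct p with a | a <;> rcases residue_eq w hr p with ⟨e, e'⟩ | ⟨e, e'⟩
  · rw [if_pos e, a, abs_zero]
  · omega
  · rcases abs_choice (coordVec w p) with b | b <;> omega
  · rw [e, if_neg one_ne_zero, a]

theorem octShape_eq :
    octShape = minBlocks (Finset.univ.filter fun c : golayCode =>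
      (support₂ (c : GolayPt → ZMod 2)).card = 8) := by
  ext w
  simp only [minBlocks, Finset.mem_filter, Finset.mem_univ, true_and, Set.mem_ofPred_eq]
  constructor
  · intro h
    obtain ⟨c, hc, hr⟩ := octShape_residue h
    exact ⟨c, hc, hr, sqNorm_of_octShape h⟩
  · rintro ⟨c, hc, hr, hn⟩
    exact (octShape_of_residue hn hc hr).1

theorem ncard_octShape : octShape.ncard = 97152 := by
  rw [octShape_eq, ncard_minBlocks, Finset.sum_congr rfl fun (c : golayCode) hc =>
    (blockCount_zero (c : GolayPt → ZMod 2) c.2 (Or.inl rfl)).trans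
      (congrArg (blockSize 32) (Finset.mem_filter.1 hc).2),
    Finset.sum_const, smul_eq_mul, ncard_code_weight]
  have hw := weight_count_values
  simp only [List.map_cons, List.map_nil, List.cons.injEq, and_true] at hw
  simp [hw, blockSize]

theorem oddShape_eq :
    oddShape = Set.range fun x : golayCode × GolayPt => signAut x.1 • oddVec x.2 := by
  ext w
  constructor
  · rintro ⟨k, h3, h1⟩
    obtain ⟨c, rfl⟩ := exists_odd_word h3 h1
    exact ⟨(c, k), rfl⟩
  · rintro ⟨⟨c, k⟩, rfl⟩
    refine ⟨k, ?_, fun p hp => ?_⟩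
    · rw [signAut_abs, coordVec_oddVec, if_pos rfl]; norm_num
    · rw [signAut_abs, coordVec_oddVec, if_neg hp]; norm_num

theorem ncard_oddShape : oddShape.ncard = 98304 := by
  rw [oddShape_eq, Set.ncard_range_of_injective signAut_oddVec_injective, Nat.card_prod,
    card_golayCode]
  simp [GolayPt]

end CfsgLib.GolayStructure
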