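/-
Transitivity on duads, suborbit certificate and maximality of the stabiliser.
-/
import Cfsg.Agent.Lib.GolayStructure.DataDuad
import Cfsg.Agent.Lib.GolayStructure.Orbits

set_option autoImplicit false

namespace CfsgLib.GolayStructure

open Cfsg CfsgLib.Golay
open scoped Pointwise

/-- The pairs of points. -/
def duads : Set (Finset GolayPt) := {s | s.card = 2}

theorem ncard_duads : duads.ncard = 276 := by
  rw [duads, show {s : Finset GolayPt | s.card = 2} = ↑((Finset.univ : Finset GolayPt).powersetCard 2) by
    ext; simp, Set.ncard_coe_finset, Finset.card_powersetCard, card_univ_golayPt]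
  norm_num [Nat.choose_eq_descFactorial_div_factorial, Nat.descFactorial, Nat.factorial]

theorem smul_mem_duads (g : M24) {s : Finset GolayPt} (hs : s ∈ duads) : g • s ∈ duads :=
  (card_smul g s).trans hs

theorem duad_mapsTo (r : ℕ) (hr : r < 276) :
    (setKind).dec (fieldAt 24 duadTable r) ∈ duads := by
  show (unmask (fieldAt 24 duadTable r)).card = 2
  rw [card_unmask]
  exact beq_iff_eq.1 (List.all_eq_true.1 duad_canon r (List.mem_range.2 hr))

/-- All of them. -/
def duadAll : Cert setKind duads 276 where
  gens := duadAllGens
  R := fieldAt 24 duadTable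
  parts := duadAllParts
  gens_valid := duad_allGens
  parts_valid := duad_allParts
  covers := duad_allCovers
  injOn := setKind_injOn duad_inc
  mapsTo := duad_mapsTo
  ncard_eq := ncard_duads

/-- The suborbits of the base one. -/
def duadSub : Cert setKind duads 276 where
  gens := duadStabGens
  R := fieldAt 24 duadTable
  parts := duadStabParts
  gens_valid := duad_stabGens
  parts_valid := duad_stabParts
  covers := duad_stabCovers
  injOn := setKind_injOn duad_inc
  mapsTo := duad_mapsTo
  ncard_eq := ncard_duads

/-- The base one. -/
def baseDuad : Finset GolayPt := (setKind).dec (fieldAt 24 duadTable duadRoot)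

theorem orbit_baseDuad : MulAction.orbit M24 baseDuad = duads := by
  have h := duadAll.orbit_all (by norm_num) (duadAllParts.head (by simp [duadAllParts])) rfl
    fun g _ h => smul_mem_duads g h
  exact h

theorem exists_smul_baseDuad {x : Finset GolayPt} (hx : x ∈ duads) : ∃ g : M24, g • baseDuad = x := by
  rw [← orbit_baseDuad] at hx
  exact hx

theorem duadSub_gens : ∀ t ∈ duadSub.gens, m24Of t ∈ MulAction.stabilizer M24 baseDuad :=
  gens_mem_stabilizer (K := setKind) duad_stabGens duad_stabFix

theorem isCoatom_duad {x : Finset GolayPt} (hx : x ∈ duads) : IsCoatom (MulAction.stabilizer M24 x) := by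
  refine isCoatom_of_base orbit_baseDuad ?_ hx
  have h := duadSub.isCoatom_base (by norm_num) (duadStabParts.head (by simp [duadStabParts]))
    duadStabParts.tail rfl rfl duadSub_gens orbit_baseDuad
    (by decide +kernel)
  exact h

end CfsgLib.GolayStructure
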