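/-
Tools for recognising subgroups of the code group from their index, and the index 276.
-/
import Cfsg.Agent.Lib.Golay.Stab
import Cfsg.Agent.Lib.GolayStructure.StabOrders
import Cfsg.Agent.Lib.GolayStructure.DuadOrbits

set_option autoImplicit false

namespace CfsgLib.GolayStructure

open Cfsg CfsgLib.Golay
open scoped Pointwise Classical

/-- The orbit of a point under a subgroup of the code group. -/
noncomputable def subOrb (H : Subgroup M24) (x : GolayPt) : Finset GolayPt :=
  Finset.univ.filter fun y => ∃ h ∈ H, h • x = y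

theorem mem_subOrb {H : Subgroup M24} {x y : GolayPt} :
    y ∈ subOrb H x ↔ ∃ h ∈ H, h • x = y := by simp [subOrb]

theorem self_mem_subOrb (H : Subgroup M24) (x : GolayPt) : x ∈ subOrb H x :=
  mem_subOrb.2 ⟨1, one_mem H, one_smul _ x⟩

theorem smul_mem_subOrb {H : Subgroup M24} {h : M24} (hh : h ∈ H) {x y : GolayPt}
    (hy : y ∈ subOrb H x) : h • y ∈ subOrb H x := by
  obtain ⟨k, hk, rfl⟩ := mem_subOrb.1 hy
  exact mem_subOrb.2 ⟨h * k, mul_mem hh hk, mul_smul h k x⟩

theorem subOrb_eq_of_mem {H : Subgroup M24} {x y : GolayPt} (hy : y ∈ subOrb H x) :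
    subOrb H y = subOrb H x := by
  obtain ⟨k, hk, rfl⟩ := mem_subOrb.1 hy
  ext z
  simp only [mem_subOrb]
  constructor
  · rintro ⟨h, hh, rfl⟩
    exact ⟨h * k, mul_mem hh hk, mul_smul h k x⟩
  · rintro ⟨h, hh, rfl⟩
    exact ⟨h * k⁻¹, mul_mem hh (inv_mem hk), by rw [mul_smul, inv_smul_smul]⟩

theorem ncard_orbit_mul {X : Type*} [MulAction M24 X] (H : Subgroup M24) (x : X) :
    {y | ∃ h ∈ H, h • x = y}.ncard * Nat.card ↥(H ⊓ MulAction.stabilizer M24 x) = Nat.card H := by
  have h1 : {y | ∃ h ∈ H, h • x = y} = MulAction.orbit H x := by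
    ext y
    constructor
    · rintro ⟨h, hh, rfl⟩; exact ⟨⟨h, hh⟩, rfl⟩
    · rintro ⟨⟨h, hh⟩, rfl⟩; exact ⟨h, hh, rfl⟩
  have h2 : Nat.card (MulAction.stabilizer H x) =
      Nat.card ↥(H ⊓ MulAction.stabilizer M24 x) := Nat.card_congr
    { toFun := fun g => ⟨g.1.1, g.1.2, g.2⟩
      invFun := fun g => ⟨⟨g.1, g.2.1⟩, g.2.2⟩
      left_inv := fun _ => rfl
      right_inv := fun _ => rfl }
  rw [h1, ← MulAction.index_stabilizer, ← h2, mul_comm, Subgroup.card_mul_index]

theorem card_subOrb_mul (H : Subgroup M24) (x : GolayPt) :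
    (subOrb H x).card * Nat.card ↥(H ⊓ MulAction.stabilizer M24 x) = Nat.card H := by
  rw [← ncard_orbit_mul H x]
  congr 1
  rw [← Set.ncard_coe_finset]
  congr 1
  ext y
  simp [subOrb]

theorem card_subOrb_dvd (H : Subgroup M24) (x : GolayPt) :
    (subOrb H x).card ∣ Nat.card H :=
  Dvd.intro _ (card_subOrb_mul H x)

theorem card_eq_of_index {H : Subgroup M24} {n : ℕ} (hn : H.index = n) :
    Nat.card H * n = 244823040 := by
  rw [← hn, Subgroup.card_mul_index, natCard_M24]

/-- The fixed points in an invariant set of an element of prime order. -/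
theorem fixed_modEq {X : Type*} [DecidableEq X] [MulAction M24 X] {p : ℕ} [Fact p.Prime] {g : M24}
    (hg : g ^ p = 1) (s : Finset X) (hs : ∀ x ∈ s, g • x ∈ s) :
    (s.filter fun x => g • x = x).card ≡ s.card [MOD p] := by
  have heq : g • s = s := Finset.eq_of_subset_of_card_le
    (fun y hy => by obtain ⟨x, hx, rfl⟩ := Finset.mem_smul_finset.1 hy; exact hs x hx)
    (Finset.card_smul_finset g s).ge
  have hiff : ∀ x, MulAction.toPerm g x ∈ s ↔ x ∈ s := fun x => by
    conv_lhs => rw [← heq]
    exact Finset.smul_mem_smul_finset_iff g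
  have hσ : (MulAction.toPerm g).subtypePerm hiff ^ p ^ 1 = 1 := by
    rw [pow_one, Equiv.Perm.subtypePerm_pow]
    ext x
    show ((MulAction.toPerm g : Equiv.Perm X) ^ p) x.1 = x.1
    rw [← MulAction.toPermHom_apply, ← map_pow, hg, map_one]
    rfl
  have h := Equiv.Perm.card_compl_support_modEq hσ
  rw [Fintype.card_coe] at h
  refine Eq.trans (congrArg (· % p) ?_) h
  refine Finset.card_bij (fun x hx => ⟨x, (Finset.mem_filter.1 hx).1⟩) ?_ ?_ ?_
  · intro x hx
    simp only [Finset.mem_compl, Equiv.Perm.mem_support, ne_eq, not_not]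
    exact Subtype.ext (Finset.mem_filter.1 hx).2
  · intro x _ y _ h
    exact congrArg Subtype.val h
  · rintro ⟨x, hx⟩ h
    simp only [Finset.mem_compl, Equiv.Perm.mem_support, ne_eq, not_not] at h
    exact ⟨x, Finset.mem_filter.2 ⟨hx, congrArg Subtype.val h⟩, rfl⟩

/-- An element of order 5, 7 or 11 fixes fewer than five points. -/
theorem fixed_lt_five {g : M24} {p : ℕ} (hp : p = 5 ∨ p = 7 ∨ p = 11) (hg : orderOf g = p) :
    (Finset.univ.filter fun x : GolayPt => g • x = x).card < 5 := by
  by_contra hlt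
  rw [not_lt] at hlt
  obtain ⟨t, ht, htc⟩ := Finset.exists_subset_card_eq hlt
  let e : Fin 5 ↪ GolayPt :=
    ((t.equivFin.trans (finCongr htc)).symm.toEmbedding).trans (Function.Embedding.subtype _)
  have hmem : g ∈ MulAction.stabilizer M24 e := by
    rw [MulAction.mem_stabilizer_iff]
    exact DFunLike.ext _ _ fun i =>
      (Finset.mem_filter.1 (ht ((t.equivFin.trans (finCongr htc)).symm i).2)).2
  have hd := Subgroup.orderOf_dvd_natCard _ hmem
  have horb : MulAction.orbit M24 e = Set.univ :=
    Set.eq_univ_of_forall fun f => by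
      obtain ⟨k, hk, hk'⟩ := exists_M24_map e f
      exact ⟨⟨k, hk⟩, DFunLike.ext _ _ hk'⟩
  have hc := card_stabilizer_of_orbit horb (Set.mem_univ e)
  rw [Set.ncard_univ, Nat.card_eq_fintype_card (α := Fin 5 ↪ GolayPt), Fintype.card_embedding_eq,
    Fintype.card_fin, card_golayPt, show Nat.descFactorial 24 5 = 5100480 by decide] at hc
  rw [hg, show Nat.card (MulAction.stabilizer M24 e) = 48 by omega] at hd
  rcases hp with rfl | rfl | rfl <;> omega

/-- Exact number of fixed points. -/
theorem fixed_card {g : M24} {p r : ℕ} (hp : p = 5 ∧ r = 4 ∨ p = 7 ∧ r = 3 ∨ p = 11 ∧ r = 2)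
    (hg : orderOf g = p) : (Finset.univ.filter fun x : GolayPt => g • x = x).card = r := by
  have h5 := fixed_lt_five (p := p) (by omega) hg
  have : Fact p.Prime := ⟨by rcases hp with ⟨rfl, -⟩ | ⟨rfl, -⟩ | ⟨rfl, -⟩ <;> norm_num⟩
  have h := fixed_modEq (hg ▸ pow_orderOf_eq_one g) (Finset.univ : Finset GolayPt)
    (fun x _ => Finset.mem_univ _)
  rw [card_univ_golayPt, Nat.ModEq] at h
  rcases hp with ⟨rfl, rfl⟩ | ⟨rfl, rfl⟩ | ⟨rfl, rfl⟩ <;> omega

theorem exists_orderOf {H : Subgroup M24} (p : ℕ) [Fact p.Prime] (h : p ∣ Nat.card H) :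
    ∃ g ∈ H, orderOf g = p := by
  obtain ⟨g, hg⟩ := exists_prime_orderOf_dvd_card' (G := H) p h
  exact ⟨g, g.2, by rw [← hg]; exact Subgroup.orderOf_coe g⟩

theorem card_stabilizer_duad {s : Finset GolayPt} (hs : s.card = 2) :
    Nat.card (MulAction.stabilizer M24 s) = 887040 := by
  have h := card_stabilizer_of_orbit orbit_baseDuad (show s ∈ duads from hs)
  rw [ncard_duads] at h
  omega

theorem card_le_of_le {H K : Subgroup M24} (h : H ≤ K) : Nat.card H ≤ Nat.card K :=
  Nat.card_le_card_of_injective _ (Subgroup.inclusion_injective h)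

/-- The subgroups of index 276 are the stabilisers of pairs. -/
theorem eq_duad_stabilizer {H : Subgroup M24} (hn : H.index = 276) :
    ∃ s : Finset GolayPt, s.card = 2 ∧ H = MulAction.stabilizer M24 s := by
  have hN : Nat.card H = 887040 := by have := card_eq_of_index hn; omega
  have : Fact (Nat.Prime 11) := ⟨by norm_num⟩
  have : Fact (Nat.Prime 7) := ⟨by norm_num⟩
  obtain ⟨g, hgH, hg⟩ := exists_orderOf 11 (show 11 ∣ Nat.card H by rw [hN]; norm_num)
  obtain ⟨a, b, hab, hF⟩ :=
    Finset.card_eq_two.1 (fixed_card (r := 2) (Or.inr (Or.inr ⟨rfl, rfl⟩)) hg)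
  have hfix : ∀ x, g • x = x ↔ x = a ∨ x = b := fun x => by
    have := Finset.ext_iff.1 hF x
    simpa using this
  have hmod : ∀ s : Finset GolayPt, (∀ x ∈ s, g • x ∈ s) →
      (s ∩ {a, b}).card % 11 = s.card % 11 := by
    intro s hs
    have h := fixed_modEq (p := 11) (hg ▸ pow_orderOf_eq_one g) s hs
    rw [show (s.filter fun x => g • x = x) = s ∩ {a, b} by ext x; simp [hfix]] at h
    exact h
  have h12 : ∀ K : Subgroup M24, 7 ∣ Nat.card K → ∀ x, (subOrb K x).card ≠ 12 := by
    intro K hK x hx
    obtain ⟨k, hkK, hk⟩ := exists_orderOf 7 hK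
    have h := fixed_modEq (p := 7) (hk ▸ pow_orderOf_eq_one k) (subOrb K x)
      (fun y hy => smul_mem_subOrb hkK hy)
    have h3 := fixed_card (r := 3) (Or.inr (Or.inl ⟨rfl, rfl⟩)) hk
    have hle := Finset.card_le_card
      (Finset.filter_subset_filter (fun y => k • y = y) (Finset.subset_univ (subOrb K x)))
    rw [h3] at hle
    rw [hx, Nat.ModEq] at h
    omega
  have hle24 : ∀ (K : Subgroup M24) (x : GolayPt), (subOrb K x).card ≤ 24 := fun K x =>
    card_univ_golayPt ▸ Finset.card_le_univ _
  have haA : a ∈ subOrb H a := self_mem_subOrb H a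
  have hd : (subOrb H a).card ∣ 887040 := hN ▸ card_subOrb_dvd H a
  have hA := hmod (subOrb H a) (fun x hx => smul_mem_subOrb hgH hx)
  have hne12 := h12 H (by rw [hN]; norm_num) a
  by_cases hbA : b ∈ subOrb H a
  · have hc : (subOrb H a ∩ {a, b}).card = 2 := by
      rw [Finset.inter_eq_right.2 (by simp [Finset.insert_subset_iff, haA, hbA]),
        Finset.card_pair hab]
    rw [hc] at hA
    have hcase : (subOrb H a).card = 2 ∨ (subOrb H a).card = 24 := by
      have := hle24 H a
      have hne13 : (subOrb H a).card ≠ 13 := fun h => by rw [h] at hd; norm_num at hd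
      omega
    rcases hcase with h2 | h24
    · refine ⟨subOrb H a, h2, Subgroup.eq_of_le_of_card_ge (fun h hh => ?_) ?_⟩
      · rw [MulAction.mem_stabilizer_iff]
        refine Finset.eq_of_subset_of_card_le ?_ (Finset.card_smul_finset h _).ge
        intro y hy
        obtain ⟨x, hx, rfl⟩ := Finset.mem_smul_finset.1 hy
        exact smul_mem_subOrb hh hx
      · rw [card_stabilizer_duad h2, hN]
    · exfalso
      have hM : Nat.card ↥(H ⊓ MulAction.stabilizer M24 a) = 36960 := by
        have := card_subOrb_mul H a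
        rw [h24, hN] at this
        omega
      have hgK : g ∈ H ⊓ MulAction.stabilizer M24 a := ⟨hgH, (hfix a).2 (Or.inl rfl)⟩
      have haB : a ∉ subOrb (H ⊓ MulAction.stabilizer M24 a) b := by
        intro h
        obtain ⟨k, hk, he⟩ := mem_subOrb.1 h
        have h2 : k • b = k • a := he.trans hk.2.symm
        exact hab (MulAction.injective k h2).symm
      have hB := hmod (subOrb (H ⊓ MulAction.stabilizer M24 a) b)
        (fun x hx => smul_mem_subOrb hgK hx)
      rw [show subOrb (H ⊓ MulAction.stabilizer M24 a) b ∩ {a, b} = {b} by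
        ext x
        simp only [Finset.mem_inter, Finset.mem_insert, Finset.mem_singleton]
        constructor
        · rintro ⟨hx, rfl | rfl⟩
          · exact absurd hx haB
          · rfl
        · rintro rfl
          exact ⟨self_mem_subOrb _ _, Or.inr rfl⟩, Finset.card_singleton] at hB
      have hdB : (subOrb (H ⊓ MulAction.stabilizer M24 a) b).card ∣ 36960 :=
        hM ▸ card_subOrb_dvd _ b
      have hb1 : (subOrb (H ⊓ MulAction.stabilizer M24 a) b).card = 1 := by
        have := hle24 (H ⊓ MulAction.stabilizer M24 a) b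
        have := h12 (H ⊓ MulAction.stabilizer M24 a) (by rw [hM]; norm_num) b
        have : (subOrb (H ⊓ MulAction.stabilizer M24 a) b).card ≠ 23 := fun h => by
          rw [h] at hdB; norm_num at hdB
        omega
      have hbfix : ∀ k ∈ H, k • a = a → k • b = b := by
        intro k hk hka
        exact Finset.card_le_one.1 hb1.le _ (mem_subOrb.2 ⟨k, ⟨hk, hka⟩, rfl⟩) _
          (self_mem_subOrb _ _)
      obtain ⟨k, hkK, hk⟩ := exists_orderOf 7
        (show 7 ∣ Nat.card ↥(H ⊓ MulAction.stabilizer M24 a) by rw [hM]; norm_num)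
      have h3 := fixed_card (r := 3) (Or.inr (Or.inl ⟨rfl, rfl⟩)) hk
      obtain ⟨c, hc, hcab⟩ := Finset.exists_mem_notMem_of_card_lt_card
        (s := ({a, b} : Finset GolayPt)) (t := Finset.univ.filter fun x => k • x = x)
        (by rw [h3, Finset.card_pair hab]; norm_num)
      simp only [Finset.mem_insert, Finset.mem_singleton, not_or] at hcab
      have hka : k • a = a := hkK.2
      have hkc : k • c = c := (Finset.mem_filter.1 hc).2
      have hall : subOrb H a = Finset.univ :=
        Finset.eq_univ_of_card _ (h24.trans card_golayPt.symm)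
      obtain ⟨h, hh, hhc⟩ : ∃ h ∈ H, h • a = c := mem_subOrb.1 (hall ▸ Finset.mem_univ c)
      have hfixd : ∀ l ∈ H, l • c = c → l • (h • b) = h • b := by
        intro l hl hlc
        have h1 : (h⁻¹ * l * h) • a = a := by
          rw [mul_smul, mul_smul, hhc, hlc, ← hhc, inv_smul_smul]
        have h2 := hbfix _ (mul_mem (mul_mem (inv_mem hh) hl) hh) h1
        rw [mul_smul, mul_smul, inv_smul_eq_iff] at h2
        exact h2
      have hk3 : k • (h • b) = h • b := hfixd k hkK.1 hkc
      have hdc : h • b ≠ c := fun e => hab (MulAction.injective h (hhc.trans e.symm))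
      have hF3 : Finset.univ.filter (fun x => k • x = x) = ({a, b, c} : Finset GolayPt) := by
        refine (Finset.eq_of_subset_of_card_le ?_ ?_).symm
        · simp [Finset.insert_subset_iff, hka, hkc, hbfix k hkK.1 hka]
        · rw [h3, Finset.card_insert_of_notMem (by simp [hab, Ne.symm hcab.1]),
            Finset.card_pair (Ne.symm hcab.2)]
      have hmem : h • b ∈ ({a, b, c} : Finset GolayPt) := by
        rw [← hF3]; exact Finset.mem_filter.2 ⟨Finset.mem_univ _, hk3⟩
      have hsub : H ⊓ MulAction.stabilizer M24 c ≤ H ⊓ MulAction.stabilizer M24 (h • b) :=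
        fun l hl => ⟨hl.1, hfixd l hl.1 hl.2⟩
      have hcard : ∀ x : GolayPt, Nat.card ↥(H ⊓ MulAction.stabilizer M24 x) = 36960 := by
        intro x
        have hx : subOrb H x = subOrb H a := subOrb_eq_of_mem (hall ▸ Finset.mem_univ x)
        have := card_subOrb_mul H x
        rw [hx, h24, hN] at this
        omega
      have heq := Subgroup.eq_of_le_of_card_ge hsub (by rw [hcard, hcard])
      have hgc : ∀ x : GolayPt, H ⊓ MulAction.stabilizer M24 x = H ⊓ MulAction.stabilizer M24 c →
          g • x = x → False := by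
        intro x hx hgx
        have : g ∈ H ⊓ MulAction.stabilizer M24 c := hx ▸ ⟨hgH, hgx⟩
        rcases (hfix c).1 this.2 with h' | h'
        · exact hcab.1 h'
        · exact hcab.2 h'
      rcases Finset.mem_insert.1 hmem with e | e
      · exact hgc a (e ▸ heq.symm) ((hfix a).2 (Or.inl rfl))
      · rcases Finset.mem_insert.1 e with e | e
        · exact hgc b (e ▸ heq.symm) ((hfix b).2 (Or.inr rfl))
        · exact hdc (Finset.mem_singleton.1 e)
  · exfalso
    have hc : (subOrb H a ∩ {a, b}).card = 1 := by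
      rw [Finset.card_eq_one]
      refine ⟨a, ?_⟩
      ext x
      simp only [Finset.mem_inter, Finset.mem_insert, Finset.mem_singleton]
      constructor
      · rintro ⟨hx, rfl | rfl⟩
        · rfl
        · exact absurd hx hbA
      · rintro rfl
        exact ⟨haA, Or.inl rfl⟩
    rw [hc] at hA
    have h1 : (subOrb H a).card = 1 := by
      have := hle24 H a
      have : (subOrb H a).card ≠ 23 := fun h => by rw [h] at hd; norm_num at hd
      omega
    have h2 := card_subOrb_mul H a
    rw [h1, hN, one_mul] at h2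
    have h3 := Subgroup.card_dvd_of_le
      (inf_le_right : H ⊓ MulAction.stabilizer M24 a ≤ MulAction.stabilizer M24 a)
    rw [h2, card_stabilizer_point a] at h3
    norm_num at h3

end CfsgLib.GolayStructure
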