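/-
The monomial stabiliser of a minimal vector on the minimal vectors orthogonal to it.
-/
import Cfsg.Agent.Lib.GolayStructure.CrossShapes
import Cfsg.Agent.Lib.GolayStructure.IndexBasic

set_option autoImplicit false

namespace CfsgLib.GolayStructure

open Cfsg CfsgLib.Leech CfsgLib.Fischer2
open scoped Pointwise Classical

/-- The monomial elements fixing the base minimal vector. -/
noncomputable abbrev monoBase : Subgroup Co0 := monoGroup ⊓ MulAction.stabilizer Co0 baseP

theorem coordVec_baseP (p : GolayPt) :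
    coordVec baseP p = if p = ptP ∨ p = ptQ then 4 else 0 := by
  rw [baseP, coordVec_pairVec]
  by_cases h1 : p = ptP
  · subst h1; simp [ptP_ne_ptQ]
  by_cases h2 : p = ptQ
  · subst h2; simp [ptP_ne_ptQ.symm]
  simp [h1, h2]

theorem coordVec_baseM (p : GolayPt) :
    coordVec baseM p = if p = ptP then 4 else if p = ptQ then -4 else 0 := by
  rw [baseM, coordVec_fourPair]
  by_cases h1 : p = ptP
  · subst h1; simp [ptP_ne_ptQ]
  by_cases h2 : p = ptQ
  · subst h2; simp [ptP_ne_ptQ.symm]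
  simp [h1, h2]

theorem monoAut_mem_base {σ : M24} {d : golayCode}
    (hσ : ((σ : Equiv.Perm GolayPt) ptP = ptP ∧ (σ : Equiv.Perm GolayPt) ptQ = ptQ) ∨
      ((σ : Equiv.Perm GolayPt) ptP = ptQ ∧ (σ : Equiv.Perm GolayPt) ptQ = ptP))
    (hP : (d : GolayPt → ZMod 2) ptP = 0) (hQ : (d : GolayPt → ZMod 2) ptQ = 0) :
    monoAut d σ ∈ monoBase := by
  refine Subgroup.mem_inf.2 ⟨monoAut_mem d σ, ?_⟩
  rw [MulAction.mem_stabilizer_iff]
  have h0 : ∀ p, p ≠ ptP → p ≠ ptQ → coordVec baseP p = 0 := fun p a b => by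
    rw [coordVec_baseP, if_neg (by simp [a, b])]
  have hP4 : coordVec baseP ptP = 4 := by rw [coordVec_baseP, if_pos (Or.inl rfl)]
  have hQ4 : coordVec baseP ptQ = 4 := by rw [coordVec_baseP, if_pos (Or.inr rfl)]
  rcases hσ with ⟨a, b⟩ | ⟨a, b⟩
  · exact fourShape_move (by rw [hP4]; rfl) (by rw [hQ4]; rfl) h0 (by rw [hP4]; rfl)
      (by rw [hQ4]; rfl) h0 σ a b d (by rw [hP, if_pos rfl]) (by rw [hQ, if_pos rfl])
  · exact fourShape_move (by rw [hP4]; rfl) (by rw [hQ4]; rfl) h0 (by rw [hQ4]; rfl)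
      (by rw [hP4]; rfl) (fun p c e => h0 p e c) σ a b d
      (by rw [hQ, if_pos (hP4.trans hQ4.symm)]) (by rw [hP, if_pos (hQ4.trans hP4.symm)])

theorem exists_swap : ∃ g ∈ monoBase, g • baseM = -baseM := by
  obtain ⟨σ, hσ, hP, hQ⟩ := exists_M24_pair ptP_ne_ptQ ptP_ne_ptQ.symm
  refine ⟨_, monoAut_mem_base (d := 0) (σ := ⟨σ, hσ⟩) (Or.inr ⟨hP, hQ⟩) rfl rfl,
    leech_ext fun p => ?_⟩
  show _ = -coordVec baseM p
  rw [coordVec_monoAut, if_pos (show ((0 : golayCode) : GolayPt → ZMod 2) p = 0 from rfl),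
    coordVec_baseM, coordVec_baseM]
  have e1 : (σ.symm p = ptP) ↔ p = ptQ := by rw [Equiv.symm_apply_eq, hP]
  have e2 : (σ.symm p = ptQ) ↔ p = ptP := by rw [Equiv.symm_apply_eq, hQ]
  show (if σ.symm p = ptP then (4 : ℤ) else if σ.symm p = ptQ then -4 else 0) = _
  simp only [e1, e2]
  by_cases h1 : p = ptP
  · subst h1; simp [ptP_ne_ptQ]
  by_cases h2 : p = ptQ
  · subst h2; simp [ptP_ne_ptQ.symm]
  simp [h1, h2]

theorem exists_M24_quad {a b c d a' b' c' d' : GolayPt} (h : [a, b, c, d].Nodup)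
    (h' : [a', b', c', d'].Nodup) :
    ∃ g ∈ M24, g a = a' ∧ g b = b' ∧ g c = c' ∧ g d = d' := by
  have h5 : MulAction.IsMultiplyPretransitive M24 GolayPt 5 := CfsgLib.Golay.M24_five_transitive
  have h4 : MulAction.IsMultiplyPretransitive M24 GolayPt 4 :=
    MulAction.isMultiplyPretransitive_of_le (n := 5) (by norm_num) (by simp [GolayPt])
  obtain ⟨g, hg⟩ := MulAction.exists_smul_eq M24
    (⟨[a, b, c, d].get, List.nodup_iff_injective_get.1 h⟩ : Fin 4 ↪ GolayPt)
    (⟨[a', b', c', d'].get, List.nodup_iff_injective_get.1 h'⟩ : Fin 4 ↪ GolayPt)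
  exact ⟨g, g.2, DFunLike.congr_fun hg 0, DFunLike.congr_fun hg 1, DFunLike.congr_fun hg 2,
    DFunLike.congr_fun hg 3⟩

theorem exists_five_in {O : Finset GolayPt} (hO : O ∈ octads) {a b : GolayPt} (ha : a ∈ O)
    (hb : b ∈ O) (hab : a ≠ b) : ∃ x : Fin 5 ↪ GolayPt, x 0 = a ∧ x 1 = b ∧ ∀ i, x i ∈ O := by
  obtain ⟨s, hs, hsc⟩ := Finset.exists_subset_card_eq
    (show 3 ≤ ((O.erase a).erase b).card by
      rw [Finset.card_erase_of_mem (Finset.mem_erase.2 ⟨hab.symm, hb⟩),
        Finset.card_erase_of_mem ha, CfsgLib.Golay.card_eq_of_mem_octads hO]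
      norm_num)
  let e := (Finset.equivFinOfCardEq hsc).symm
  have hne : ∀ i, (e i : GolayPt) ≠ a ∧ (e i : GolayPt) ≠ b ∧ (e i : GolayPt) ∈ O := fun i => by
    have := hs (e i).2
    simp only [Finset.mem_erase] at this
    exact ⟨this.2.1, this.1, this.2.2⟩
  have hd : ∀ i j, i ≠ j → (e i : GolayPt) ≠ e j := fun i j h e' => h (e.injective (Subtype.ext e'))
  have d01 := hd 0 1 (by decide); have d02 := hd 0 2 (by decide); have d12 := hd 1 2 (by decide)
  have h0 := hne 0; have h1 := hne 1; have h2 := hne 2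
  refine ⟨⟨![a, b, e 0, e 1, e 2], fun i j hij => ?_⟩, rfl, rfl, fun i => ?_⟩
  · fin_cases i <;> fin_cases j <;> simp at hij ⊢ <;> simp_all
  · fin_cases i <;> first | exact ha | exact hb | exact h0.2.2 | exact h1.2.2 | exact h2.2.2

theorem exists_M24_octad_pair {O O' : Finset GolayPt} (hO : O ∈ octads) (hO' : O' ∈ octads)
    {a b a' b' : GolayPt} (ha : a ∈ O) (hb : b ∈ O) (hab : a ≠ b) (ha' : a' ∈ O') (hb' : b' ∈ O')
    (hab' : a' ≠ b') :
    ∃ g : M24, g • O = O' ∧ (g : Equiv.Perm GolayPt) a = a' ∧ (g : Equiv.Perm GolayPt) b = b' := by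
  obtain ⟨x, hx0, hx1, hxO⟩ := exists_five_in hO ha hb hab
  obtain ⟨y, hy0, hy1, hyO⟩ := exists_five_in hO' ha' hb' hab'
  obtain ⟨g, hg, hxy⟩ := CfsgLib.Golay.exists_M24_map x y
  refine ⟨⟨g, hg⟩, CfsgLib.Golay.octad_unique (smul_mem_octads _ hO) hO' ?_,
    by rw [← hx0, ← hy0]; exact hxy 0, by rw [← hx1, ← hy1]; exact hxy 1⟩
  have h5 : (Finset.univ.map y).card = 5 := by simp
  rw [← h5]
  refine Finset.card_le_card fun q hq => ?_
  obtain ⟨i, -, rfl⟩ := Finset.mem_map.1 hq
  refine Finset.mem_inter.2 ⟨?_, hyO i⟩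
  rw [← hxy i]
  exact Finset.smul_mem_smul_finset (a := (⟨g, hg⟩ : M24)) (hxO i)

/-- The stabiliser of an octad and an outside point is transitive on the other outside points. -/
theorem subOrb_octad_point {o : Finset GolayPt} (ho : o ∈ octads) {p q : GolayPt} (hp : p ∉ o)
    (hq : q ∉ o) (hpq : q ≠ p) :
    subOrb (MulAction.stabilizer M24 o ⊓ MulAction.stabilizer M24 p) q = oᶜ.erase p := by
  set A := MulAction.stabilizer M24 o ⊓ MulAction.stabilizer M24 p with hA
  have hin : ∀ {h : M24}, h • o = o → ∀ x, h • x ∈ o ↔ x ∈ o := fun {h} hh x => by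
    conv_lhs => rw [← hh]
    exact Finset.smul_mem_smul_finset_iff h
  have horb : subOrb (MulAction.stabilizer M24 o) p = oᶜ := by
    ext z
    rw [mem_subOrb, Finset.mem_compl]
    constructor
    · rintro ⟨h, hh, rfl⟩
      exact fun hz => hp ((hin hh p).1 hz)
    · intro hz
      obtain ⟨g, hg, he⟩ := octadKernel_transitive ho hp hz
      exact ⟨⟨g, (mem_octadKernel.1 hg).1⟩,
        (mem_octadGroup.1 (octadKernel_le o hg)).2, he⟩
  have hcard : Nat.card A = 20160 := by
    have h := card_subOrb_mul (MulAction.stabilizer M24 o) p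
    rw [horb, Finset.card_compl, CfsgLib.Golay.card_eq_of_mem_octads ho, card_golayPt,
      card_stabilizer_octad ho] at h
    rw [hA]
    omega
  have hsub : subOrb A q ⊆ oᶜ.erase p := by
    intro z hz
    obtain ⟨h, hh, rfl⟩ := mem_subOrb.1 hz
    refine Finset.mem_erase.2 ⟨fun e => hpq ?_, Finset.mem_compl.2 fun hz' => hq ((hin hh.1 q).1 hz')⟩
    exact MulAction.injective h (e.trans hh.2.symm)
  have h15 : (oᶜ.erase p).card = 15 := by
    rw [Finset.card_erase_of_mem (Finset.mem_compl.2 hp), Finset.card_compl,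
      CfsgLib.Golay.card_eq_of_mem_octads ho, card_golayPt]
  have hle := Finset.card_le_card hsub
  rw [h15] at hle
  have key : ∀ (g : M24) (pr r t : ℕ), g ∈ A → orderOf g = pr →
      (pr = 5 ∧ r = 4 ∧ t = 3 ∨ pr = 7 ∧ r = 3 ∧ t = 1) →
      ((subOrb A q).filter fun x => g • x = x).card + t + 1 ≤ r ∧
        ((subOrb A q).filter fun x => g • x = x).card % pr = (subOrb A q).card % pr := by
    intro g pr r t hgA hg hprt
    have : Fact pr.Prime := ⟨by rcases hprt with ⟨rfl, -⟩ | ⟨rfl, -⟩ <;> norm_num⟩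
    have hgp : g ^ pr = 1 := hg ▸ pow_orderOf_eq_one g
    have h1 := fixed_modEq hgp (subOrb A q) fun x hx => smul_mem_subOrb hgA hx
    have h2 := fixed_modEq hgp o fun x hx => (hin hgA.1 x).2 hx
    rw [CfsgLib.Golay.card_eq_of_mem_octads ho] at h2
    have h3 := fixed_card (p := pr) (r := r) (by
      rcases hprt with ⟨rfl, rfl, -⟩ | ⟨rfl, rfl, -⟩
      · exact Or.inl ⟨rfl, rfl⟩
      · exact Or.inr (Or.inl ⟨rfl, rfl⟩)) hg
    have hu : insert p (((subOrb A q).filter fun x => g • x = x) ∪ o.filter fun x => g • x = x) ⊆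
        Finset.univ.filter fun x => g • x = x := by
      intro x hx
      refine Finset.mem_filter.2 ⟨Finset.mem_univ _, ?_⟩
      rcases Finset.mem_insert.1 hx with rfl | hx
      · exact hgA.2
      · rcases Finset.mem_union.1 hx with hx | hx <;> exact (Finset.mem_filter.1 hx).2
    have h4 := Finset.card_le_card hu
    rw [Finset.card_insert_of_notMem, Finset.card_union_of_disjoint, h3] at h4
    · refine ⟨?_, h1⟩
      rw [Nat.ModEq] at h2
      rcases hprt with ⟨rfl, rfl, rfl⟩ | ⟨rfl, rfl, rfl⟩ <;> omega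
    · exact Finset.disjoint_left.2 fun x hx hx' =>
        (Finset.mem_compl.1 (Finset.mem_of_mem_erase (hsub (Finset.mem_filter.1 hx).1)))
          (Finset.mem_filter.1 hx').1
    · simp only [Finset.mem_union, Finset.mem_filter, not_or]
      exact ⟨fun h => (Finset.mem_erase.1 (hsub h.1)).1 rfl, fun h => hp h.1⟩
  have : Fact (Nat.Prime 5) := ⟨by norm_num⟩
  have : Fact (Nat.Prime 7) := ⟨by norm_num⟩
  obtain ⟨g5, hg5A, hg5⟩ := exists_orderOf (H := A) 5 (by rw [hcard]; norm_num)
  obtain ⟨g7, hg7A, hg7⟩ := exists_orderOf (H := A) 7 (by rw [hcard]; norm_num)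
  obtain ⟨a1, a2⟩ := key g5 5 4 3 hg5A hg5 (Or.inl ⟨rfl, rfl, rfl⟩)
  obtain ⟨b1, b2⟩ := key g7 7 3 1 hg7A hg7 (Or.inr ⟨rfl, rfl, rfl⟩)
  have hpos : 0 < (subOrb A q).card := Finset.card_pos.2 ⟨q, self_mem_subOrb A q⟩
  refine Finset.eq_of_subset_of_card_le hsub ?_
  rcases (show (subOrb A q).card = 5 ∨ (subOrb A q).card = 10 ∨ (subOrb A q).card = 15 by omega)
    with e | e | e <;> rw [e] at b2 ⊢ <;> omega

theorem exists_outside_pair {O O' : Finset GolayPt} (hO : O ∈ octads) (hO' : O' ∈ octads)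
    {a b a' b' : GolayPt} (ha : a ∉ O) (hb : b ∉ O) (hab : a ≠ b) (ha' : a' ∉ O') (hb' : b' ∉ O')
    (hab' : a' ≠ b') :
    ∃ g : M24, g • O = O' ∧ g • a = a' ∧ g • b = b' := by
  obtain ⟨g, hgO⟩ := CfsgLib.Golay.octad_transitive hO hO'
  have hga : g • a ∉ O' := fun h => ha (by
    rw [← hgO] at h
    exact (Finset.smul_mem_smul_finset_iff g).1 h)
  obtain ⟨k, hk, hka⟩ := octadKernel_transitive hO' hga ha'
  set k' : M24 := ⟨k, (mem_octadKernel.1 hk).1⟩
  have hk' : k' • O' = O' := (mem_octadGroup.1 (octadKernel_le O' hk)).2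
  have hka' : (k' * g) • a = a' := by rw [mul_smul]; exact hka
  have hkO : (k' * g) • O = O' := by rw [mul_smul, hgO, hk']
  have hkb : (k' * g) • b ∉ O' := fun h => hb (by
    rw [← hkO] at h
    exact (Finset.smul_mem_smul_finset_iff _).1 h)
  have hne : (k' * g) • b ≠ a' := fun h => hab
    (MulAction.injective (k' * g) (hka'.trans h.symm))
  have hmem : b' ∈ subOrb (MulAction.stabilizer M24 O' ⊓ MulAction.stabilizer M24 a')
      ((k' * g) • b) := by
    rw [subOrb_octad_point hO' ha' hkb hne]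
    exact Finset.mem_erase.2 ⟨hab'.symm, Finset.mem_compl.2 hb'⟩
  obtain ⟨m, hm, hmb⟩ := mem_subOrb.1 hmem
  have hmO : m • O' = O' := hm.1
  have hma : m • a' = a' := hm.2
  exact ⟨m * (k' * g), by rw [mul_smul, hkO, hmO],
    by rw [mul_smul, hka', hma], by rw [mul_smul, hmb]⟩

/-- A code word vanishing on an octad, one at one outside point and zero at another. -/
theorem exists_outside_word {O : Finset GolayPt} (hO : O ∈ octads) {x y : GolayPt} (hx : x ∉ O)
    (hy : y ∉ O) (hxy : x ≠ y) :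
    ∃ e : golayCode, (∀ z ∈ O, (e : GolayPt → ZMod 2) z = 0) ∧
      (e : GolayPt → ZMod 2) x = 1 ∧ (e : GolayPt → ZMod 2) y = 0 := by
  have hne : {c : Finset GolayPt | c ∈ octads ∧ Disjoint O c}.ncard ≠ 0 := by
    rw [CfsgLib.Golay.ncard_disjoint_5_8_24 card_golayPt CfsgLib.Golay.octads_isSteinerSystem hO]
    norm_num
  obtain ⟨c, hc, hd⟩ := Set.nonempty_of_ncard_ne_zero hne
  obtain ⟨a, ha⟩ : c.Nonempty :=
    Finset.card_pos.1 (by rw [CfsgLib.Golay.card_eq_of_mem_octads hc]; norm_num)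
  obtain ⟨b, -, hb⟩ := Finset.exists_mem_notMem_of_card_lt_card (s := O ∪ c)
    (t := (Finset.univ : Finset GolayPt)) (by
      rw [card_univ_golayPt, Finset.card_union_of_disjoint hd,
        CfsgLib.Golay.card_eq_of_mem_octads hO, CfsgLib.Golay.card_eq_of_mem_octads hc]
      norm_num)
  rw [Finset.mem_union, not_or] at hb
  obtain ⟨g, hgO, hga, hgb⟩ := exists_outside_pair hO hO
    (Finset.disjoint_right.1 hd ha) hb.1 (fun e => hb.2 (e ▸ ha)) hx hy hxy
  refine ⟨⟨_, CfsgLib.Leech.mem_supports_iff.1 (smul_mem_octads g hc).1⟩, fun z hz => ?_, ?_, ?_⟩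
  · simp only [ite_eq_right_iff, one_ne_zero, imp_false]
    intro h
    rw [← hgO] at hz
    obtain ⟨u, hu, rfl⟩ := Finset.mem_smul_finset.1 hz
    exact Finset.disjoint_left.1 hd hu ((Finset.smul_mem_smul_finset_iff g).1 h)
  · show (if x ∈ g • c then (1 : ZMod 2) else 0) = 1
    rw [if_pos]
    rw [← hga]
    exact Finset.smul_mem_smul_finset ha
  · show (if y ∈ g • c then (1 : ZMod 2) else 0) = 0
    rw [if_neg]
    rw [← hgb, Finset.smul_mem_smul_finset_iff]
    exact hb.2

/-- Two fours away from the base points. -/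
def pieceB : Set leechLattice :=
  {w | w ∈ fourShape ∧ coordVec w ptP = 0 ∧ coordVec w ptQ = 0}

/-- Octads through both base points, opposite signs there. -/
def pieceC : Set leechLattice :=
  {w | w ∈ octShape ∧ coordVec w ptP ≠ 0 ∧ coordVec w ptP + coordVec w ptQ = 0}

/-- Octads avoiding both base points. -/
def pieceD : Set leechLattice :=
  {w | w ∈ octShape ∧ coordVec w ptP = 0 ∧ coordVec w ptQ = 0}

/-- Odd vectors with opposite values at the base points. -/
def pieceE : Set leechLattice :=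
  {w | w ∈ oddShape ∧ coordVec w ptP + coordVec w ptQ = 0}

theorem pieceB_transitive {w w' : leechLattice} (hw : w ∈ pieceB) (hw' : w' ∈ pieceB) :
    ∃ g ∈ monoBase, g • w = w' := by
  obtain ⟨⟨i, j, hij, hi, hj, h0⟩, hP, hQ⟩ := hw
  obtain ⟨⟨i', j', hij', hi', hj', h0'⟩, hP', hQ'⟩ := hw'
  have ne : ∀ {w : leechLattice} {i z : GolayPt}, |coordVec w i| = 4 → coordVec w z = 0 → z ≠ i :=
    fun {w i z} h h' e => by rw [e] at h'; rw [h'] at h; norm_num at h
  obtain ⟨g, hg, gP, gQ, gi, gj⟩ := exists_M24_quad (a := ptP) (b := ptQ) (c := i) (d := j)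
    (a' := ptP) (b' := ptQ) (c' := i') (d' := j')
    (by simp [ptP_ne_ptQ, ne hi hP, ne hj hP, ne hi hQ, ne hj hQ, hij])
    (by simp [ptP_ne_ptQ, ne hi' hP', ne hj' hP', ne hi' hQ', ne hj' hQ', hij'])
  obtain ⟨d, hd, hdv⟩ := exists_code_on (T := {ptP, ptQ, i', j'})
    (le_trans Finset.card_le_four (by norm_num))
    (fun p => if p = ptP ∨ p = ptQ then 0 else
      if coordVec w (g.symm p) = coordVec w' p then 0 else 1)
  refine ⟨_, monoAut_mem_base (d := ⟨d, hd⟩) (σ := ⟨g, hg⟩) (Or.inl ⟨gP, gQ⟩) ?_ ?_,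
    fourShape_move hi hj h0 hi' hj' h0' ⟨g, hg⟩ gi gj ⟨d, hd⟩ ?_ ?_⟩
  · show d ptP = 0
    rw [hdv ptP (by simp), if_pos (Or.inl rfl)]
  · show d ptQ = 0
    rw [hdv ptQ (by simp), if_pos (Or.inr rfl)]
  · show d i' = _
    rw [hdv i' (by simp), if_neg (by simp [(ne hi' hP').symm, (ne hi' hQ').symm]),
      show g.symm i' = i by rw [← gi, Equiv.symm_apply_apply]]
  · show d j' = _
    rw [hdv j' (by simp), if_neg (by simp [(ne hj' hP').symm, (ne hj' hQ').symm]),
      show g.symm j' = j by rw [← gj, Equiv.symm_apply_apply]]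

theorem pieceC_transitive {w w' : leechLattice} (hw : w ∈ pieceC) (hw' : w' ∈ pieceC) :
    ∃ g ∈ monoBase, g • w = w' := by
  obtain ⟨⟨O, hO, h, h0⟩, hP, hPQ⟩ := hw
  obtain ⟨⟨O', hO', h', h0'⟩, hP', hPQ'⟩ := hw'
  have inO : ∀ {u : leechLattice} {U : Finset GolayPt}, (∀ p ∉ U, coordVec u p = 0) →
      coordVec u ptP ≠ 0 → coordVec u ptP + coordVec u ptQ = 0 → ptP ∈ U ∧ ptQ ∈ U :=
    fun {u U} h0 hP hPQ => ⟨by by_contra hh; exact hP (h0 _ hh),
      by by_contra hh; exact hP (by have := h0 _ hh; omega)⟩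
  obtain ⟨hPO, hQO⟩ := inO h0 hP hPQ
  obtain ⟨hPO', hQO'⟩ := inO h0' hP' hPQ'
  obtain ⟨σ, hσO, hσ, hval⟩ : ∃ σ : M24, σ • O = O' ∧
      (((σ : Equiv.Perm GolayPt) ptP = ptP ∧ (σ : Equiv.Perm GolayPt) ptQ = ptQ) ∨
        ((σ : Equiv.Perm GolayPt) ptP = ptQ ∧ (σ : Equiv.Perm GolayPt) ptQ = ptP)) ∧
      coordVec w ((σ : Equiv.Perm GolayPt).symm ptP) = coordVec w' ptP ∧
      coordVec w ((σ : Equiv.Perm GolayPt).symm ptQ) = coordVec w' ptQ := by
    have a1 := h _ hPO
    have a2 := h' _ hPO'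
    by_cases hs : coordVec w ptP = coordVec w' ptP
    · obtain ⟨σ, hσO, hσP, hσQ⟩ := exists_M24_octad_pair hO hO' hPO hQO ptP_ne_ptQ hPO' hQO'
        ptP_ne_ptQ
      refine ⟨σ, hσO, Or.inl ⟨hσP, hσQ⟩, ?_, ?_⟩
      · rw [(Equiv.symm_apply_eq _).2 hσP.symm]; exact hs
      · rw [(Equiv.symm_apply_eq _).2 hσQ.symm]; omega
    · have hs' : coordVec w ptP = -coordVec w' ptP := by
        rcases abs_choice (coordVec w ptP) with e | e <;>
          rcases abs_choice (coordVec w' ptP) with e' | e' <;>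
          (rw [e] at a1; rw [e'] at a2; omega)
      obtain ⟨σ, hσO, hσP, hσQ⟩ := exists_M24_octad_pair hO hO' hPO hQO ptP_ne_ptQ hQO' hPO'
        ptP_ne_ptQ.symm
      refine ⟨σ, hσO, Or.inr ⟨hσP, hσQ⟩, ?_, ?_⟩
      · rw [(Equiv.symm_apply_eq _).2 hσQ.symm]; omega
      · rw [(Equiv.symm_apply_eq _).2 hσP.symm]; omega
  obtain ⟨o, ho, ho'⟩ := Finset.exists_mem_notMem_of_card_lt_card
    (s := ({ptP, ptQ} : Finset GolayPt)) (t := O')
    (by rw [Finset.card_pair ptP_ne_ptQ, CfsgLib.Golay.card_eq_of_mem_octads hO']; norm_num)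
  simp only [Finset.mem_insert, Finset.mem_singleton, not_or] at ho'
  obtain ⟨d, hd, hdv⟩ := exists_code_on (T := O'.erase o)
    (by rw [Finset.card_erase_of_mem ho, CfsgLib.Golay.card_eq_of_mem_octads hO'])
    (fun p => if coordVec w ((σ : Equiv.Perm GolayPt).symm p) = coordVec w' p then 0 else 1)
  refine ⟨_, monoAut_mem_base (d := ⟨d, hd⟩) (σ := σ) hσ ?_ ?_,
    exists_octad_move h h' h0 h0' σ hσO ⟨d, hd⟩ (o := o)
      fun p hp hpo => hdv p (Finset.mem_erase.2 ⟨hpo, hp⟩)⟩
  · show d ptP = 0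
    rw [hdv ptP (Finset.mem_erase.2 ⟨fun e => ho'.1 e.symm, hPO'⟩), if_pos hval.1]
  · show d ptQ = 0
    rw [hdv ptQ (Finset.mem_erase.2 ⟨fun e => ho'.2 e.symm, hQO'⟩), if_pos hval.2]

theorem pieceD_transitive {w w' : leechLattice} (hw : w ∈ pieceD) (hw' : w' ∈ pieceD) :
    ∃ g ∈ monoBase, g • w = w' := by
  obtain ⟨⟨O, hO, h, h0⟩, hP, hQ⟩ := hw
  obtain ⟨⟨O', hO', h', h0'⟩, hP', hQ'⟩ := hw'
  have out : ∀ {u : leechLattice} {U : Finset GolayPt}, (∀ p ∈ U, |coordVec u p| = 2) →
      ∀ {z}, coordVec u z = 0 → z ∉ U := fun {u U} hu {z} hz hh => by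
    have := hu z hh; rw [hz] at this; norm_num at this
  obtain ⟨σ, hσO, hσP, hσQ⟩ := exists_outside_pair hO hO' (out h hP) (out h hQ) ptP_ne_ptQ
    (out h' hP') (out h' hQ') ptP_ne_ptQ
  obtain ⟨o, ho⟩ : O'.Nonempty :=
    Finset.card_pos.1 (by rw [CfsgLib.Golay.card_eq_of_mem_octads hO']; norm_num)
  obtain ⟨d, hd, hdv⟩ := exists_code_on (T := O'.erase o)
    (by rw [Finset.card_erase_of_mem ho, CfsgLib.Golay.card_eq_of_mem_octads hO'])
    (fun p => if coordVec w ((σ : Equiv.Perm GolayPt).symm p) = coordVec w' p then 0 else 1)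
  obtain ⟨e, he, heP, heQ⟩ := exists_outside_word hO' (out h' hP') (out h' hQ') ptP_ne_ptQ
  obtain ⟨f, hf, hfQ, hfP⟩ := exists_outside_word hO' (out h' hQ') (out h' hP') ptP_ne_ptQ.symm
  let d' : golayCode := ⟨d, hd⟩ + (d ptP) • e + (d ptQ) • f
  have hval : ∀ p, (d' : GolayPt → ZMod 2) p =
      d p + d ptP * (e : GolayPt → ZMod 2) p + d ptQ * (f : GolayPt → ZMod 2) p := fun p => rfl
  refine ⟨_, monoAut_mem_base (d := d') (σ := σ) (Or.inl ⟨hσP, hσQ⟩) ?_ ?_,
    exists_octad_move h h' h0 h0' σ hσO d' (o := o) fun p hp hpo => ?_⟩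
  · rw [hval, heP, hfP, mul_one, mul_zero, add_zero]
    exact ZModModule.add_self _
  · rw [hval, heQ, hfQ, mul_one, mul_zero, add_zero]
    exact ZModModule.add_self _
  · rw [hval, he p hp, hf p hp, mul_zero, mul_zero, add_zero, add_zero]
    exact hdv p (Finset.mem_erase.2 ⟨hpo, hp⟩)

theorem odd_piece_word {c : golayCode} {k : GolayPt}
    (h : coordVec (signAut c • oddVec k) ptP + coordVec (signAut c • oddVec k) ptQ = 0) :
    k ≠ ptP ∧ k ≠ ptQ ∧ (c : GolayPt → ZMod 2) ptP ≠ (c : GolayPt → ZMod 2) ptQ := by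
  simp only [coordVec_signAut, coordVec_oddVec] at h
  refine ⟨fun e => ?_, fun e => ?_, fun e => ?_⟩
  · subst e
    rw [if_pos rfl, if_neg ptP_ne_ptQ.symm] at h
    split_ifs at h <;> omega
  · subst e
    rw [if_neg ptP_ne_ptQ, if_pos rfl] at h
    split_ifs at h <;> omega
  · rw [e] at h
    split_ifs at h with a b b <;> first | omega | exact ptP_ne_ptQ (b.trans a.symm) |
      exact ptP_ne_ptQ (a.trans b.symm)

theorem pieceE_transitive {w w' : leechLattice} (hw : w ∈ pieceE) (hw' : w' ∈ pieceE) :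
    ∃ g ∈ monoBase, g • w = w' := by
  obtain ⟨⟨k, h3, h1⟩, hs⟩ := hw
  obtain ⟨⟨k', h3', h1'⟩, hs'⟩ := hw'
  obtain ⟨c, rfl⟩ := exists_odd_word h3 h1
  obtain ⟨c', rfl⟩ := exists_odd_word h3' h1'
  obtain ⟨hkP, hkQ, hc⟩ := odd_piece_word hs
  obtain ⟨hkP', hkQ', hc'⟩ := odd_piece_word hs'
  have hz : ∀ a b a' b' : ZMod 2, a ≠ b → a' ≠ b' →
      (a = a' ∧ a' + a = 0 ∧ b' + b = 0) ∨ (a ≠ a' ∧ a' + b = 0 ∧ b' + a = 0) := by decide
  rcases hz _ _ _ _ hc hc' with ⟨-, e1, e2⟩ | ⟨-, e1, e2⟩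
  · obtain ⟨g, hg, gP, gQ, gk⟩ := exists_M24_triple ptP_ne_ptQ hkP.symm hkQ.symm
      ptP_ne_ptQ hkP'.symm hkQ'.symm
    refine ⟨_, monoAut_mem_base (d := ⟨_, moved_word_mem c c' ⟨g, hg⟩⟩) (σ := ⟨g, hg⟩)
      (Or.inl ⟨gP, gQ⟩) ?_ ?_, oddVec_move c c' ⟨g, hg⟩ gk ⟨_, moved_word_mem c c' ⟨g, hg⟩⟩
        fun p => rfl⟩
    · show (c' : GolayPt → ZMod 2) ptP + (c : GolayPt → ZMod 2) (g.symm ptP) = 0
      rw [(Equiv.symm_apply_eq _).2 gP.symm]; exact e1
    · show (c' : GolayPt → ZMod 2) ptQ + (c : GolayPt → ZMod 2) (g.symm ptQ) = 0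
      rw [(Equiv.symm_apply_eq _).2 gQ.symm]; exact e2
  · obtain ⟨g, hg, gP, gQ, gk⟩ := exists_M24_triple ptP_ne_ptQ hkP.symm hkQ.symm
      ptP_ne_ptQ.symm hkQ'.symm hkP'.symm
    refine ⟨_, monoAut_mem_base (d := ⟨_, moved_word_mem c c' ⟨g, hg⟩⟩) (σ := ⟨g, hg⟩)
      (Or.inr ⟨gP, gQ⟩) ?_ ?_, oddVec_move c c' ⟨g, hg⟩ gk ⟨_, moved_word_mem c c' ⟨g, hg⟩⟩
        fun p => rfl⟩
    · show (c' : GolayPt → ZMod 2) ptP + (c : GolayPt → ZMod 2) (g.symm ptP) = 0
      rw [(Equiv.symm_apply_eq _).2 gQ.symm]; exact e1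
    · show (c' : GolayPt → ZMod 2) ptQ + (c : GolayPt → ZMod 2) (g.symm ptQ) = 0
      rw [(Equiv.symm_apply_eq _).2 gP.symm]; exact e2

theorem orth_cases {w : leechLattice} (hn : sqNorm (coordVec w) = 32)
    (hd : coordVec w ptP + coordVec w ptQ = 0) :
    w = baseM ∨ w = -baseM ∨ w ∈ pieceB ∨ w ∈ pieceC ∨ w ∈ pieceD ∨ w ∈ pieceE := by
  rcases shape_cases w hn with h | h | h
  · by_cases hP : coordVec w ptP = 0
    · exact Or.inr (Or.inr (Or.inl ⟨h, hP, by omega⟩))
    · obtain ⟨i, j, hij, hi, hj, h0⟩ := h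
      have hQ : coordVec w ptQ ≠ 0 := by omega
      have hpq : ∀ p, p ≠ ptP → p ≠ ptQ → coordVec w p = 0 := by
        intro p hp hq
        have hPin : ptP = i ∨ ptP = j := by
          by_contra hh; exact hP (h0 _ (fun e => hh (Or.inl e)) fun e => hh (Or.inr e))
        have hQin : ptQ = i ∨ ptQ = j := by
          by_contra hh; exact hQ (h0 _ (fun e => hh (Or.inl e)) fun e => hh (Or.inr e))
        rcases hPin with e | e <;> rcases hQin with e' | e' <;>
          first
            | exact absurd (e.trans e'.symm) ptP_ne_ptQ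
            | exact h0 p (fun x => by subst x; first | exact hp e.symm | exact hq e'.symm)
                (fun x => by subst x; first | exact hp e.symm | exact hq e'.symm)
      have h4 : coordVec w ptP = 4 ∨ coordVec w ptP = -4 := by
        rcases fourShape_abs (⟨i, j, hij, hi, hj, h0⟩ : w ∈ fourShape) ptP with e | e
        · exact absurd e hP
        · rcases abs_choice (coordVec w ptP) with a | a <;> rw [a] at e <;> omega
      rcases h4 with e | e
      · left
        refine leech_ext fun p => ?_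
        rw [coordVec_baseM]
        split_ifs with a b
        · rw [a, e]
        · rw [b]; omega
        · exact hpq p a b
      · right; left
        refine leech_ext fun p => ?_
        show _ = -coordVec baseM p
        rw [coordVec_baseM]
        split_ifs with a b
        · rw [a, e]
        · rw [b]; omega
        · rw [neg_zero]; exact hpq p a b
  · by_cases hP : coordVec w ptP = 0
    · exact Or.inr (Or.inr (Or.inr (Or.inr (Or.inl ⟨h, hP, by omega⟩))))
    · exact Or.inr (Or.inr (Or.inr (Or.inl ⟨h, hP, hd⟩)))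
  · exact Or.inr (Or.inr (Or.inr (Or.inr (Or.inr ⟨h, hd⟩))))

theorem ncard_pieceB : pieceB.ncard = 924 := by
  set T := ((Finset.univ : Finset GolayPt).erase ptP).erase ptQ with hT
  set F := (T.powersetCard 2).sigma fun s => s.powerset with hF
  have hcardT : T.card = 22 := by
    rw [hT, Finset.card_erase_of_mem (Finset.mem_erase.2 ⟨ptP_ne_ptQ.symm, Finset.mem_univ _⟩),
      Finset.card_erase_of_mem (Finset.mem_univ _), card_univ_golayPt]
  have hFc : F.card = 924 := by
    rw [hF, Finset.card_sigma, Finset.sum_const_nat (m := 4) fun s hs => by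
      rw [Finset.card_powerset, (Finset.mem_powersetCard.1 hs).2]; rfl,
      Finset.card_powersetCard, hcardT]
    rfl
  clear_value F
  let z : (_ : Finset GolayPt) × Finset GolayPt → GolayPt → ℤ := fun x p =>
    if p ∈ x.1 then (if p ∈ x.2 then -1 else 1) else 0
  have hz : ∀ x ∈ F, (2 : ℤ) ∣ ∑ p, z x p := by
    rintro ⟨s, t⟩ hx
    rw [hF, Finset.mem_sigma, Finset.mem_powersetCard] at hx
    obtain ⟨i, j, hij, rfl⟩ := Finset.card_eq_two.1 hx.1.2
    simp only [z, Finset.sum_ite_mem, Finset.univ_inter, Finset.sum_pair hij]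
    split_ifs <;> norm_num
  let f : ↥F → leechLattice := fun x =>
    ⟨fun p => 4 * z x.1 p, CfsgLib.Fischer2.four_mul_mem (hz x.1 x.2)⟩
  have hf : ∀ x p, coordVec (f x) p =
      4 * (if p ∈ x.1.1 then (if p ∈ x.1.2 then -1 else 1) else 0) := fun x p => rfl
  have hinj : Function.Injective f := by
    rintro ⟨⟨s, t⟩, hx⟩ ⟨⟨s', t'⟩, hx'⟩ h
    rw [hF, Finset.mem_sigma, Finset.mem_powerset] at hx hx'
    have hp : ∀ p, (if p ∈ s then (if p ∈ t then (-1 : ℤ) else 1) else 0) =
        if p ∈ s' then (if p ∈ t' then -1 else 1) else 0 := fun p => by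
      have := congrArg (fun v => coordVec v p) h
      simp only [hf] at this
      linarith
    have hs : s = s' := by
      ext p
      have := hp p
      constructor <;> intro a <;> by_contra b <;> simp only [a, b, if_true, if_false] at this <;>
        split_ifs at this <;> omega
    subst hs
    have ht : t = t' := by
      ext p
      by_cases hps : p ∈ s
      · have := hp p
        simp only [hps, if_true] at this
        constructor <;> intro a <;> by_contra b <;> simp only [a, b, if_true, if_false] at this <;>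
          omega
      · exact ⟨fun a => absurd (hx.2 a) hps, fun a => absurd (hx'.2 a) hps⟩
    subst ht
    rfl
  have himg : pieceB = Set.range f := by
    ext w
    constructor
    · rintro ⟨⟨i, j, hij, hi, hj, h0⟩, hP, hQ⟩
      have ne : ∀ {i z : GolayPt}, |coordVec w i| = 4 → coordVec w z = 0 → i ≠ z :=
        fun {i z} h h' e => by rw [e, h'] at h; norm_num at h
      refine ⟨⟨⟨{i, j}, ({i, j} : Finset GolayPt).filter fun p => coordVec w p = -4⟩, ?_⟩,
        leech_ext fun p => ?_⟩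
      · rw [hF, Finset.mem_sigma, Finset.mem_powersetCard, Finset.mem_powerset]
        refine ⟨⟨?_, Finset.card_pair hij⟩, Finset.filter_subset _ _⟩
        simp [Finset.insert_subset_iff, hT, ne hi hP, ne hi hQ, ne hj hP, ne hj hQ]
      · rw [hf]
        dsimp only
        by_cases hm : p ∈ ({i, j} : Finset GolayPt)
        · have h4 : |coordVec w p| = 4 := by
            rcases Finset.mem_insert.1 hm with rfl | h'
            · exact hi
            · rw [Finset.mem_singleton.1 h']; exact hj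
          rw [if_pos hm]
          simp only [Finset.mem_filter, hm, true_and]
          rcases abs_choice (coordVec w p) with e | e <;> rw [e] at h4 <;> split_ifs <;> omega
        · rw [if_neg hm, mul_zero]
          simp only [Finset.mem_insert, Finset.mem_singleton, not_or] at hm
          exact (h0 p hm.1 hm.2).symm
    · rintro ⟨⟨⟨s, t⟩, hx⟩, rfl⟩
      rw [hF, Finset.mem_sigma, Finset.mem_powersetCard] at hx
      obtain ⟨i, j, hij, rfl⟩ := Finset.card_eq_two.1 hx.1.2
      have hsub := hx.1.1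
      simp only [hT, Finset.insert_subset_iff, Finset.singleton_subset_iff, Finset.mem_erase,
        Finset.mem_univ, and_true] at hsub
      refine ⟨⟨i, j, hij, ?_, ?_, fun p a b => ?_⟩, ?_, ?_⟩
      · rw [hf]; simp only [Finset.mem_insert, true_or, if_true]; split_ifs <;> norm_num
      · rw [hf]
        simp only [Finset.mem_insert, Finset.mem_singleton, or_true, if_true]
        split_ifs <;> norm_num
      · rw [hf]; simp [a, b]
      · rw [hf]; simp [hsub.1.2.symm, hsub.2.2.symm]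
      · rw [hf]; simp [hsub.1.1.symm, hsub.2.1.symm]
  rw [himg, Set.ncard_range_of_injective hinj, Nat.card_eq_fintype_card, Fintype.card_coe, hFc]

theorem code_filter_card (P : Finset GolayPt → Prop) (p : ℕ → Bool)
    (hp : ∀ n ∈ CfsgLib.Golay.codeMasks, (p n = true ↔ P (CfsgLib.Golay.unmask n))) :
    (Finset.univ.filter fun c : golayCode => P (support₂ (c : GolayPt → ZMod 2))).card =
      CfsgLib.Golay.countSpan CfsgLib.Golay.basisMasks p := by
  rw [← CfsgLib.Golay.ncard_supports_sep P p hp, ← Set.ncard_coe_finset,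
    ← Set.ncard_image_of_injective _ (support₂_injective.comp Subtype.val_injective)]
  congr 1
  ext s
  simp only [Set.mem_image, Finset.coe_filter, Finset.mem_univ, true_and, Set.mem_ofPred_eq,
    supports, Function.comp_apply]
  constructor
  · rintro ⟨c, hc, rfl⟩; exact ⟨⟨c, c.2, rfl⟩, hc⟩
  · rintro ⟨⟨c, hc, rfl⟩, hk⟩; exact ⟨⟨c, hc⟩, hk, rfl⟩

/-- The code words of weight eight with given membership of the base points. -/
noncomputable def baseWords (b : Bool) : Finset golayCode :=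
  Finset.univ.filter fun c => (support₂ (c : GolayPt → ZMod 2)).card = 8 ∧
    (if b then ptP ∈ support₂ (c : GolayPt → ZMod 2) ∧ ptQ ∈ support₂ (c : GolayPt → ZMod 2)
      else ptP ∉ support₂ (c : GolayPt → ZMod 2) ∧ ptQ ∉ support₂ (c : GolayPt → ZMod 2))

theorem baseWords_count :
    (CfsgLib.Golay.countSpan CfsgLib.Golay.basisMasks fun n => CfsgLib.Golay.popc n == 8 &&
      (n.testBit (CfsgLib.Golay.idx ptP) && n.testBit (CfsgLib.Golay.idx ptQ))) = 77 ∧
    (CfsgLib.Golay.countSpan CfsgLib.Golay.basisMasks fun n => CfsgLib.Golay.popc n == 8 &&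
      (!n.testBit (CfsgLib.Golay.idx ptP) && !n.testBit (CfsgLib.Golay.idx ptQ))) = 330 := by
  decide +kernel

theorem card_baseWords : (baseWords true).card = 77 ∧ (baseWords false).card = 330 := by
  constructor
  · rw [← baseWords_count.1]
    refine Eq.trans (congrArg Finset.card (by ext c; simp [baseWords])) (code_filter_card (fun s => s.card = 8 ∧ ptP ∈ s ∧ ptQ ∈ s)
      (fun n => CfsgLib.Golay.popc n == 8 &&
        (n.testBit (CfsgLib.Golay.idx ptP) && n.testBit (CfsgLib.Golay.idx ptQ)))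
      fun n _ => by simp [CfsgLib.Golay.card_unmask, CfsgLib.Golay.mem_unmask])
  · rw [← baseWords_count.2]
    refine Eq.trans (congrArg Finset.card (by ext c; simp [baseWords])) (code_filter_card (fun s => s.card = 8 ∧ ptP ∉ s ∧ ptQ ∉ s)
      (fun n => CfsgLib.Golay.popc n == 8 &&
        (!n.testBit (CfsgLib.Golay.idx ptP) && !n.testBit (CfsgLib.Golay.idx ptQ)))
      fun n _ => by simp [CfsgLib.Golay.card_unmask, CfsgLib.Golay.mem_unmask])

theorem ncard_minBlocks_baseWords (b : Bool) :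
    (minBlocks (baseWords b)).ncard = (baseWords b).card * 128 := by
  rw [ncard_minBlocks, ← smul_eq_mul, ← Finset.sum_const]
  refine Finset.sum_congr rfl fun c hc => ?_
  rw [blockCount_zero _ c.2 (Or.inl rfl), (Finset.mem_filter.1 hc).2.1]
  rfl

theorem minBlocks_baseWords (b : Bool) :
    minBlocks (baseWords b) = {w | w ∈ octShape ∧
      (if b then coordVec w ptP ≠ 0 ∧ coordVec w ptQ ≠ 0
        else coordVec w ptP = 0 ∧ coordVec w ptQ = 0)} := by
  ext w
  simp only [minBlocks, baseWords, Finset.mem_filter, Finset.mem_univ, true_and, Set.mem_ofPred_eq]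
  have key : ∀ (c : golayCode), sqNorm (coordVec w) = 32 →
      (support₂ (c : GolayPt → ZMod 2)).card = 8 →
      HasResidues 0 (c : GolayPt → ZMod 2) (coordVec w) →
      ∀ p, (p ∈ support₂ (c : GolayPt → ZMod 2) ↔ coordVec w p ≠ 0) := fun c hn hc hr p => by
    have h := (octShape_of_residue hn hc hr).2 p
    simp only [support₂, Finset.mem_filter, Finset.mem_univ, true_and]
    by_cases e : (c : GolayPt → ZMod 2) p = 0
    · rw [if_pos e, abs_eq_zero] at h; simp [e, h]
    · rw [if_neg e] at h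
      simp only [e, true_iff, ne_eq, not_false_eq_true]
      intro h'; rw [h'] at h; norm_num at h
  constructor
  · rintro ⟨c, ⟨hc, hb⟩, hr, hn⟩
    refine ⟨(octShape_of_residue hn hc hr).1, ?_⟩
    have k := key c hn hc hr
    cases b <;> simp [k] at hb ⊢ <;> exact hb
  · rintro ⟨hw, hb⟩
    obtain ⟨c, hc, hr⟩ := octShape_residue hw
    have k := key c (sqNorm_of_octShape hw) hc hr
    exact ⟨c, ⟨hc, by cases b <;> simp [k] at hb ⊢ <;> exact hb⟩, hr, sqNorm_of_octShape hw⟩

theorem ncard_pieceD : pieceD.ncard = 42240 := by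
  have h := ncard_minBlocks_baseWords false
  rw [minBlocks_baseWords, card_baseWords.2] at h
  simpa [pieceD] using h

theorem octShape_signAut {w : leechLattice} (hw : w ∈ octShape) (d : golayCode) :
    signAut d • w ∈ octShape := by
  obtain ⟨O, hO, h, h0⟩ := hw
  refine ⟨O, hO, fun p hp => by rw [signAut_abs]; exact h p hp, fun p hp => ?_⟩
  rw [coordVec_signAut, h0 p hp, neg_zero, ite_self]

theorem ncard_pieceC : pieceC.ncard = 4928 := by
  set C' : Set leechLattice :=
    {w | w ∈ octShape ∧ coordVec w ptP ≠ 0 ∧ coordVec w ptP = coordVec w ptQ} with hC'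
  have hu : minBlocks (baseWords true) = pieceC ∪ C' := by
    rw [minBlocks_baseWords]
    ext w
    simp only [pieceC, hC', if_true, Set.mem_union, Set.mem_ofPred_eq]
    constructor
    · rintro ⟨hw, hP, hQ⟩
      have a := (octShape_abs hw ptP).resolve_left hP
      have b := (octShape_abs hw ptQ).resolve_left hQ
      by_cases e : coordVec w ptP = coordVec w ptQ
      · exact Or.inr ⟨hw, hP, e⟩
      · refine Or.inl ⟨hw, hP, ?_⟩
        rcases abs_choice (coordVec w ptP) with x | x <;>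
          rcases abs_choice (coordVec w ptQ) with y | y <;>
          (rw [x] at a; rw [y] at b; omega)
    · rintro (⟨hw, hP, h⟩ | ⟨hw, hP, h⟩) <;> exact ⟨hw, hP, by omega⟩
  have hdis : Disjoint pieceC C' := by
    rw [Set.disjoint_left]
    rintro w ⟨-, hP, h⟩ ⟨-, -, h'⟩
    omega
  obtain ⟨d, hd, hdv⟩ := exists_code_on (T := {ptP, ptQ})
    (by rw [Finset.card_pair ptP_ne_ptQ]; norm_num) (fun p => if p = ptQ then 1 else 0)
  have dP : d ptP = 0 := by rw [hdv ptP (by simp), if_neg ptP_ne_ptQ]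
  have dQ : d ptQ = 1 := by rw [hdv ptQ (by simp), if_pos rfl]
  have himg : (fun w : leechLattice => signAut (⟨d, hd⟩ : golayCode) • w) '' pieceC = C' := by
    ext w
    constructor
    · rintro ⟨u, ⟨hu1, hu2, hu3⟩, rfl⟩
      refine ⟨octShape_signAut hu1 _, ?_, ?_⟩
      · rw [coordVec_signAut]; simp only [dP, if_true]; exact hu2
      · rw [coordVec_signAut, coordVec_signAut]
        simp only [dP, dQ, one_ne_zero, if_true, if_false]
        omega
    · rintro ⟨h1, h2, h3⟩
      refine ⟨signAut (⟨d, hd⟩ : golayCode) • w, ⟨octShape_signAut h1 _, ?_, ?_⟩, ?_⟩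
      · rw [coordVec_signAut]; simp only [dP, if_true]; exact h2
      · rw [coordVec_signAut, coordVec_signAut]
        simp only [dP, dQ, one_ne_zero, if_true, if_false]
        omega
      · refine leech_ext fun p => ?_
        show coordVec (signAut _ • signAut _ • w) p = coordVec w p
        rw [coordVec_signAut, coordVec_signAut]
        split_ifs <;> ring
  have hfin : (pieceC ∪ C').Finite := by
    rw [← hu]
    refine Set.Finite.of_finite_image ((layer_finite 32).subset ?_) Subtype.val_injective.injOn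
    rintro _ ⟨w, ⟨c, -, -, hn⟩, rfl⟩
    exact ⟨w.2, hn⟩
  have h := ncard_minBlocks_baseWords true
  rw [card_baseWords.1, hu, Set.ncard_union_eq hdis (hfin.subset Set.subset_union_left)
    (hfin.subset Set.subset_union_right), ← himg,
    Set.ncard_image_of_injective _ (MulAction.injective _)] at h
  omega

theorem ncard_pieceE : pieceE.ncard = 45056 := by
  set W := Finset.univ.filter fun c : golayCode =>
    (c : GolayPt → ZMod 2) ptP ≠ (c : GolayPt → ZMod 2) ptQ with hW
  set T := ((Finset.univ : Finset GolayPt).erase ptP).erase ptQ with hT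
  have hcardT : T.card = 22 := by
    rw [hT, Finset.card_erase_of_mem (Finset.mem_erase.2 ⟨ptP_ne_ptQ.symm, Finset.mem_univ _⟩),
      Finset.card_erase_of_mem (Finset.mem_univ _), card_univ_golayPt]
  have hcardW : W.card = 2048 := by
    obtain ⟨d, hd, hdv⟩ := exists_code_on (T := {ptP, ptQ})
      (by rw [Finset.card_pair ptP_ne_ptQ]; norm_num) (fun p => if p = ptP then 1 else 0)
    have dP : d ptP = 1 := by rw [hdv ptP (by simp), if_pos rfl]
    have dQ : d ptQ = 0 := by rw [hdv ptQ (by simp), if_neg ptP_ne_ptQ.symm]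
    have hflip : ∀ a b : ZMod 2, (a + 1 ≠ b + 0) ↔ ¬ a ≠ b := by decide
    have h : W.card = (Finset.univ.filter fun c : golayCode =>
        ¬ (c : GolayPt → ZMod 2) ptP ≠ (c : GolayPt → ZMod 2) ptQ).card := by
      refine Finset.card_nbij' (fun c => c + (⟨d, hd⟩ : golayCode))
        (fun c => c + (⟨d, hd⟩ : golayCode)) ?_ ?_ ?_ ?_
      · intro c hc
        simp only [hW, Finset.mem_coe, Finset.mem_filter, Finset.mem_univ, true_and] at hc ⊢
        rw [Submodule.coe_add, Pi.add_apply, Pi.add_apply,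
          show ((⟨d, hd⟩ : golayCode) : GolayPt → ZMod 2) = d from rfl, dP, dQ, hflip]
        exact fun h => h hc
      · intro c hc
        simp only [hW, Finset.mem_coe, Finset.mem_filter, Finset.mem_univ, true_and] at hc ⊢
        rw [Submodule.coe_add, Pi.add_apply, Pi.add_apply,
          show ((⟨d, hd⟩ : golayCode) : GolayPt → ZMod 2) = d from rfl, dP, dQ, hflip]
        exact hc
      · intro c _
        simp [add_assoc, ZModModule.add_self]
      · intro c _
        simp [add_assoc, ZModModule.add_self]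
    have h2 := Finset.card_filter_add_card_filter_not (s := (Finset.univ : Finset golayCode))
      (fun c : golayCode => (c : GolayPt → ZMod 2) ptP ≠ (c : GolayPt → ZMod 2) ptQ)
    rw [← h, ← hW, Finset.card_univ, ← Nat.card_eq_fintype_card, card_golayCode] at h2
    omega
  have himg : pieceE = (fun x : golayCode × GolayPt => signAut x.1 • oddVec x.2) '' ↑(W ×ˢ T) := by
    ext w
    constructor
    · rintro ⟨⟨k, h3, h1⟩, hs⟩
      obtain ⟨c, rfl⟩ := exists_odd_word h3 h1
      obtain ⟨a, b, e⟩ := odd_piece_word hs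
      exact ⟨(c, k), by simp [hW, hT, a, b, e], rfl⟩
    · rintro ⟨⟨c, k⟩, hx, rfl⟩
      simp only [hW, hT, Finset.mem_coe, Finset.mem_product, Finset.mem_filter, Finset.mem_univ,
        true_and, Finset.mem_erase, and_true] at hx
      obtain ⟨hc, hkQ, hkP⟩ := hx
      refine ⟨oddShape_eq ▸ ⟨(c, k), rfl⟩, ?_⟩
      simp only [coordVec_signAut, coordVec_oddVec, if_neg (Ne.symm hkP), if_neg (Ne.symm hkQ)]
      rcases zmod2_cases ((c : GolayPt → ZMod 2) ptP) with a | a <;>
        rcases zmod2_cases ((c : GolayPt → ZMod 2) ptQ) with b | b <;>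
        simp [a, b] at hc ⊢
  rw [himg, Set.ncard_image_of_injective _ signAut_oddVec_injective, Set.ncard_coe_finset,
    Finset.card_product, hcardW, hcardT]

end CfsgLib.GolayStructure
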