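/-
The size of an orbit composed of pieces on each of which a smaller group is transitive.
-/
import Mathlib

set_option autoImplicit false

namespace CfsgLib.GolayStructure

open scoped Classical

variable {G X : Type*} [Group G] [MulAction G X]

/-- The orbit under a subgroup, as a set. -/
def orbitSet (K : Subgroup G) (x : X) : Set X := {y | ∃ k ∈ K, k • x = y}

theorem smul_mem_orbitSet {K : Subgroup G} {x y : X} {k : G} (hk : k ∈ K)
    (hy : y ∈ orbitSet K x) : k • y ∈ orbitSet K x := by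
  obtain ⟨l, hl, rfl⟩ := hy
  exact ⟨k * l, mul_mem hk hl, mul_smul k l x⟩

theorem ncard_orbitSet_mul (K : Subgroup G) (x : X) :
    (orbitSet K x).ncard * Nat.card ↥(K ⊓ MulAction.stabilizer G x) = Nat.card K := by
  have h1 : orbitSet K x = MulAction.orbit K x := by
    ext y
    exact ⟨fun ⟨k, hk, e⟩ => ⟨⟨k, hk⟩, e⟩, fun ⟨⟨k, hk⟩, e⟩ => ⟨k, hk, e⟩⟩
  have h2 : Nat.card (MulAction.stabilizer K x) =
      Nat.card ↥(K ⊓ MulAction.stabilizer G x) := Nat.card_congr
    { toFun := fun g => ⟨g.1.1, g.1.2, g.2⟩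
      invFun := fun g => ⟨⟨g.1, g.2.1⟩, g.2.2⟩
      left_inv := fun _ => rfl
      right_inv := fun _ => rfl }
  rw [h1, ← MulAction.index_stabilizer, ← h2, mul_comm, Subgroup.card_mul_index]

theorem orbit_sum {m : ℕ} {L K : Subgroup G} (hLK : L ≤ K) {x : X} (base : Set X)
    (parts : Fin m → Set X) (size : Fin m → ℕ)
    (htr : ∀ i, ∀ y ∈ parts i, ∀ z ∈ parts i, ∃ h ∈ L, h • y = z)
    (hbase : base ⊆ orbitSet K x)
    (hcover : ∀ y ∈ orbitSet K x, y ∈ base ∨ ∃ i, y ∈ parts i)
    (hdisj : ∀ i j, i ≠ j → Disjoint (parts i) (parts j))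
    (hbdisj : ∀ i, Disjoint base (parts i))
    (hfb : base.Finite) (hsize : ∀ i, (parts i).ncard = size i) (hpos : ∀ i, 0 < size i) :
    ∃ J : Finset (Fin m), (orbitSet K x).ncard = base.ncard + ∑ i ∈ J, size i ∧
      (J = ∅ → orbitSet K x ⊆ base) ∧ (∀ i ∈ J, parts i ⊆ orbitSet K x) := by
  set J := Finset.univ.filter fun i => ∃ y ∈ parts i, y ∈ orbitSet K x with hJ
  have hmem : ∀ i ∈ J, parts i ⊆ orbitSet K x := by
    intro i hi z hz
    obtain ⟨y, hy, hyo⟩ := (Finset.mem_filter.1 hi).2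
    obtain ⟨h, hh, rfl⟩ := htr i y hy z hz
    exact smul_mem_orbitSet (hLK hh) hyo
  have heq : orbitSet K x = base ∪ ⋃ i ∈ J, parts i := by
    refine Set.Subset.antisymm (fun y hy => ?_)
      (Set.union_subset hbase (Set.iUnion₂_subset hmem))
    rcases hcover y hy with h | ⟨i, hi⟩
    · exact Or.inl h
    · exact Or.inr (Set.mem_iUnion₂.2
        ⟨i, Finset.mem_filter.2 ⟨Finset.mem_univ i, y, hi, hy⟩, hi⟩)
  have hfin : ∀ i, (parts i).Finite := fun i =>
    Set.finite_of_ncard_pos (by rw [hsize]; exact hpos i)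
  refine ⟨J, ?_, fun he => ?_, hmem⟩
  · have hfU : (⋃ i ∈ J, parts i).Finite := J.finite_toSet.biUnion fun i _ => hfin i
    rw [heq, Set.ncard_union_eq (by
      rw [Set.disjoint_iUnion₂_right]; exact fun i _ => hbdisj i) hfb hfU]
    clear hfU
    congr 1
    rw [← Finset.sum_congr rfl fun i _ => hsize i]
    clear heq hmem
    clear_value J
    clear hJ
    induction J using Finset.induction_on with
    | empty => simp
    | @insert a s ha ih =>
      have hfs : (⋃ i ∈ s, parts i).Finite := s.finite_toSet.biUnion fun i _ => hfin i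
      rw [Finset.set_biUnion_insert, Set.ncard_union_eq (by
          rw [Set.disjoint_iUnion₂_right]
          exact fun i hi => hdisj a i fun e => ha (e ▸ hi)) (hfin a) hfs, ih, Finset.sum_insert ha]
  · rw [heq, he]; simp

end CfsgLib.GolayStructure
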