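/-
The monomial group is maximal in the automorphism group of the lattice.
-/
import Cfsg.Agent.Lib.GolayStructure.CrossPieces
import Cfsg.Agent.Lib.GolayStructure.OrbitSum

set_option autoImplicit false

namespace CfsgLib.GolayStructure

open Cfsg CfsgLib.Leech CfsgLib.Fischer2
open scoped Pointwise Classical

theorem baseP_mem_fourShape : baseP ∈ fourShape :=
  ⟨ptP, ptQ, ptP_ne_ptQ, by rw [coordVec_baseP, if_pos (Or.inl rfl)]; rfl,
    by rw [coordVec_baseP, if_pos (Or.inr rfl)]; rfl,
    fun p a b => by rw [coordVec_baseP, if_neg (by simp [a, b])]⟩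

theorem baseP_add_baseM : baseP + baseM = vecA := by
  refine leech_ext fun p => ?_
  show coordVec baseP p + coordVec baseM p = 4 * (if p = none then (2 : ℤ) else 0)
  rw [coordVec_baseP, coordVec_baseM]
  by_cases h1 : p = ptP
  · rw [h1]; simp [ptP, ptQ]
  by_cases h2 : p = ptQ
  · rw [h2]; simp [ptP, ptQ]
  have h1' : ¬ p = none := h1
  simp [h1, h2, h1']

theorem dot_vecA (w : leechLattice) :
    dotInt (coordVec vecA) (coordVec w) = 8 * coordVec w none := by
  rw [dotInt_comm']
  show ∑ p, coordVec w p * (4 * (if p = none then (2 : ℤ) else 0)) = _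
  simp only [mul_ite, mul_zero, Finset.sum_ite_eq', Finset.mem_univ, if_true]
  ring

/-- An element sending the shape of two fours to itself fixes the standard frame. -/
theorem mem_monoGroup_of_fourShape {k : Co0}
    (h : ∀ p ∈ fourShape, k⁻¹ • p ∈ fourShape) : k ∈ monoGroup := by
  rw [mem_stabilizer_crossOf]
  set y := k • vecA with hy
  have hn : sqNorm (coordVec y) = 64 := by rw [hy, sqNorm_smul', sqNorm_vecA]
  have hdot : ∀ a b : GolayPt, a ≠ b → ∀ s : Bool,
      (coordVec y a + if s then -coordVec y b else coordVec y b) ∈ ({0, 8, -8} : Finset ℤ) := by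
    intro a b hab s
    have hp : Leech.fourPair a b false s ∈ fourShape :=
      ⟨a, b, hab, by rw [coordVec_fourPair, if_pos rfl, if_neg hab]; simp,
        by rw [coordVec_fourPair, if_neg hab.symm, if_pos rfl]; cases s <;> simp,
        fun p x z => by rw [coordVec_fourPair, if_neg x, if_neg z]; simp⟩
    have hd := dot_fourPair y (i := a) (j := b) false s
    have he : dotInt (coordVec y) (coordVec (Leech.fourPair a b false s)) =
        8 * coordVec (k⁻¹ • Leech.fourPair a b false s) none := by
      rw [← dot_vecA, ← CfsgLib.Leech.dotInt_smul k vecA (k⁻¹ • Leech.fourPair a b false s),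
        smul_inv_smul]
    rw [he] at hd
    simp only [Bool.false_eq_true, if_false] at hd
    simp only [Finset.mem_insert, Finset.mem_singleton]
    rcases fourShape_abs (h _ hp) none with e | e
    · left; rw [e] at hd; omega
    · rcases abs_choice (coordVec (k⁻¹ • Leech.fourPair a b false s) none) with x | x <;>
        rw [x] at e <;> omega
  obtain ⟨c, hc⟩ : ∃ c, coordVec y c = 0 := by
    by_contra hne
    simp only [not_exists] at hne
    have h16 : ∀ p, 16 ≤ coordVec y p ^ 2 := fun p => by
      obtain ⟨q, hq⟩ := exists_ne p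
      have h1 := hdot p q hq.symm false
      have h2 := hdot p q hq.symm true
      simp only [Finset.mem_insert, Finset.mem_singleton, Bool.false_eq_true, if_false,
        if_true] at h1 h2
      have : coordVec y p = 4 ∨ coordVec y p = -4 ∨ coordVec y p = 8 ∨ coordVec y p = -8 := by
        have := hne p
        omega
      rcases this with e | e | e | e <;> rw [e] <;> norm_num
    have := Finset.sum_le_sum (s := (Finset.univ : Finset GolayPt)) fun p _ => h16 p
    change _ ≤ sqNorm (coordVec y) at this
    rw [hn, Finset.sum_const, card_univ_golayPt] at this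
    norm_num at this
  have h8 : ∀ p, coordVec y p = 0 ∨ |coordVec y p| = 8 := fun p => by
    by_cases hp : p = c
    · exact Or.inl (hp ▸ hc)
    have h1 := hdot p c hp false
    simp only [Finset.mem_insert, Finset.mem_singleton, Bool.false_eq_true, if_false, hc,
      add_zero] at h1
    rcases h1 with e | e | e <;> simp [e]
  obtain ⟨p, hp⟩ : ∃ p, coordVec y p ≠ 0 := by
    by_contra hne
    simp only [not_exists, not_not] at hne
    rw [sqNorm, Finset.sum_eq_zero fun p _ => by rw [hne p]; rfl] at hn
    norm_num at hn
  refine congTwo_vecA_of_four_mul y p ((h8 p).resolve_left hp) fun q hq => ?_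
  by_contra hq0
  have hb := norm_bound (coordVec y) (A := {p}) (B := {q}) (a := 64) (b := 64)
    (by simp [Ne.symm hq])
    (fun i hi => by
      rw [Finset.mem_singleton.1 hi, ← sq_abs, (h8 p).resolve_left hp]; norm_num)
    (fun i hi => by
      rw [Finset.mem_singleton.1 hi, ← sq_abs, (h8 q).resolve_left hq0]; norm_num)
  rw [hn, Finset.card_singleton, Finset.card_singleton] at hb
  norm_num at hb

theorem card_Co0_dvd {K : Subgroup Co0} : Nat.card K ∣ 8315553613086720000 :=
  natCard_Co0 ▸ Subgroup.card_subgroup_dvd_card K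

theorem orbit_first {K : Subgroup Co0} (hK : monoGroup < K) (w : leechLattice)
    (hw : sqNorm (coordVec w) = 32) : w ∈ orbitSet K baseP := by
  have hfb : fourShape.Finite := Set.finite_of_ncard_pos (by rw [ncard_fourShape]; norm_num)
  have hbase : fourShape ⊆ orbitSet K baseP := fun p hp => by
    obtain ⟨g, hg, e⟩ := fourShape_transitive baseP_mem_fourShape hp
    exact ⟨g, hK.le hg, e⟩
  obtain ⟨J, hcard, hempty, hfull⟩ := orbit_sum (m := 2) hK.le fourShape
    ![octShape, oddShape] ![97152, 98304]
    (fun i => by
      fin_cases i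
      · exact fun y hy z hz => octShape_transitive hy hz
      · exact fun y hy z hz => oddShape_transitive hy hz)
    hbase
    (fun y hy => by
      obtain ⟨k, -, rfl⟩ := hy
      rcases shape_cases (k • baseP) (by rw [sqNorm_smul', sqNorm_baseP]) with h | h | h
      · exact Or.inl h
      · exact Or.inr ⟨0, h⟩
      · exact Or.inr ⟨1, h⟩)
    (fun i j hij => by
      have key : Disjoint octShape oddShape := Set.disjoint_left.2 fun w h1 h2 => by
        rcases oddShape_abs h2 none with a | a <;> rcases octShape_abs h1 none with b | b <;>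
          simp_all
      fin_cases i <;> fin_cases j <;> first | exact absurd rfl hij | exact key | exact key.symm)
    (fun i => Set.disjoint_left.2 fun w h1 h2 => by
      fin_cases i
      · obtain ⟨i', -, -, hi', -, -⟩ := h1
        rcases octShape_abs (h2 : w ∈ octShape) i' with b | b <;> simp_all
      · rcases fourShape_abs h1 none with b | b <;>
          rcases oddShape_abs (h2 : w ∈ oddShape) none with a | a <;> simp_all)
    hfb (fun i => by fin_cases i <;> [exact ncard_octShape; exact ncard_oddShape])
    (fun i => by fin_cases i <;> norm_num)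
  have hd : (orbitSet K baseP).ncard ∣ 8315553613086720000 :=
    (Dvd.intro _ (ncard_orbitSet_mul K baseP)).trans card_Co0_dvd
  rw [hcard, ncard_fourShape] at hd
  have hdec : ∀ J : Finset (Fin 2),
      1104 + ∑ i ∈ J, (![97152, 98304] : Fin 2 → ℕ) i ∣ 8315553613086720000 →
      J = ∅ ∨ J = Finset.univ := by decide +kernel
  rcases hdec J hd with rfl | rfl
  · exfalso
    refine hK.not_ge fun k hk => mem_monoGroup_of_fourShape fun p hp => hempty rfl ?_
    exact smul_mem_orbitSet (inv_mem hk) (hbase hp)
  · rcases shape_cases w hw with h | h | h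
    · exact hbase h
    · exact hfull 0 (Finset.mem_univ _) h
    · exact hfull 1 (Finset.mem_univ _) h

/-- The monomial group is maximal. -/
theorem isCoatom_monoGroup : IsCoatom monoGroup := by
  have := finite_Co0
  refine ⟨fun h => ?_, fun K hK => ?_⟩
  · have := card_stabilizer_crossOf
    rw [show (MulAction.stabilizer Co0 (crossOf vecA)) = (⊤ : Subgroup Co0) from h,
      Subgroup.card_top, natCard_Co0] at this
    norm_num at this
  have hall : ∀ w, sqNorm (coordVec w) = 32 → w ∈ orbitSet K baseP := orbit_first hK
  have hO : orbitSet K baseP = {w | sqNorm (coordVec w) = 32} := by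
    refine Set.Subset.antisymm (fun w hw => ?_) hall
    obtain ⟨k, -, rfl⟩ := hw
    show sqNorm (coordVec (k • baseP)) = 32
    rw [sqNorm_smul', sqNorm_baseP]
  have hcO : (orbitSet K baseP).ncard = 196560 := by
    rw [hO, ← ncard_layer_32, ← Set.ncard_image_of_injective _ Subtype.val_injective]
    congr 1
    ext x
    exact ⟨fun ⟨v, hv, e⟩ => e ▸ ⟨v.2, hv⟩, fun ⟨hx, hn⟩ => ⟨⟨x, hx⟩, hn, rfl⟩⟩
  set V := K ⊓ MulAction.stabilizer Co0 baseP with hV
  have hKc := ncard_orbitSet_mul K baseP
  rw [hcO] at hKc
  have hVd : Nat.card V ∣ 42305421312000 := by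
    have h := card_Co0_dvd (K := K)
    rw [← hKc, show (8315553613086720000 : ℕ) = 196560 * 42305421312000 by norm_num] at h
    exact (Nat.mul_dvd_mul_iff_left (by norm_num)).1 h
  have hLV : monoBase ≤ V := inf_le_inf_right _ hK.le
  have hA : ({baseM, -baseM} : Set leechLattice) ⊆ orbitSet V baseM := by
    rintro w (rfl | rfl)
    · exact ⟨1, one_mem V, one_smul _ _⟩
    · obtain ⟨g, hg, e⟩ := exists_swap
      exact ⟨g, hLV hg, e⟩
  have hMorth : coordVec baseM ptP + coordVec baseM ptQ = 0 := by
    rw [coordVec_baseM, coordVec_baseM, if_pos rfl, if_neg ptP_ne_ptQ.symm, if_pos rfl]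
    norm_num
  have horth : ∀ y ∈ orbitSet V baseM,
      sqNorm (coordVec y) = 32 ∧ coordVec y ptP + coordVec y ptQ = 0 := by
    rintro y ⟨k, hk, rfl⟩
    refine ⟨by rw [sqNorm_smul', baseM, sqNorm_fourPair ptP_ne_ptQ], ?_⟩
    have hkv : k • baseP = baseP := hk.2
    have h := CfsgLib.Leech.dotInt_smul k baseM baseP
    rw [hkv] at h
    change dotInt (coordVec (k • baseM)) (coordVec baseP) =
      dotInt (coordVec baseM) (coordVec baseP) at h
    rw [dot_baseP, dot_baseP, hMorth] at h
    omega
  have hAabs : ∀ w ∈ ({baseM, -baseM} : Set leechLattice), |coordVec w ptP| = 4 := by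
    rintro w (rfl | rfl)
    · rw [coordVec_baseM, if_pos rfl]; rfl
    · show |(-coordVec baseM ptP)| = 4
      rw [coordVec_baseM, if_pos rfl]; rfl
  obtain ⟨J, hcard, hempty, hfull⟩ := orbit_sum (m := 4) hLV {baseM, -baseM}
    ![pieceB, pieceC, pieceD, pieceE] ![924, 4928, 42240, 45056]
    (fun i => by
      fin_cases i
      · exact fun y hy z hz => pieceB_transitive hy hz
      · exact fun y hy z hz => pieceC_transitive hy hz
      · exact fun y hy z hz => pieceD_transitive hy hz
      · exact fun y hy z hz => pieceE_transitive hy hz)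
    hA
    (fun y hy => by
      rcases orth_cases (horth y hy).1 (horth y hy).2 with h | h | h | h | h | h
      · exact Or.inl (Or.inl h)
      · exact Or.inl (Or.inr h)
      · exact Or.inr ⟨0, h⟩
      · exact Or.inr ⟨1, h⟩
      · exact Or.inr ⟨2, h⟩
      · exact Or.inr ⟨3, h⟩)
    (fun i j hij => by
      have hBC : Disjoint pieceB pieceC := Set.disjoint_left.2 fun w h1 h2 => h2.2.1 h1.2.1
      have hBD : Disjoint pieceB pieceD := Set.disjoint_left.2 fun w h1 h2 => by
        obtain ⟨i', -, -, hi', -, -⟩ := h1.1
        rcases octShape_abs h2.1 i' with b | b <;> simp_all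
      have hBE : Disjoint pieceB pieceE := Set.disjoint_left.2 fun w h1 h2 => by
        rcases oddShape_abs h2.1 ptP with a | a <;> rw [h1.2.1] at a <;> norm_num at a
      have hCD : Disjoint pieceC pieceD := Set.disjoint_left.2 fun w h1 h2 => h1.2.1 h2.2.1
      have hCE : Disjoint pieceC pieceE := Set.disjoint_left.2 fun w h1 h2 => by
        rcases oddShape_abs h2.1 ptP with a | a <;>
          rcases octShape_abs h1.1 ptP with b | b <;> simp_all
      have hDE : Disjoint pieceD pieceE := Set.disjoint_left.2 fun w h1 h2 => by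
        rcases oddShape_abs h2.1 ptP with a | a <;> rw [h1.2.1] at a <;> norm_num at a
      fin_cases i <;> fin_cases j <;> first | exact absurd rfl hij | exact hBC | exact hBC.symm | exact hBD | exact hBD.symm | exact hBE | exact hBE.symm | exact hCD | exact hCD.symm | exact hCE | exact hCE.symm | exact hDE | exact hDE.symm)
    (fun i => Set.disjoint_left.2 fun w h1 h2 => by
      have h4 := hAabs w h1
      fin_cases i
      · rw [(h2 : w ∈ pieceB).2.1] at h4; norm_num at h4
      · rcases octShape_abs (h2 : w ∈ pieceC).1 ptP with b | b <;> simp_all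
      · rw [(h2 : w ∈ pieceD).2.1] at h4; norm_num at h4
      · rcases oddShape_abs (h2 : w ∈ pieceE).1 ptP with a | a <;> simp_all)
    (Set.toFinite _)
    (fun i => by
      fin_cases i <;> [exact ncard_pieceB; exact ncard_pieceC; exact ncard_pieceD;
        exact ncard_pieceE])
    (fun i => by fin_cases i <;> norm_num)
  have h2 : ({baseM, -baseM} : Set leechLattice).ncard = 2 := by
    refine Set.ncard_pair fun e => ?_
    have := congrArg (fun v => coordVec v ptP) e
    change coordVec baseM ptP = -coordVec baseM ptP at this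
    rw [coordVec_baseM, if_pos rfl] at this
    norm_num at this
  have hd : (orbitSet V baseM).ncard ∣ 42305421312000 :=
    (Dvd.intro _ (ncard_orbitSet_mul V baseM)).trans hVd
  rw [hcard, h2] at hd
  have hdec : ∀ J : Finset (Fin 4),
      2 + ∑ i ∈ J, (![924, 4928, 42240, 45056] : Fin 4 → ℕ) i ∣ 42305421312000 →
      J = ∅ ∨ J = Finset.univ := by decide +kernel
  rcases hdec J hd with rfl | rfl
  · exfalso
    have hVle : V ≤ monoBase := by
      intro k hk
      refine Subgroup.mem_inf.2 ⟨mem_stabilizer_crossOf.2 ?_, hk.2⟩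
      have hkv : k • baseP = baseP := hk.2
      rw [← baseP_add_baseM, smul_add_co0, hkv, baseP_add_baseM]
      rcases hempty rfl ⟨k, hk, rfl⟩ with e | e
      · rw [e, baseP_add_baseM]; exact CongTwo.refl _
      · rw [e]
        refine congTwo_vecA_of_four_mul _ ptQ ?_ fun q hq => ?_
        · show |coordVec baseP ptQ + -coordVec baseM ptQ| = 8
          rw [coordVec_baseP, coordVec_baseM, if_pos (Or.inr rfl), if_neg ptP_ne_ptQ.symm,
            if_pos rfl]
          norm_num
        · show coordVec baseP q + -coordVec baseM q = 0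
          rw [coordVec_baseP, coordVec_baseM]
          by_cases h1 : q = ptP
          · subst h1; simp
          simp [h1, hq]
    have hVeq : V = monoBase := le_antisymm hVle hLV
    have hfour : orbitSet monoGroup baseP = fourShape := by
      refine Set.Subset.antisymm ?_ fun p hp => ?_
      · rintro p ⟨g, hg, rfl⟩
        obtain ⟨d, σ, rfl⟩ := exists_monomial (mem_stabilizer_crossOf.1 hg)
        obtain ⟨i, j, hij, hi, hj, h0⟩ := baseP_mem_fourShape
        refine ⟨(σ : Equiv.Perm GolayPt) i, (σ : Equiv.Perm GolayPt) j,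
          fun e => hij ((σ : Equiv.Perm GolayPt).injective e), ?_, ?_, fun q a b => ?_⟩
        · rw [mul_smul, signAut_abs, coordVec_permAut, Equiv.symm_apply_apply]; exact hi
        · rw [mul_smul, signAut_abs, coordVec_permAut, Equiv.symm_apply_apply]; exact hj
        · rw [mul_smul, coordVec_signAut, coordVec_permAut,
            h0 _ (fun e => a (by rw [← e, Equiv.apply_symm_apply]))
              (fun e => b (by rw [← e, Equiv.apply_symm_apply])), neg_zero, ite_self]
      · obtain ⟨g, hg, e⟩ := fourShape_transitive baseP_mem_fourShape hp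
        exact ⟨g, hg, e⟩
    have hm := ncard_orbitSet_mul monoGroup baseP
    rw [hfour, ncard_fourShape] at hm
    have hdm : Nat.card monoGroup ∣ Nat.card K := Subgroup.card_dvd_of_le hK.le
    rw [← hKc, ← hm, show Nat.card ↥(K ⊓ MulAction.stabilizer Co0 baseP) =
      Nat.card ↥monoBase from by rw [← hV, hVeq]] at hdm
    have hpos : 0 < Nat.card ↥monoBase := Nat.card_pos
    have := (Nat.mul_dvd_mul_iff_right hpos).1 hdm
    norm_num at this
  · refine eq_top_iff.2 fun g _ => ?_
    obtain ⟨k1, hk1, e1⟩ := hall (g • baseP) (by rw [sqNorm_smul', sqNorm_baseP])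
    have hw : k1⁻¹ • g • baseM ∈ orbitSet V baseM := by
      have hn : sqNorm (coordVec (k1⁻¹ • g • baseM)) = 32 := by
        rw [sqNorm_smul', sqNorm_smul', baseM, sqNorm_fourPair ptP_ne_ptQ]
      have hd0 : coordVec (k1⁻¹ • g • baseM) ptP + coordVec (k1⁻¹ • g • baseM) ptQ = 0 := by
        have h := CfsgLib.Leech.dotInt_smul (k1⁻¹ * g) baseM baseP
        rw [mul_smul, mul_smul, ← e1, inv_smul_smul] at h
        change dotInt (coordVec (k1⁻¹ • g • baseM)) (coordVec baseP) =
          dotInt (coordVec baseM) (coordVec baseP) at h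
        rw [dot_baseP, dot_baseP, hMorth] at h
        omega
      rcases orth_cases hn hd0 with h | h | h | h | h | h
      · exact hA (Or.inl h)
      · exact hA (Or.inr h)
      · exact hfull 0 (Finset.mem_univ _) h
      · exact hfull 1 (Finset.mem_univ _) h
      · exact hfull 2 (Finset.mem_univ _) h
      · exact hfull 3 (Finset.mem_univ _) h
    obtain ⟨k2, hk2, e2⟩ := hw
    have hk2v : k2 • baseP = baseP := hk2.2
    have hP : ((k1 * k2)⁻¹ * g) • baseP = baseP := by
      rw [mul_smul, ← e1, mul_inv_rev, mul_smul, inv_smul_smul, inv_smul_eq_iff, hk2v]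
    have hM : ((k1 * k2)⁻¹ * g) • baseM = baseM := by
      rw [mul_smul, mul_inv_rev, mul_smul, ← e2, inv_smul_smul]
    have hmem : (k1 * k2)⁻¹ * g ∈ monoGroup := by
      rw [mem_stabilizer_crossOf, ← baseP_add_baseM, smul_add_co0, hP, hM]
      exact CongTwo.refl _
    have := mul_mem (mul_mem hk1 hk2.1) (hK.le hmem)
    rwa [mul_inv_cancel_left] at this

end CfsgLib.GolayStructure
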