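/-
Simplicity of the automorphism group of the lattice modulo its centre, from the maximality of
the monomial group (the criterion of Iwasawa, for the action on crosses).
-/
import Cfsg.Agent.Lib.GolayStructure.CrossMaximal
import Cfsg.Agent.Lib.Fischer2.LeechCoTwo
import Cfsg.Agent.Lib.Fischer2.LeechFrameNormal
import Cfsg.Agent.Lib.Golay.Simple

set_option autoImplicit false

namespace CfsgLib.GolayStructure

open Cfsg CfsgLib.Leech CfsgLib.Fischer2
open scoped Pointwise Classical

theorem congTwo_add {a b c d : leechLattice} (h : CongTwo a b) (h' : CongTwo c d) :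
    CongTwo (a + c) (b + d) := by
  obtain ⟨u, rfl⟩ := h
  obtain ⟨u', rfl⟩ := h'
  exact ⟨u + u', by abel⟩

/-- An element fixing every cross is central. -/
theorem mem_center_of_fix_crosses {g : Co0}
    (hg : ∀ v, sqNorm (coordVec v) = 64 → CongTwo (g • v) v) : g ∈ Subgroup.center Co0 := by
  let fx : GolayPt → ℤ := fun p =>
    if p = none ∨ p = some 1 ∨ p = some 2 ∨ p = some 3 then 1 else 0
  let fy : GolayPt → ℤ := fun p =>
    if p = some 0 then 1 else if p = some 1 ∨ p = some 2 ∨ p = some 3 then -1 else 0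
  have hx : (2 : ℤ) ∣ ∑ p, fx p ∧ ∑ p, (4 * fx p) ^ 2 = 64 ∧ (2 : ℤ) ∣ ∑ p, fy p ∧
      ∑ p, (4 * fy p) ^ 2 = 64 ∧ ∀ p, 4 * fx p + 4 * fy p =
        if p = ptP ∨ p = ptQ then 4 else 0 := by decide +kernel
  obtain ⟨h1, h2, h3, h4, h5⟩ := hx
  let X : leechLattice := ⟨fun p => 4 * fx p, CfsgLib.Fischer2.four_mul_mem h1⟩
  let Y : leechLattice := ⟨fun p => 4 * fy p, CfsgLib.Fischer2.four_mul_mem h3⟩
  have hXY : X + Y = baseP := leech_ext fun p => (h5 p).trans (coordVec_baseP p).symm
  have hshort : ∀ v, sqNorm (coordVec v) = 32 → g • v = v ∨ g • v = -v := by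
    intro v hv
    obtain ⟨h, hh⟩ := sameOrbit_norm32 hv ptP_ne_ptQ
    have hv' : v = h⁻¹ • X + h⁻¹ • Y := by
      rw [← smul_add_co0, hXY, eq_inv_smul_iff]; exact hh
    have hc : CongTwo (g • v) v := by
      rw [hv', smul_add_co0]
      exact congTwo_add (hg _ (by rw [sqNorm_smul']; exact h2))
        (hg _ (by rw [sqNorm_smul']; exact h4))
    rcases congTwo_cases hc (by rw [sqNorm_smul', hv]; norm_num) (by rw [hv]; norm_num) with
      e | e | ⟨-, e, -⟩
    · exact Or.inl e
    · exact Or.inr e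
    · rw [hv] at e; norm_num at e
  exact mem_center_of_fix_short (hshort _ sqNorm_leechU) fun v hv _ => hshort v hv

/-- A normal subgroup is central or supplements the monomial group. -/
theorem normal_cases (N : Subgroup Co0) [N.Normal] :
    N ≤ Subgroup.center Co0 ∨ N ⊔ monoGroup = ⊤ := by
  rcases eq_or_lt_of_le (le_sup_right : monoGroup ≤ N ⊔ monoGroup) with h | h
  · refine Or.inl fun n hn => mem_center_of_fix_crosses fun v hv => ?_
    obtain ⟨g, hg⟩ := isAxisClass_norm64 v hv
    have hm : g * n * g⁻¹ ∈ monoGroup :=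
      h.symm ▸ Subgroup.mem_sup_left (Subgroup.Normal.conj_mem inferInstance n hn g)
    have h1 : CongTwo (g • n • g⁻¹ • vecA) vecA := by
      have := mem_stabilizer_crossOf.1 hm
      rwa [mul_smul, mul_smul] at this
    have h2 : CongTwo (n • g⁻¹ • vecA) (g⁻¹ • vecA) := by
      have := h1.smul g⁻¹
      rwa [inv_smul_smul] at this
    have h3 : CongTwo v (g⁻¹ • vecA) := by
      have := hg.smul g⁻¹
      rwa [inv_smul_smul] at this
    exact (h3.smul n).trans (h2.trans h3.symm)
  · exact Or.inr (isCoatom_monoGroup.2 _ h)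

theorem signAut_mem_monoGroup (d : golayCode) : signAut d ∈ monoGroup := by
  have := monoAut_mem d 1
  rwa [monoAut, ← permHom_apply, map_one, mul_one] at this

theorem range_signHom_le : signHom.range ≤ monoGroup := fun g hg => by
  obtain ⟨d, rfl⟩ := mem_range_signHom.1 hg
  exact signAut_mem_monoGroup d

/-- The sign changes are normal in the monomial group. -/
theorem conj_range_signHom {m : Co0} (hm : m ∈ monoGroup) {e : Co0} (he : e ∈ signHom.range) :
    m * e * m⁻¹ ∈ signHom.range := by
  obtain ⟨d, rfl⟩ := mem_range_signHom.1 he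
  obtain ⟨a, σ, rfl⟩ := exists_monomial (mem_stabilizer_crossOf.1 hm)
  have h1 : permAut σ * signAut d * (permAut σ)⁻¹ ∈ signHom.range := by
    rw [permAut_mul_signAut, mul_inv_cancel_right]
    exact mem_range_signHom.2 ⟨_, rfl⟩
  have h2 : signAut a * permAut σ * signAut d * (signAut a * permAut σ)⁻¹ =
      signAut a * (permAut σ * signAut d * (permAut σ)⁻¹) * (signAut a)⁻¹ := by group
  rw [h2]
  have ha : signAut a ∈ signHom.range := mem_range_signHom.2 ⟨a, rfl⟩
  exact mul_mem (mul_mem ha h1) (inv_mem ha)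

/-- Moving fixed points of a conjugation of prime order. -/
theorem commute_of_conj_invariant {G : Type*} [Group G] [Finite G] {g : G} (hg : g ^ 23 = 1)
    (P : Subgroup G) (hP : Nat.card P = 13) (hinv : ∀ x, x ∈ P ↔ g * x * g⁻¹ ∈ P) :
    ∀ x ∈ P, g * x = x * g := by
  have : Fact (Nat.Prime 23) := ⟨by norm_num⟩
  have : Fintype P := Fintype.ofFinite P
  set σ : Equiv.Perm P := Equiv.Perm.subtypePerm ((MulAut.conj g).toEquiv : Equiv.Perm G)
    (fun x => show g * x * g⁻¹ ∈ P ↔ x ∈ P from (hinv x).symm) with hσdef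
  have hσ : σ ^ 23 ^ 1 = 1 := by
    rw [pow_one]
    refine Equiv.Perm.ext fun x => Subtype.ext ?_
    have h : ∀ n : ℕ, ((σ ^ n) x).1 = g ^ n * x.1 * (g ^ n)⁻¹ := by
      intro n
      induction n with
      | zero => simp
      | succ n ih =>
        rw [pow_succ', Equiv.Perm.mul_apply]
        show g * ((σ ^ n) x).1 * g⁻¹ = _
        rw [ih, pow_succ']
        group
    rw [h, hg]
    simp
  have h := Equiv.Perm.card_compl_support_modEq hσ
  rw [← Nat.card_eq_fintype_card, hP] at h
  have hle := Finset.card_le_univ (σ.supportᶜ)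
  rw [← Nat.card_eq_fintype_card, hP] at hle
  have hfull : σ.supportᶜ = Finset.univ := by
    refine Finset.eq_univ_of_card _ ?_
    rw [← Nat.card_eq_fintype_card, hP]
    rw [Nat.ModEq] at h
    omega
  intro x hx
  have : (⟨x, hx⟩ : P) ∈ σ.supportᶜ := hfull ▸ Finset.mem_univ _
  rw [Finset.mem_compl, Equiv.Perm.mem_support, not_not] at this
  have h' : g * x * g⁻¹ = x := congrArg Subtype.val this
  exact mul_inv_eq_iff_eq_mul.1 h'

theorem some_one_ne : (some 1 : GolayPt) ≠ some 0 := by decide +kernel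

theorem none_ne_some_zero : (none : GolayPt) ≠ some 0 := by decide +kernel

/-- The shift of order 23. -/
noncomputable def shiftOne : M24 := ⟨shiftPerm 1, shiftPerm_mem_M24 1⟩

theorem shiftOne_symm_some (x : ZMod 23) :
    (shiftOne : Equiv.Perm GolayPt).symm (some x) = some (x - 1) := by
  show (shiftPerm 1).symm (some x) = _
  rw [Equiv.symm_apply_eq]
  simp [shiftPerm]

theorem shiftOne_symm_none : (shiftOne : Equiv.Perm GolayPt).symm none = none := by
  show (shiftPerm 1).symm none = _
  rw [Equiv.symm_apply_eq]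
  rfl

theorem shiftPerm_one_pow : (shiftPerm 1) ^ 23 = 1 := by decide +kernel

theorem orderOf_permAut_shiftOne : orderOf (permAut shiftOne) = 23 := by
  have : Fact (Nat.Prime 23) := ⟨by norm_num⟩
  refine orderOf_eq_prime ?_ fun h => ?_
  · have h23 : shiftOne ^ 23 = 1 := by
      refine Subtype.ext ?_
      show (shiftPerm 1) ^ 23 = 1
      exact shiftPerm_one_pow
    rw [← permHom_apply, ← map_pow, h23, map_one]
  · have := congrArg (fun g : Co0 => coordVec (g • axisVec (some 0)) (some 1)) h
    rw [coordVec_permAut, one_smul, shiftOne_symm_some, coordVec_axisVec, coordVec_axisVec,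
      if_pos (by simp), if_neg some_one_ne] at this
    norm_num at this

theorem commute_shift_mem_mono {k : Co0} (h : permAut shiftOne * k = k * permAut shiftOne) :
    k ∈ monoGroup := by
  set w := k • axisVec none with hw
  have hn : sqNorm (coordVec w) = 64 := by rw [hw, sqNorm_smul', sqNorm_axisVec]
  have hax : permAut shiftOne • axisVec none = axisVec none := by
    refine leech_ext fun p => ?_
    rw [coordVec_permAut, coordVec_axisVec, coordVec_axisVec]
    rcases p with _ | x
    · rw [shiftOne_symm_none]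
    · rw [shiftOne_symm_some]; simp
  have hfix : permAut shiftOne • w = w := by
    rw [hw, ← mul_smul, h, mul_smul, hax]
  have hstep : ∀ x : ZMod 23, coordVec w (some (x - 1)) = coordVec w (some x) := fun x => by
    have := congrArg (fun v => coordVec v (some x)) hfix
    rwa [coordVec_permAut, shiftOne_symm_some] at this
  have hconst : ∀ x : ZMod 23, coordVec w (some x) = coordVec w (some 0) := by
    intro x
    rw [← ZMod.natCast_zmod_val x]
    induction x.val with
    | zero => rw [Nat.cast_zero]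
    | succ n ih => rw [← ih, ← hstep ((n + 1 : ℕ) : ZMod 23)]; push_cast; simp
  have hsum : coordVec w none ^ 2 + 23 * coordVec w (some 0) ^ 2 = 64 := by
    rw [← hn, sqNorm, Fintype.sum_option]
    simp only [hconst, Finset.sum_const, Finset.card_univ, ZMod.card, nsmul_eq_mul]
    norm_num
  set b := coordVec w none
  set c := coordVec w (some 0)
  have hc : c = 0 := by
    have hb : 0 ≤ b ^ 2 := sq_nonneg b
    have : -1 ≤ c ∧ c ≤ 1 := by constructor <;> nlinarith
    rcases (show c = 0 ∨ c = 1 ∨ c = -1 by omega) with e | e | e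
    · exact e
    all_goals
      exfalso
      rw [e] at hsum
      have : -6 ≤ b ∧ b ≤ 6 := by constructor <;> nlinarith
      obtain ⟨l, u⟩ := this
      interval_cases b <;> norm_num at hsum
  have hb8 : |b| = 8 := by
    rw [hc] at hsum
    have : b ^ 2 = 8 ^ 2 := by linarith
    rcases sq_eq_sq_iff_eq_or_eq_neg.1 this with e | e <;> rw [e] <;> norm_num
  rw [mem_stabilizer_crossOf]
  have h1 : CongTwo w vecA := congTwo_vecA_of_four_mul w none hb8 fun q hq => by
    rcases q with _ | x
    · exact absurd rfl hq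
    · rw [hconst x]; exact hc
  exact ((congTwo_axisVec none).symm.smul k).trans h1

/-- A normal subgroup containing the sign changes is everything. -/
theorem eq_top_of_signs_le (S : Subgroup Co0) [S.Normal] (hE : signHom.range ≤ S) : S = ⊤ := by
  have := finite_Co0
  have : Fact (Nat.Prime 13) := ⟨by norm_num⟩
  have : Fact (Nat.Prime 23) := ⟨by norm_num⟩
  rcases normal_cases S with hS | hS
  · exfalso
    obtain ⟨d, hd, hdv⟩ := exists_code_on (T := {(none : GolayPt), some 0})
      (by simp) (fun p => if p = none then 1 else 0)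
    have := hS (hE (mem_range_signHom.2 ⟨⟨d, hd⟩, rfl⟩))
    rcases (signAut_mem_center_iff _).1 this with e | e
    · have h0 : d none = 0 := congrFun e none
      rw [hdv none (by simp), if_pos rfl] at h0
      exact one_ne_zero h0
    · have h1 : d (some 0) = 1 := congrFun e (some 0)
      rw [hdv (some 0) (by simp), if_neg none_ne_some_zero.symm] at h1
      exact zero_ne_one h1
  have htr : orbitSet S (crossOf vecA) = MulAction.orbit Co0 (crossOf vecA) := by
    refine Set.Subset.antisymm (fun y ⟨k, _, e⟩ => ⟨k, e⟩) ?_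
    rintro y ⟨g, rfl⟩
    obtain ⟨s, hs, m, hm, rfl⟩ := Subgroup.mem_sup_of_normal_left.1 (hS ▸ Subgroup.mem_top g)
    refine ⟨s, hs, ?_⟩
    show s • crossOf vecA = (s * m) • crossOf vecA
    rw [mul_smul, show m • crossOf vecA = crossOf vecA from hm]
  by_cases hex : ∃ d σ, σ ≠ 1 ∧ signAut d * permAut σ ∈ S
  · obtain ⟨d, σ, hσ, hmem⟩ := hex
    have hperm : permAut σ ∈ S := by
      have := mul_mem (inv_mem (hE (mem_range_signHom.2 ⟨d, rfl⟩))) hmem
      rwa [inv_mul_cancel_left] at this
    have := CfsgLib.Golay.isSimpleGroup_M24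
    rcases IsSimpleGroup.eq_bot_or_eq_top_of_normal (S.comap permHom) inferInstance with h | h
    · exact absurd (Subgroup.mem_bot.1 (h ▸ (hperm : σ ∈ S.comap permHom))) hσ
    · have hM : monoGroup ≤ S := fun g hg => by
        obtain ⟨a, τ, rfl⟩ := exists_monomial (mem_stabilizer_crossOf.1 hg)
        exact mul_mem (hE (mem_range_signHom.2 ⟨a, rfl⟩))
          ((h ▸ Subgroup.mem_top τ : τ ∈ S.comap permHom))
      rw [← hS, sup_of_le_left hM]
  exfalso
  simp only [not_exists, not_and] at hex
  have hmeet : S ⊓ monoGroup = signHom.range := by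
    refine le_antisymm (fun g hg => ?_) (le_inf hE range_signHom_le)
    obtain ⟨hgS, hgM⟩ := Subgroup.mem_inf.1 hg
    obtain ⟨a, τ, rfl⟩ := exists_monomial (mem_stabilizer_crossOf.1 hgM)
    have hτ : τ = 1 := by
      by_contra hτ
      exact hex a τ hτ hgS
    rw [hτ, ← permHom_apply, map_one, mul_one]
    exact mem_range_signHom.2 ⟨a, rfl⟩
  have hcardE : Nat.card (signHom.range) = 4096 := by
    rw [← Nat.card_congr (MonoidHom.ofInjective (f := signHom) fun a b h =>
      signAut_injective h).toEquiv, ← card_golayCode]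
    exact Nat.card_congr Multiplicative.toAdd
  have hcardS : Nat.card S = 33965568000 := by
    rw [← ncard_orbitSet_mul S (crossOf vecA), htr, ncard_orbit_crossOf,
      show S ⊓ MulAction.stabilizer Co0 (crossOf vecA) = signHom.range from hmeet, hcardE]
  obtain ⟨P⟩ : Nonempty (Sylow 13 S) := inferInstance
  have hfr := Sylow.normalizer_sup_eq_top P
  set P' : Subgroup Co0 := P.map S.subtype with hP'
  have hPcard : Nat.card P' = 13 := by
    rw [hP', Subgroup.card_map_of_injective (Subgroup.subtype_injective _), P.card_eq_multiplicity,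
      hcardS]
    have : (33965568000 : ℕ).factorization 13 = 1 := by
      rw [show (33965568000 : ℕ) = 13 * 2612736000 by norm_num,
        Nat.factorization_mul (by norm_num) (by norm_num), Finsupp.add_apply,
        Nat.Prime.factorization_self (by norm_num),
        Nat.factorization_eq_zero_of_not_dvd (by norm_num)]
    rw [this, pow_one]
  have h23 : 23 ∣ Nat.card (Subgroup.normalizer (P' : Set Co0)) := by
    set L := Subgroup.normalizer (P' : Set Co0)
    have hsurj : Function.Surjective ((QuotientGroup.mk' S).comp L.subtype) := by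
      intro q
      obtain ⟨g, rfl⟩ := QuotientGroup.mk'_surjective S q
      obtain ⟨l, hl, s, hs, rfl⟩ := Subgroup.mem_sup_of_normal_right.1 (hfr ▸ Subgroup.mem_top g)
      refine ⟨⟨l, hl⟩, ?_⟩
      show ((l : Co0) : Co0 ⧸ S) = ((l * s : Co0) : Co0 ⧸ S)
      rw [QuotientGroup.eq, inv_mul_cancel_left]
      exact hs
    have hd := Subgroup.card_dvd_of_surjective _ hsurj
    refine dvd_trans ?_ hd
    have := Subgroup.card_mul_index S
    rw [hcardS, natCard_Co0, Subgroup.index_eq_card] at this
    rw [show Nat.card (Co0 ⧸ S) = 244823040 by omega]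
    norm_num
  obtain ⟨g, hg⟩ := exists_prime_orderOf_dvd_card' (G := Subgroup.normalizer (P' : Set Co0)) 23 h23
  have hg23 : orderOf (g : Co0) = 23 := by rw [Subgroup.orderOf_coe]; exact hg
  have hcomm := commute_of_conj_invariant (hg23 ▸ pow_orderOf_eq_one (g : Co0)) P' hPcard
    (Subgroup.mem_normalizer_iff.1 g.2)
  obtain ⟨x, hx⟩ := exists_prime_orderOf_dvd_card' (G := P') 13 (by rw [hPcard])
  have hz : ∀ a : Co0, orderOf a = 23 → IsPGroup 23 (Subgroup.zpowers a) ∧
      ∀ Q : Sylow 23 Co0, Subgroup.zpowers a ≤ Q → (Q : Subgroup Co0) = Subgroup.zpowers a := by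
    intro a ha
    have hc : Nat.card (Subgroup.zpowers a) = 23 := by rw [Nat.card_zpowers, ha]
    refine ⟨IsPGroup.of_card (n := 1) (by rw [hc, pow_one]), fun Q hQ => ?_⟩
    refine (Subgroup.eq_of_le_of_card_ge hQ ?_).symm
    rw [hc, Q.card_eq_multiplicity, natCard_Co0,
      show (8315553613086720000 : ℕ) = 23 * 361545809264640000 by norm_num,
      Nat.factorization_mul (by norm_num) (by norm_num), Finsupp.add_apply,
      Nat.Prime.factorization_self (by norm_num),
      Nat.factorization_eq_zero_of_not_dvd (by norm_num)]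
    norm_num
  obtain ⟨hp1, hq1⟩ := hz _ hg23
  obtain ⟨hp2, hq2⟩ := hz _ orderOf_permAut_shiftOne
  obtain ⟨Q1, hQ1⟩ := hp1.exists_le_sylow
  obtain ⟨Q2, hQ2⟩ := hp2.exists_le_sylow
  obtain ⟨h, hh⟩ := MulAction.exists_smul_eq Co0 Q1 Q2
  have hmem : permAut shiftOne ∈ ((h • Q1 : Sylow 23 Co0) : Subgroup Co0) := by
    rw [hh]; exact hQ2 (Subgroup.mem_zpowers _)
  rw [Sylow.coe_subgroup_smul, hq1 Q1 hQ1, Subgroup.mem_smul_pointwise_iff_exists] at hmem
  obtain ⟨a, ha, hae⟩ := hmem
  obtain ⟨j, rfl⟩ := Subgroup.mem_zpowers_iff.1 ha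
  have hk : h * (x : Co0) * h⁻¹ ∈ monoGroup := by
    refine commute_shift_mem_mono ?_
    rw [← hae]
    show h * (g : Co0) ^ j * h⁻¹ * (h * (x : Co0) * h⁻¹) =
      h * (x : Co0) * h⁻¹ * (h * (g : Co0) ^ j * h⁻¹)
    have hc : (g : Co0) ^ j * (x : Co0) = (x : Co0) * (g : Co0) ^ j :=
      (Commute.zpow_left (show Commute (g : Co0) (x : Co0) from hcomm _ x.2) j)
    calc h * (g : Co0) ^ j * h⁻¹ * (h * (x : Co0) * h⁻¹)
        = h * ((g : Co0) ^ j * (x : Co0)) * h⁻¹ := by group
      _ = h * ((x : Co0) * (g : Co0) ^ j) * h⁻¹ := by rw [hc]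
      _ = _ := by group
  have hord : orderOf (h * (x : Co0) * h⁻¹) = 13 := by
    rw [show h * (x : Co0) * h⁻¹ = MulAut.conj h (x : Co0) from rfl, MulEquiv.orderOf_eq,
      Subgroup.orderOf_coe]
    exact hx
  have hd := Subgroup.orderOf_dvd_natCard monoGroup hk
  rw [hord, card_stabilizer_crossOf] at hd
  norm_num at hd

/-- The derived group with the centre is everything. -/
theorem commutator_sup_center : commutator Co0 ⊔ Subgroup.center Co0 = ⊤ := by
  set C := commutator Co0 ⊔ Subgroup.center Co0 with hC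
  refine eq_top_of_signs_le C fun e he => ?_
  obtain ⟨c, rfl⟩ := mem_range_signHom.1 he
  let W : AddSubgroup (GolayPt → ZMod 2) :=
    { carrier := {w | ∃ hw : w ∈ golayCode, signAut ⟨w, hw⟩ ∈ C}
      zero_mem' := ⟨golayCode.zero_mem, (congrArg (· ∈ C) signAut_zero).mpr C.one_mem⟩
      add_mem' := fun {a b} ⟨ha, hA⟩ ⟨hb, hB⟩ => ⟨golayCode.add_mem ha hb,
        (congrArg (· ∈ C) (signAut_mul ⟨a, ha⟩ ⟨b, hb⟩)).mp (C.mul_mem hA hB)⟩
      neg_mem' := fun {a} ⟨ha, hA⟩ => by
        rw [show -a = a from funext fun i => ZMod.neg_eq_self_mod_two (a i)]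
        exact ⟨ha, hA⟩ }
  have hW1 : (1 : GolayPt → ZMod 2) ∈ W :=
    ⟨one_mem_golayCode, (congrArg (· ∈ C) signAut_oneWord).mpr
      (Subgroup.mem_sup_right negAut_mem_center)⟩
  have hinv : ∀ t, ∀ w ∈ W, w ∘ shiftPerm t ∈ W := by
    rintro t w ⟨hw, hA⟩
    refine ⟨shift_mem_golayCode t hw, ?_⟩
    let σ : M24 := ⟨shiftPerm t, shiftPerm_mem_M24 t⟩
    have h := (inferInstance : C.Normal).conj_mem _ hA (permAut σ⁻¹)
    rw [permAut_mul_signAut, mul_inv_cancel_right] at h
    convert h using 3
    funext i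
    show w (shiftPerm t i) = w (((σ⁻¹ : M24) : Equiv.Perm GolayPt).symm i)
    rw [Subgroup.coe_inv, Equiv.Perm.inv_def, Equiv.symm_symm]
  obtain ⟨d, hd, hdv⟩ := exists_code_on
    (T := {(some 0 : GolayPt), some (-1), some 1, some 2}) (by decide +kernel)
    (fun p => if p = some 0 then 1 else 0)
  let d' : golayCode := ⟨fun i => d ((shiftOne : Equiv.Perm GolayPt).symm i),
    comp_mem_golayCode (M24.inv_mem shiftOne.2) hd⟩
  have hmem : signAut (d' + ⟨d, hd⟩) ∈ C := by
    have h : permAut shiftOne * signAut ⟨d, hd⟩ * (permAut shiftOne)⁻¹ * (signAut ⟨d, hd⟩)⁻¹ ∈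
        commutator Co0 :=
      Subgroup.commutator_mem_commutator (Subgroup.mem_top _) (Subgroup.mem_top _)
    rw [permAut_mul_signAut, mul_inv_cancel_right, signAut_inv, signAut_mul] at h
    exact Subgroup.mem_sup_left h
  have hval : ∀ x : ZMod 23, ((d' + ⟨d, hd⟩ : golayCode) : GolayPt → ZMod 2) (some x) =
      d (some (x - 1)) + d (some x) := fun x => by
    rw [Submodule.coe_add, Pi.add_apply]
    show d ((shiftOne : Equiv.Perm GolayPt).symm (some x)) + d (some x) = _
    rw [shiftOne_symm_some]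
  have hd0 : d (some 0) = 1 := by rw [hdv _ (by simp), if_pos rfl]
  have hdm : d (some (-1)) = 0 := by rw [hdv _ (by simp), if_neg (by decide +kernel)]
  have hd1 : d (some 1) = 0 := by rw [hdv _ (by simp), if_neg (by decide +kernel)]
  have hd2 : d (some 2) = 0 := by rw [hdv _ (by simp), if_neg (by decide +kernel)]
  have hw0 : ((d' + ⟨d, hd⟩ : golayCode) : GolayPt → ZMod 2) ≠ 0 := fun h => by
    have := congrFun h (some 0)
    rw [hval, zero_sub, hd0, hdm, zero_add] at this
    exact one_ne_zero this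
  have hw1 : ((d' + ⟨d, hd⟩ : golayCode) : GolayPt → ZMod 2) ≠ 1 := fun h => by
    have := congrFun h (some 2)
    rw [hval, show (2 : ZMod 23) - 1 = 1 by decide +kernel, hd1, hd2, add_zero] at this
    exact zero_ne_one this
  obtain ⟨hc, hcC⟩ := code_invariant_eq_top W (fun w hw => hw.1) hW1 hinv
    (show ((d' + ⟨d, hd⟩ : golayCode) : GolayPt → ZMod 2) ∈ W from ⟨(d' + ⟨d, hd⟩ : golayCode).2, hmem⟩)
    hw0 hw1 _ c.2
  exact hcC

/-- The criterion of Iwasawa for the crosses. -/
theorem eq_top_of_normal (N : Subgroup Co0) [N.Normal] (hZ : Subgroup.center Co0 ≤ N)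
    (hne : ¬ N ≤ Subgroup.center Co0) : N = ⊤ := by
  have hsup := (normal_cases N).resolve_left hne
  set U := N ⊔ signHom.range with hU
  have hnorm : monoGroup ≤ Subgroup.normalizer (U : Set Co0) := by
    intro m hm
    have hle : ∀ m ∈ monoGroup, ∀ u ∈ U, m * u * m⁻¹ ∈ U := by
      intro m hm u hu
      obtain ⟨n, hn, e, he, rfl⟩ := Subgroup.mem_sup_of_normal_left.1 hu
      rw [show m * (n * e) * m⁻¹ = (m * n * m⁻¹) * (m * e * m⁻¹) by group]
      exact Subgroup.mul_mem_sup ((inferInstance : N.Normal).conj_mem n hn m)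
        (conj_range_signHom hm he)
    rw [Subgroup.mem_normalizer_iff]
    refine fun u => ⟨hle m hm u, fun h => ?_⟩
    have := hle m⁻¹ (inv_mem hm) _ h
    rwa [show m⁻¹ * (m * u * m⁻¹) * m⁻¹⁻¹ = u by group] at this
  have hUn : U.Normal := Subgroup.normalizer_eq_top_iff.1 (top_le_iff.1 (hsup ▸
    sup_le ((le_sup_left : N ≤ U).trans Subgroup.le_normalizer) hnorm))
  have hUtop : U = ⊤ := eq_top_of_signs_le U le_sup_right
  have hcomm : commutator Co0 ≤ N := by
    refine (inferInstance : N.Normal).commutator_le_of_self_sup_commutative_eq_top hUtop ?_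
    refine ⟨⟨fun a b => Subtype.ext ?_⟩⟩
    obtain ⟨x, hx⟩ := mem_range_signHom.1 a.2
    obtain ⟨y, hy⟩ := mem_range_signHom.1 b.2
    show (a : Co0) * b = b * a
    rw [hx, hy, signAut_mul, signAut_mul, add_comm]
  exact top_le_iff.1 (commutator_sup_center ▸ sup_le hcomm hZ)

theorem natCard_coOne : Nat.card (Co0 ⧸ Subgroup.center Co0) = 4157776806543360000 := by
  have := Subgroup.card_mul_index (Subgroup.center Co0)
  rw [natCard_center_Co0, natCard_Co0, Subgroup.index_eq_card] at this
  omega

/-- The first Conway group is simple. -/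
theorem isSimpleGroup_coOne : IsSimpleGroup (Co0 ⧸ Subgroup.center Co0) := by
  have := finite_Co0
  have : Nontrivial (Co0 ⧸ Subgroup.center Co0) :=
    Finite.one_lt_card_iff_nontrivial.1 (by rw [natCard_coOne]; norm_num)
  refine IsSimpleGroup.mk fun N hN => ?_
  have hc : Subgroup.center Co0 ≤ N.comap (QuotientGroup.mk' _) := fun z hz => by
    rw [Subgroup.mem_comap, QuotientGroup.mk'_apply, (QuotientGroup.eq_one_iff z).2 hz]
    exact one_mem N
  rw [← Subgroup.map_comap_eq_self_of_surjective
    (QuotientGroup.mk'_surjective (Subgroup.center Co0)) N]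
  by_cases h : N.comap (QuotientGroup.mk' (Subgroup.center Co0)) ≤ Subgroup.center Co0
  · left
    rw [Subgroup.map_eq_bot_iff, QuotientGroup.ker_mk']
    exact h
  · right
    rw [eq_top_of_normal _ hc h, Subgroup.map_top_of_surjective _ (QuotientGroup.mk'_surjective _)]

end CfsgLib.GolayStructure
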