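/-
The orbits of a group between the monomial stabiliser of a minimal vector and its full stabiliser.
-/
import Cfsg.Agent.Lib.GolayStructure.CrossMaximal

set_option autoImplicit false

namespace CfsgLib.GolayStructure

open Cfsg CfsgLib.Leech CfsgLib.Fischer2
open scoped Pointwise Classical

/-- Either the opposite pair is preserved or all orthogonal minimal vectors form one orbit. -/
theorem orbit_baseM_cases {V : Subgroup Co0} (hLV : monoBase ≤ V)
    (hV : V ≤ MulAction.stabilizer Co0 baseP) (hVd : Nat.card V ∣ 42305421312000) :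
    (∀ k ∈ V, k • baseM = baseM ∨ k • baseM = -baseM) ∨
      ∀ w, sqNorm (coordVec w) = 32 → coordVec w ptP + coordVec w ptQ = 0 →
        w ∈ orbitSet V baseM := by
  have hA : ({baseM, -baseM} : Set leechLattice) ⊆ orbitSet V baseM := by
    rintro w (rfl | rfl)
    · exact ⟨1, one_mem V, one_smul _ _⟩
    · obtain ⟨g, hg, e⟩ := exists_swap
      exact ⟨g, hLV hg, e⟩
  have hMorth : coordVec baseM ptP + coordVec baseM ptQ = 0 := by
    rw [coordVec_baseM, coordVec_baseM, if_pos rfl, if_neg ptP_ne_ptQ.symm, if_pos rfl]
    norm_num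
  have horth : ∀ y ∈ orbitSet V baseM,
      sqNorm (coordVec y) = 32 ∧ coordVec y ptP + coordVec y ptQ = 0 := by
    rintro y ⟨k, hk, rfl⟩
    refine ⟨by rw [sqNorm_smul', baseM, sqNorm_fourPair ptP_ne_ptQ], ?_⟩
    have hkv : k • baseP = baseP := hV hk
    have h := CfsgLib.Leech.dotInt_smul k baseM baseP
    rw [hkv] at h
    change dotInt (coordVec (k • baseM)) (coordVec baseP) =
      dotInt (coordVec baseM) (coordVec baseP) at h
    rw [dot_baseP, dot_baseP, hMorth] at h
    omega
  have hAabs : ∀ w ∈ ({baseM, -baseM} : Set leechLattice), |coordVec w ptP| = 4 := by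
    rintro w (rfl | rfl)
    · rw [coordVec_baseM, if_pos rfl]; rfl
    · show |(-coordVec baseM ptP)| = 4
      rw [coordVec_baseM, if_pos rfl]; rfl
  obtain ⟨J, hcard, hempty, hfull⟩ := orbit_sum (m := 4) hLV {baseM, -baseM}
    ![pieceB, pieceC, pieceD, pieceE] ![924, 4928, 42240, 45056]
    (fun i => by
      fin_cases i
      · exact fun y hy z hz => pieceB_transitive hy hz
      · exact fun y hy z hz => pieceC_transitive hy hz
      · exact fun y hy z hz => pieceD_transitive hy hz
      · exact fun y hy z hz => pieceE_transitive hy hz)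
    hA
    (fun y hy => by
      rcases orth_cases (horth y hy).1 (horth y hy).2 with h | h | h | h | h | h
      · exact Or.inl (Or.inl h)
      · exact Or.inl (Or.inr h)
      · exact Or.inr ⟨0, h⟩
      · exact Or.inr ⟨1, h⟩
      · exact Or.inr ⟨2, h⟩
      · exact Or.inr ⟨3, h⟩)
    (fun i j hij => by
      have hBC : Disjoint pieceB pieceC := Set.disjoint_left.2 fun w h1 h2 => h2.2.1 h1.2.1
      have hBD : Disjoint pieceB pieceD := Set.disjoint_left.2 fun w h1 h2 => by
        obtain ⟨i', -, -, hi', -, -⟩ := h1.1
        rcases octShape_abs h2.1 i' with b | b <;> simp_all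
      have hBE : Disjoint pieceB pieceE := Set.disjoint_left.2 fun w h1 h2 => by
        rcases oddShape_abs h2.1 ptP with a | a <;> rw [h1.2.1] at a <;> norm_num at a
      have hCD : Disjoint pieceC pieceD := Set.disjoint_left.2 fun w h1 h2 => h1.2.1 h2.2.1
      have hCE : Disjoint pieceC pieceE := Set.disjoint_left.2 fun w h1 h2 => by
        rcases oddShape_abs h2.1 ptP with a | a <;>
          rcases octShape_abs h1.1 ptP with b | b <;> simp_all
      have hDE : Disjoint pieceD pieceE := Set.disjoint_left.2 fun w h1 h2 => by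
        rcases oddShape_abs h2.1 ptP with a | a <;> rw [h1.2.1] at a <;> norm_num at a
      fin_cases i <;> fin_cases j <;> first | exact absurd rfl hij | exact hBC | exact hBC.symm | exact hBD | exact hBD.symm | exact hBE | exact hBE.symm | exact hCD | exact hCD.symm | exact hCE | exact hCE.symm | exact hDE | exact hDE.symm)
    (fun i => Set.disjoint_left.2 fun w h1 h2 => by
      have h4 := hAabs w h1
      fin_cases i
      · rw [(h2 : w ∈ pieceB).2.1] at h4; norm_num at h4
      · rcases octShape_abs (h2 : w ∈ pieceC).1 ptP with b | b <;> simp_all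
      · rw [(h2 : w ∈ pieceD).2.1] at h4; norm_num at h4
      · rcases oddShape_abs (h2 : w ∈ pieceE).1 ptP with a | a <;> simp_all)
    (Set.toFinite _)
    (fun i => by
      fin_cases i <;> [exact ncard_pieceB; exact ncard_pieceC; exact ncard_pieceD;
        exact ncard_pieceE])
    (fun i => by fin_cases i <;> norm_num)
  have h2 : ({baseM, -baseM} : Set leechLattice).ncard = 2 := by
    refine Set.ncard_pair fun e => ?_
    have := congrArg (fun v => coordVec v ptP) e
    change coordVec baseM ptP = -coordVec baseM ptP at this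
    rw [coordVec_baseM, if_pos rfl] at this
    norm_num at this
  have hd : (orbitSet V baseM).ncard ∣ 42305421312000 :=
    (Dvd.intro _ (ncard_orbitSet_mul V baseM)).trans hVd
  rw [hcard, h2] at hd
  have hdec : ∀ J : Finset (Fin 4),
      2 + ∑ i ∈ J, (![924, 4928, 42240, 45056] : Fin 4 → ℕ) i ∣ 42305421312000 →
      J = ∅ ∨ J = Finset.univ := by decide +kernel
  rcases hdec J hd with rfl | rfl
  · exact Or.inl fun k hk => hempty rfl ⟨k, hk, rfl⟩
  · refine Or.inr fun w hn hw => ?_
    rcases orth_cases hn hw with h | h | h | h | h | h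
    · exact hA (Or.inl h)
    · exact hA (Or.inr h)
    · exact hfull 0 (Finset.mem_univ _) h
    · exact hfull 1 (Finset.mem_univ _) h
    · exact hfull 2 (Finset.mem_univ _) h
    · exact hfull 3 (Finset.mem_univ _) h

end CfsgLib.GolayStructure
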