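/-
Simplicity of the stabiliser of a minimal vector (the criterion of Iwasawa on the opposite pairs
of orthogonal minimal vectors).
-/
import Cfsg.Agent.Lib.GolayStructure.CoTwoOrbit
import Cfsg.Agent.Lib.Fischer2.LeechCoTwo
import Cfsg.Agent.Lib.Fischer2.LeechFrameNormal
import Cfsg.Agent.Lib.Golay.Simple

set_option autoImplicit false

namespace CfsgLib.GolayStructure

open Cfsg CfsgLib.Leech CfsgLib.Fischer2
open scoped Pointwise Classical

/-- The stabiliser of the base minimal vector. -/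
noncomputable abbrev coTwoGroup : Subgroup Co0 := MulAction.stabilizer Co0 baseP

/-- The pointwise stabiliser of the base points. -/
abbrev baseFix : Subgroup M24 := MulAction.stabilizer M24 ptP ⊓ MulAction.stabilizer M24 ptQ

theorem natCard_coTwoGroup : Nat.card coTwoGroup = 42305421312000 := by
  have h := ncard_orbitSet_mul (⊤ : Subgroup Co0) baseP
  have hO : orbitSet (⊤ : Subgroup Co0) baseP = {w | sqNorm (coordVec w) = 32} := by
    refine Set.Subset.antisymm (fun w ⟨k, _, e⟩ => ?_) fun w hw => ?_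
    · show sqNorm (coordVec w) = 32
      rw [← e, sqNorm_smul', sqNorm_baseP]
    · obtain ⟨g, hg⟩ := sameOrbit_norm32 hw ptP_ne_ptQ
      have hg' : g • w = baseP := hg
      exact ⟨g⁻¹, Subgroup.mem_top _, by rw [← hg', inv_smul_smul]⟩
  have hc : (orbitSet (⊤ : Subgroup Co0) baseP).ncard = 196560 := by
    rw [hO, ← ncard_layer_32, ← Set.ncard_image_of_injective _ Subtype.val_injective]
    congr 1
    ext x
    exact ⟨fun ⟨v, hv, e⟩ => e ▸ ⟨v.2, hv⟩, fun ⟨hx, hn⟩ => ⟨⟨x, hx⟩, hn, rfl⟩⟩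
  rw [hc, top_inf_eq, Subgroup.card_top, natCard_Co0] at h
  change 196560 * Nat.card coTwoGroup = _ at h
  omega

theorem sqNorm_baseM' : sqNorm (coordVec baseM) = 32 := sqNorm_fourPair ptP_ne_ptQ _ _

theorem sum_baseM : coordVec baseM ptP + coordVec baseM ptQ = 0 := by
  rw [coordVec_baseM, coordVec_baseM, if_pos rfl, if_neg ptP_ne_ptQ.symm, if_pos rfl]
  norm_num

theorem orth_smul {g : Co0} (hg : g ∈ coTwoGroup) {w : leechLattice}
    (hw : coordVec w ptP + coordVec w ptQ = 0) :
    coordVec (g • w) ptP + coordVec (g • w) ptQ = 0 := by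
  have h := CfsgLib.Leech.dotInt_smul g w baseP
  rw [show g • baseP = baseP from hg] at h
  change dotInt (coordVec (g • w)) (coordVec baseP) = dotInt (coordVec w) (coordVec baseP) at h
  rw [dot_baseP, dot_baseP, hw] at h
  omega

theorem mem_monoBase_of_fix {g : Co0} (hg : g ∈ coTwoGroup) (h : g • baseM = baseM) :
    g ∈ monoBase := by
  refine Subgroup.mem_inf.2 ⟨?_, hg⟩
  rw [mem_stabilizer_crossOf, ← baseP_add_baseM, smul_add_co0, show g • baseP = baseP from hg, h]
  exact CongTwo.refl _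

theorem monoBase_smul_baseM {g : Co0} (hg : g ∈ monoBase) :
    g • baseM = baseM ∨ g • baseM = -baseM := by
  have h : CongTwo (g • vecA) vecA := mem_stabilizer_crossOf.1 hg.1
  rw [← baseP_add_baseM, smul_add_co0, show g • baseP = baseP from hg.2] at h
  obtain ⟨u, hu⟩ := h
  have hc : CongTwo (g • baseM) baseM := ⟨u, by
    rw [add_assoc] at hu
    exact add_left_cancel hu⟩
  rcases congTwo_cases hc (by rw [sqNorm_smul', sqNorm_baseM']; norm_num)
      (by rw [sqNorm_baseM']; norm_num) with e | e | ⟨-, e, -⟩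
  · exact Or.inl e
  · exact Or.inr e
  · rw [sqNorm_baseM'] at e; norm_num at e

/-- The monomial part inside the stabiliser. -/
noncomputable abbrev coTwoMono : Subgroup coTwoGroup := monoBase.subgroupOf coTwoGroup

theorem transitive_or_le (K : Subgroup coTwoGroup) (hK : coTwoMono ≤ K) :
    K ≤ coTwoMono ∨ ∀ w, sqNorm (coordVec w) = 32 → coordVec w ptP + coordVec w ptQ = 0 →
      ∃ k ∈ K, (k : Co0) • baseM = w := by
  have := finite_Co0
  have hle : monoBase ≤ K.map coTwoGroup.subtype := fun g hg =>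
    ⟨⟨g, hg.2⟩, hK (show (⟨g, hg.2⟩ : coTwoGroup) ∈ coTwoMono from hg), rfl⟩
  have hd : Nat.card (K.map coTwoGroup.subtype) ∣ 42305421312000 :=
    natCard_coTwoGroup ▸ Subgroup.card_dvd_of_le (Subgroup.map_subtype_le K)
  rcases orbit_baseM_cases hle (Subgroup.map_subtype_le K) hd with h | h
  · refine Or.inl fun k hk => ?_
    show (k : Co0) ∈ monoBase
    rcases h k ⟨k, hk, rfl⟩ with e | e
    · exact mem_monoBase_of_fix k.2 e
    · obtain ⟨g, hg, hge⟩ := exists_swap
      have : g * (k : Co0) ∈ monoBase := mem_monoBase_of_fix (mul_mem hg.2 k.2)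
        (by rw [mul_smul, e, smul_neg_co0, hge, neg_neg])
      have h2 := mul_mem (inv_mem hg) this
      rwa [inv_mul_cancel_left] at h2
  · refine Or.inr fun w hn hw => ?_
    obtain ⟨_, ⟨k, hk, rfl⟩, e⟩ := h w hn hw
    exact ⟨k, hk, e⟩

theorem coTwoMono_ne_top : coTwoMono ≠ ⊤ := fun h => by
  have := finite_Co0
  have h1 : coTwoGroup ≤ monoGroup := fun g hg =>
    (((Subgroup.subgroupOf_eq_top.1 h) hg) : g ∈ monoBase).1
  have h2 := Nat.le_of_dvd Nat.card_pos (Subgroup.card_dvd_of_le h1)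
  rw [natCard_coTwoGroup, card_stabilizer_crossOf] at h2
  norm_num at h2

theorem eq_top_of_transitive (K : Subgroup coTwoGroup) (hK : coTwoMono ≤ K)
    (h : ∀ w, sqNorm (coordVec w) = 32 → coordVec w ptP + coordVec w ptQ = 0 →
      ∃ k ∈ K, (k : Co0) • baseM = w) : K = ⊤ := by
  refine eq_top_iff.2 fun g _ => ?_
  obtain ⟨k, hk, e⟩ := h ((g : Co0) • baseM) (by rw [sqNorm_smul', sqNorm_baseM'])
    (orth_smul g.2 sum_baseM)
  have hm : k⁻¹ * g ∈ coTwoMono := mem_monoBase_of_fix (k⁻¹ * g).2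
    (show ((k : Co0)⁻¹ * (g : Co0)) • baseM = baseM by rw [mul_smul, ← e, inv_smul_smul])
  have := mul_mem hk (hK hm)
  rwa [mul_inv_cancel_left] at this

theorem transitive_coTwo {w : leechLattice} (hn : sqNorm (coordVec w) = 32)
    (hw : coordVec w ptP + coordVec w ptQ = 0) : ∃ g : coTwoGroup, (g : Co0) • baseM = w := by
  rcases transitive_or_le ⊤ le_top with h | h
  · exact absurd (top_le_iff.1 h) coTwoMono_ne_top
  · obtain ⟨k, -, e⟩ := h w hn hw
    exact ⟨k, e⟩

/-- An element fixing the base vector and every orthogonal pair is trivial. -/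
theorem eq_one_of_fix_orth {n : Co0} (hn : n ∈ coTwoGroup)
    (h : ∀ w, sqNorm (coordVec w) = 32 → coordVec w ptP + coordVec w ptQ = 0 →
      n • w = w ∨ n • w = -w) : n = 1 := by
  obtain ⟨g, hg⟩ := sameOrbit_norm32 sqNorm_leechU ptP_ne_ptQ
  have hg' : g • Spor.leechU = baseP := hg
  have hc : g⁻¹ * n * g ∈ Subgroup.center Co0 := by
    refine mem_center_of_fix_short (Or.inl ?_) fun v hv hd => ?_
    · rw [mul_smul, mul_smul, hg', show n • baseP = baseP from hn, ← hg', inv_smul_smul]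
    · have hd' : coordVec (g • v) ptP + coordVec (g • v) ptQ = 0 := by
        have h1 := CfsgLib.Leech.dotInt_smul g v Spor.leechU
        rw [hg'] at h1
        change dotInt (coordVec (g • v)) (coordVec baseP) =
          dotInt (coordVec v) (coordVec Spor.leechU) at h1
        rw [hd, dot_baseP] at h1
        omega
      rw [mul_smul, mul_smul]
      rcases h _ (by rw [sqNorm_smul', hv]) hd' with e | e <;> rw [e]
      · exact Or.inl (inv_smul_smul _ _)
      · right
        rw [smul_neg_co0, inv_smul_smul]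
  have hc' : n ∈ Subgroup.center Co0 := by
    have := (inferInstance : (Subgroup.center Co0).Normal).conj_mem _ hc g
    simpa [mul_assoc] using this
  rcases center_co0 hc' with e | e
  · exact e
  · exfalso
    have h1 : negAut • baseP = baseP := e ▸ hn
    rw [negAut_apply] at h1
    have h2 := congrArg (fun v => coordVec v ptP) h1
    change -coordVec baseP ptP = coordVec baseP ptP at h2
    rw [coordVec_baseP, if_pos (Or.inl rfl)] at h2
    norm_num at h2

theorem coTwo_normal_cases (N : Subgroup coTwoGroup) [N.Normal] :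
    N = ⊥ ∨ N ⊔ coTwoMono = ⊤ := by
  rcases transitive_or_le (N ⊔ coTwoMono) le_sup_right with h | h
  · left
    refine (Subgroup.eq_bot_iff_forall N).2 fun n hn => ?_
    refine Subtype.ext (eq_one_of_fix_orth n.2 fun w hwn hw => ?_)
    obtain ⟨g, hg⟩ := transitive_coTwo hwn hw
    have hm : g⁻¹ * n * g ∈ coTwoMono := h (Subgroup.mem_sup_left (by
      simpa using (inferInstance : N.Normal).conj_mem n hn g⁻¹))
    have e := monoBase_smul_baseM (Subgroup.mem_subgroupOf.1 hm)
    rw [Subgroup.coe_mul, Subgroup.coe_mul, Subgroup.coe_inv, mul_smul, mul_smul, hg,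
      inv_smul_eq_iff, inv_smul_eq_iff, smul_neg_co0, hg] at e
    exact e
  · exact Or.inr (eq_top_of_transitive _ le_sup_right h)

/-- A permutation fixing both base points, in the stabiliser. -/
noncomputable def permBase : baseFix →* coTwoGroup :=
  (permHom.comp baseFix.subtype).codRestrict coTwoGroup fun τ => by
    show permAut (τ : M24) ∈ coTwoGroup
    have h := monoAut_mem_base (d := 0) (σ := (τ : M24)) (Or.inl ⟨τ.2.1, τ.2.2⟩) rfl rfl
    have h2 : monoAut (0 : golayCode) (τ : M24) = permAut (τ : M24) := by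
      rw [monoAut, signAut_zero, one_mul]
    exact h2 ▸ h.2

theorem signAut_mem_coTwo {d : golayCode} (hP : (d : GolayPt → ZMod 2) ptP = 0)
    (hQ : (d : GolayPt → ZMod 2) ptQ = 0) : signAut d ∈ monoBase := by
  have h := monoAut_mem_base (d := d) (σ := 1) (Or.inl ⟨rfl, rfl⟩) hP hQ
  rwa [monoAut, ← permHom_apply, map_one, mul_one] at h

/-- The shape of the elements of the monomial part. -/
theorem monoBase_shape {g : Co0} (hg : g ∈ monoBase) :
    ∃ (a : golayCode) (σ : M24), g = signAut a * permAut σ ∧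
      (a : GolayPt → ZMod 2) ptP = 0 ∧ (a : GolayPt → ZMod 2) ptQ = 0 ∧
      ((g • baseM = baseM ∧ σ ∈ baseFix) ∨ (g • baseM = -baseM ∧
        (σ : Equiv.Perm GolayPt) ptP = ptQ ∧ (σ : Equiv.Perm GolayPt) ptQ = ptP)) := by
  obtain ⟨a, σ, rfl⟩ := exists_monomial (mem_stabilizer_crossOf.1 hg.1)
  set x := (σ : Equiv.Perm GolayPt).symm ptP with hx
  set y := (σ : Equiv.Perm GolayPt).symm ptQ with hy
  have hxy : x ≠ y := fun e => ptP_ne_ptQ ((σ : Equiv.Perm GolayPt).symm.injective e)
  have hval : ∀ (v : leechLattice) (p : GolayPt),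
      coordVec ((signAut a * permAut σ) • v) p =
        if (a : GolayPt → ZMod 2) p = 0 then coordVec v ((σ : Equiv.Perm GolayPt).symm p)
        else -coordVec v ((σ : Equiv.Perm GolayPt).symm p) := fun v p => coordVec_monoAut a σ v p
  have hbP := hval baseP ptP
  have hbQ := hval baseP ptQ
  rw [show (signAut a * permAut σ) • baseP = baseP from hg.2, ← hx, coordVec_baseP,
    coordVec_baseP, if_pos (Or.inl rfl)] at hbP
  rw [show (signAut a * permAut σ) • baseP = baseP from hg.2, ← hy, coordVec_baseP,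
    coordVec_baseP, if_pos (Or.inr rfl)] at hbQ
  have hx2 : x = ptP ∨ x = ptQ := by
    by_contra h
    rw [if_neg h] at hbP
    norm_num at hbP
  have hy2 : y = ptP ∨ y = ptQ := by
    by_contra h
    rw [if_neg h] at hbQ
    norm_num at hbQ
  rw [if_pos hx2] at hbP
  rw [if_pos hy2] at hbQ
  have haP : (a : GolayPt → ZMod 2) ptP = 0 := by
    by_contra h
    rw [if_neg h] at hbP
    norm_num at hbP
  have haQ : (a : GolayPt → ZMod 2) ptQ = 0 := by
    by_contra h
    rw [if_neg h] at hbQ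
    norm_num at hbQ
  refine ⟨a, σ, rfl, haP, haQ, ?_⟩
  have hm := hval baseM ptP
  rw [← hx, if_pos haP, coordVec_baseM x] at hm
  rcases monoBase_smul_baseM hg with e | e
  · left
    refine ⟨e, ?_⟩
    rw [e, coordVec_baseM, if_pos rfl] at hm
    rcases hx2 with hx3 | hx3
    · have hy3 : y = ptQ := hy2.resolve_left fun h => hxy (hx3.trans h.symm)
      exact ⟨((Equiv.symm_apply_eq _).1 (hx.symm.trans hx3)).symm,
        ((Equiv.symm_apply_eq _).1 (hy.symm.trans hy3)).symm⟩
    · rw [hx3, if_neg ptP_ne_ptQ.symm, if_pos rfl] at hm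
      norm_num at hm
  · right
    refine ⟨e, ?_⟩
    rw [e] at hm
    change -coordVec baseM ptP = _ at hm
    rw [coordVec_baseM, if_pos rfl] at hm
    rcases hx2 with hx3 | hx3
    · rw [hx3, if_pos rfl] at hm
      norm_num at hm
    · have hy3 : y = ptP := hy2.resolve_right fun h => hxy (hx3.trans h.symm)
      exact ⟨((Equiv.symm_apply_eq _).1 (hy.symm.trans hy3)).symm,
        ((Equiv.symm_apply_eq _).1 (hx.symm.trans hx3)).symm⟩

/-- A permutation exchanging the base points does not commute with all those fixing them. -/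
theorem exists_not_commute {σ : M24} (hP : (σ : Equiv.Perm GolayPt) ptP = ptQ)
    (hQ : (σ : Equiv.Perm GolayPt) ptQ = ptP) : ∃ τ ∈ baseFix, σ * τ ≠ τ * σ := by
  by_contra hne
  have hcomm : ∀ τ ∈ baseFix, σ * τ = τ * σ := fun τ hτ => by
    by_contra h
    exact hne ⟨τ, hτ, h⟩
  have hfix : ∀ x, x ≠ ptP → x ≠ ptQ → (σ : Equiv.Perm GolayPt) x = x := by
    intro x hxP hxQ
    by_contra hx
    set y := (σ : Equiv.Perm GolayPt) x with hy
    have hyP : y ≠ ptP := fun e =>
      hxQ ((σ : Equiv.Perm GolayPt).injective (e.trans hQ.symm))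
    have hyQ : y ≠ ptQ := fun e =>
      hxP ((σ : Equiv.Perm GolayPt).injective (e.trans hP.symm))
    obtain ⟨z, -, hz⟩ := Finset.exists_mem_notMem_of_card_lt_card
      (s := ({ptP, ptQ, x, y} : Finset GolayPt)) (t := Finset.univ) (by
        rw [card_univ_golayPt]
        exact lt_of_le_of_lt Finset.card_le_four (by norm_num))
    simp only [Finset.mem_insert, Finset.mem_singleton, not_or] at hz
    obtain ⟨t, ht, tP, tQ, tx, ty⟩ := exists_M24_quad (a := ptP) (b := ptQ) (c := x) (d := y)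
      (a' := ptP) (b' := ptQ) (c' := x) (d' := z)
      (by simp [ptP_ne_ptQ, hxP.symm, hxQ.symm, hyP.symm, hyQ.symm, Ne.symm hx])
      (by simp [ptP_ne_ptQ, hxP.symm, hxQ.symm, Ne.symm hz.1, Ne.symm hz.2.1, Ne.symm hz.2.2.1])
    have h : (σ : Equiv.Perm GolayPt) (t x) = t ((σ : Equiv.Perm GolayPt) x) :=
      Equiv.ext_iff.1 (congrArg Subtype.val (hcomm ⟨t, ht⟩ ⟨tP, tQ⟩)) x
    rw [tx, ← hy, ty] at h
    exact hz.2.2.2 h.symm
  obtain ⟨d, hd, hdv⟩ := exists_code_on (T := {ptP, ptQ})
    (by rw [Finset.card_pair ptP_ne_ptQ]; norm_num) (fun p => if p = ptP then 1 else 0)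
  set w : GolayPt → ZMod 2 := (fun p => d ((σ : Equiv.Perm GolayPt).symm p)) + d with hwdef
  have hw : w ∈ golayCode := add_mem (comp_mem_golayCode (M24.inv_mem σ.2) hd) hd
  have hsP : (σ : Equiv.Perm GolayPt).symm ptP = ptQ := by rw [Equiv.symm_apply_eq, hQ]
  have hwP : w ptP = 1 := by
    simp only [hwdef, Pi.add_apply, hsP]
    rw [hdv ptP (by simp), hdv ptQ (by simp), if_pos rfl, if_neg ptP_ne_ptQ.symm, zero_add]
  have hle : hammingNorm w ≤ 2 := by
    refine le_trans (Finset.card_le_card (t := {ptP, ptQ}) fun p hp => ?_) Finset.card_le_two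
    simp only [Finset.mem_filter, Finset.mem_univ, true_and] at hp
    by_contra h
    simp only [Finset.mem_insert, Finset.mem_singleton, not_or] at h
    refine hp ?_
    simp only [hwdef, Pi.add_apply]
    rw [show (σ : Equiv.Perm GolayPt).symm p = p by rw [Equiv.symm_apply_eq, hfix p h.1 h.2]]
    exact CharTwo.add_self_eq_zero _
  rcases CfsgLib.Golay.hammingNorm_mem_weights hw with e | e | e | e | e
  · have h0 := congrFun (hammingNorm_eq_zero.1 e) ptP
    rw [hwP] at h0
    exact one_ne_zero h0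
  all_goals omega

/-- A normal subgroup containing the sign changes is everything. -/
theorem coTwo_eq_top_of_signs_le (S : Subgroup coTwoGroup) [S.Normal]
    (hE : ∀ (d : golayCode) (hP : (d : GolayPt → ZMod 2) ptP = 0)
      (hQ : (d : GolayPt → ZMod 2) ptQ = 0), ⟨signAut d, (signAut_mem_coTwo hP hQ).2⟩ ∈ S) :
    S = ⊤ := by
  obtain ⟨i, -, hi⟩ := Finset.exists_mem_notMem_of_card_lt_card
    (s := ({ptP, ptQ} : Finset GolayPt)) (t := Finset.univ) (by
      rw [card_univ_golayPt]; exact lt_of_le_of_lt Finset.card_le_two (by norm_num))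
  obtain ⟨j, -, hj⟩ := Finset.exists_mem_notMem_of_card_lt_card
    (s := ({ptP, ptQ, i} : Finset GolayPt)) (t := Finset.univ) (by
      rw [card_univ_golayPt]; exact lt_of_le_of_lt Finset.card_le_three (by norm_num))
  simp only [Finset.mem_insert, Finset.mem_singleton, not_or] at hi hj
  have hij : i ≠ j := Ne.symm hj.2.2
  set w := Leech.fourPair i j false false with hwdef
  have hwn : sqNorm (coordVec w) = 32 := sqNorm_fourPair hij _ _
  have hw0 : coordVec w ptP + coordVec w ptQ = 0 := by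
    simp [hwdef, coordVec_fourPair, Ne.symm hi.1, Ne.symm hi.2, Ne.symm hj.1, Ne.symm hj.2.1]
  obtain ⟨d, hd, hdv⟩ := exists_code_on (T := {ptP, ptQ, i, j})
    (le_trans Finset.card_le_four (by norm_num)) (fun p => if p = i ∨ p = j then 1 else 0)
  have dP : d ptP = 0 := by
    rw [hdv ptP (by simp), if_neg (by simp [Ne.symm hi.1, Ne.symm hj.1])]
  have dQ : d ptQ = 0 := by
    rw [hdv ptQ (by simp), if_neg (by simp [Ne.symm hi.2, Ne.symm hj.2.1])]
  set e : coTwoGroup := ⟨signAut ⟨d, hd⟩, (signAut_mem_coTwo (d := ⟨d, hd⟩) dP dQ).2⟩ with hedef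
  have heS : e ∈ S := hE ⟨d, hd⟩ dP dQ
  have hew : (e : Co0) • w = -w := by
    refine leech_ext fun p => ?_
    show coordVec (signAut (⟨d, hd⟩ : golayCode) • w) p = -coordVec w p
    rw [coordVec_signAut]
    show (if d p = 0 then coordVec w p else -coordVec w p) = _
    by_cases hp : p = i ∨ p = j
    · rw [hdv p (by rcases hp with rfl | rfl <;> simp), if_pos hp, if_neg one_ne_zero]
    · have h0 : coordVec w p = 0 := by
        rw [not_or] at hp
        simp [hwdef, coordVec_fourPair, hp.1, hp.2]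
      simp [h0]
  have hSbot : S ≠ ⊥ := fun h => by
    rw [h, Subgroup.mem_bot] at heS
    have h2 : (e : Co0) • w = w := by rw [heS]; exact one_smul _ _
    rw [hew] at h2
    have h3 := congrArg (fun v => coordVec v i) h2
    change -coordVec w i = coordVec w i at h3
    rw [hwdef, coordVec_fourPair, if_pos rfl, if_neg hij] at h3
    norm_num at h3
  have hsup := (coTwo_normal_cases S).resolve_left hSbot
  obtain ⟨g, hg⟩ := transitive_coTwo hwn hw0
  obtain ⟨s, hs, l, hl, hsl⟩ := Subgroup.mem_sup_of_normal_left.1 (hsup ▸ Subgroup.mem_top g)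
  set t := s⁻¹ * e * s with htdef
  have htS : t ∈ S := mul_mem (mul_mem (inv_mem hs) heS) hs
  have hneg : ∀ x : leechLattice, (s : Co0) • x = w → (t : Co0) • x = -x := fun x hx => by
    rw [htdef, Subgroup.coe_mul, Subgroup.coe_mul, Subgroup.coe_inv, mul_smul, mul_smul, hx, hew,
      smul_neg_co0, ← hx, inv_smul_smul]
  have ht : (t : Co0) • baseM = -baseM := by
    have hg' : (s : Co0) • (l : Co0) • baseM = w := by
      rw [← mul_smul, ← Subgroup.coe_mul, hsl, hg]
    have h1 := hneg _ hg'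
    rcases monoBase_smul_baseM (Subgroup.mem_subgroupOf.1 hl) with e' | e' <;> rw [e'] at h1
    · exact h1
    · rw [smul_neg_co0, neg_neg] at h1
      rw [← neg_neg ((t : Co0) • baseM), h1]
  have htmono : (t : Co0) ∈ monoBase := by
    obtain ⟨g', hg', hge⟩ := exists_swap
    have h1 : g' * (t : Co0) ∈ monoBase := mem_monoBase_of_fix (mul_mem hg'.2 t.2)
      (by rw [mul_smul, ht, smul_neg_co0, hge, neg_neg])
    have h2 := mul_mem (inv_mem hg') h1
    rwa [inv_mul_cancel_left] at h2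
  obtain ⟨a, σ, hta, haP, haQ, ⟨hb, -⟩ | ⟨-, hσP, hσQ⟩⟩ := monoBase_shape htmono
  · exfalso
    have h3 := congrArg (fun v => coordVec v ptP) (hb.symm.trans ht)
    change coordVec baseM ptP = -coordVec baseM ptP at h3
    rw [coordVec_baseM, if_pos rfl] at h3
    norm_num at h3
  have hσH : permAut σ ∈ coTwoGroup := by
    have hA : signAut a ∈ coTwoGroup := (Subgroup.mem_inf.1 (signAut_mem_coTwo haP haQ)).2
    have h := mul_mem (inv_mem hA) t.2
    rwa [hta, inv_mul_cancel_left] at h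
  have hσS : (⟨permAut σ, hσH⟩ : coTwoGroup) ∈ S := by
    have h := mul_mem (inv_mem (hE a haP haQ)) htS
    convert h using 1
    refine Subtype.ext ?_
    show permAut σ = (signAut a)⁻¹ * (t : Co0)
    rw [hta, inv_mul_cancel_left]
  have hT : S.comap permBase = ⊤ := by
    have := CfsgLib.Golay.isSimpleGroup_two ptP_ne_ptQ
    refine (IsSimpleGroup.eq_bot_or_eq_top_of_normal (S.comap permBase) inferInstance).resolve_left
      fun hbot => ?_
    obtain ⟨τ, hτ, hne⟩ := exists_not_commute hσP hσQ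
    have hc : σ * τ * σ⁻¹ * τ⁻¹ ∈ baseFix := by
      refine mul_mem ?_ (inv_mem hτ)
      have hsP : (σ⁻¹ : M24) • ptP = ptQ := by rw [inv_smul_eq_iff]; exact hσQ.symm
      have hsQ : (σ⁻¹ : M24) • ptQ = ptP := by rw [inv_smul_eq_iff]; exact hσP.symm
      refine ⟨?_, ?_⟩
      · show (σ * τ * σ⁻¹) • ptP = ptP
        rw [mul_smul, mul_smul, hsP, show τ • ptQ = ptQ from hτ.2]
        exact hσQ
      · show (σ * τ * σ⁻¹) • ptQ = ptQ
        rw [mul_smul, mul_smul, hsQ, show τ • ptP = ptP from hτ.1]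
        exact hσP
    have hmem : (⟨_, hc⟩ : baseFix) ∈ S.comap permBase := by
      set x : coTwoGroup := ⟨permAut σ, hσH⟩
      set y : coTwoGroup := permBase ⟨τ, hτ⟩
      have h : x * (y * x⁻¹ * y⁻¹) ∈ S :=
        mul_mem hσS ((inferInstance : S.Normal).conj_mem _ (inv_mem hσS) y)
      rw [Subgroup.mem_comap]
      convert h using 1
      refine Subtype.ext ?_
      show permAut (σ * τ * σ⁻¹ * τ⁻¹) = permAut σ * (permAut τ * (permAut σ)⁻¹ * (permAut τ)⁻¹)
      simp only [← permHom_apply, map_mul, map_inv, mul_assoc]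
    rw [hbot, Subgroup.mem_bot] at hmem
    refine hne ?_
    have h1 : σ * τ * σ⁻¹ * τ⁻¹ = 1 := congrArg Subtype.val hmem
    rwa [mul_inv_eq_one, mul_inv_eq_iff_eq_mul] at h1
  have hperm : ∀ τ (hτ : τ ∈ baseFix), permBase ⟨τ, hτ⟩ ∈ S := fun τ hτ =>
    (hT ▸ Subgroup.mem_top _ : (⟨τ, hτ⟩ : baseFix) ∈ S.comap permBase)
  have hM : coTwoMono ≤ S := by
    intro g hg
    obtain ⟨b, ρ, hgb, hbP, hbQ, hρ⟩ := monoBase_shape (Subgroup.mem_subgroupOf.1 hg)
    rcases hρ with ⟨-, hρ⟩ | ⟨-, hρP, hρQ⟩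
    · convert mul_mem (hE b hbP hbQ) (hperm ρ hρ) using 1
      exact Subtype.ext hgb
    · have hfx : ρ * σ ∈ baseFix := by
        refine ⟨?_, ?_⟩
        · show (ρ * σ) • ptP = ptP
          rw [mul_smul, show σ • ptP = ptQ from hσP]; exact hρQ
        · show (ρ * σ) • ptQ = ptQ
          rw [mul_smul, show σ • ptQ = ptP from hσQ]; exact hρP
      convert mul_mem (hE b hbP hbQ) (mul_mem (hperm _ hfx) (inv_mem hσS)) using 1
      refine Subtype.ext (hgb.trans ?_)
      show signAut b * permAut ρ = signAut b * (permAut (ρ * σ) * (permAut σ)⁻¹)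
      simp only [← permHom_apply, map_mul, mul_inv_cancel_right]
  rw [← hsup, sup_of_le_left hM]

/-- Ten octads avoiding the base points that span all such words. -/
def avoidRows : List (ℕ × ℕ) :=
  [(13, 10558), (14, 21116), (15, 36294), (16, 72588), (17, 138790), (18, 267634), (19, 525274),
    (20, 1050548), (21, 2101096), (22, 4202192)]

theorem avoid_checks :
    CfsgLib.Golay.allSpan CfsgLib.Golay.basisMasks (fun n => n.testBit 0 || n.testBit 23 ||
      CfsgLib.Golay.reduceMask avoidRows n == 0) = true ∧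
    (avoidRows.map Prod.snd).all (fun m => CfsgLib.Golay.inCode m &&
      CfsgLib.Golay.popc m == 8 && !m.testBit 0 && !m.testBit 23) = true ∧
    [5405696, 8077824, 5405696 ^^^ 8077824].all (fun m => CfsgLib.Golay.inCode m &&
      CfsgLib.Golay.popc m == 8 && !m.testBit 0 && !m.testBit 23) = true ∧
    CfsgLib.Golay.idx ptP = 23 ∧ CfsgLib.Golay.idx ptQ = 0 := by
  decide +kernel

theorem avoid_of_mask {m : ℕ} (h : (CfsgLib.Golay.inCode m &&
    CfsgLib.Golay.popc m == 8 && !m.testBit 0 && !m.testBit 23) = true) :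
    CfsgLib.Golay.unmask m ∈ octads ∧ ptP ∉ CfsgLib.Golay.unmask m ∧
      ptQ ∉ CfsgLib.Golay.unmask m := by
  simp only [Bool.and_eq_true, beq_iff_eq, Bool.not_eq_true', and_assoc] at h
  obtain ⟨h1, h2, h3, h4⟩ := h
  obtain ⟨-, -, -, hP, hQ⟩ := avoid_checks
  refine ⟨CfsgLib.Golay.mem_octads_iff.2 ⟨m, CfsgLib.Golay.inCode_iff.1 h1, h2, rfl⟩, ?_, ?_⟩ <;>
    simp [CfsgLib.Golay.mem_unmask, hP, hQ, h3, h4]

/-- All sign changes fixing the base vector are commutators. -/
theorem signs_mem_commutator (d : golayCode) (hP : (d : GolayPt → ZMod 2) ptP = 0)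
    (hQ : (d : GolayPt → ZMod 2) ptQ = 0) :
    (⟨signAut d, (signAut_mem_coTwo hP hQ).2⟩ : coTwoGroup) ∈ commutator coTwoGroup := by
  set W : (GolayPt → ZMod 2) → Prop := fun w => ∃ hw : w ∈ golayCode,
    signAut ⟨w, hw⟩ ∈ (commutator coTwoGroup).map coTwoGroup.subtype with hW
  have h0 : W 0 := ⟨golayCode.zero_mem,
    (congrArg (· ∈ (commutator coTwoGroup).map coTwoGroup.subtype) signAut_zero).mpr (one_mem _)⟩
  have hadd : ∀ v w, W v → W w → W (v + w) := fun v w ⟨hv, hV⟩ ⟨hw, hW'⟩ =>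
    ⟨golayCode.add_mem hv hw, (congrArg (· ∈ (commutator coTwoGroup).map coTwoGroup.subtype)
      (signAut_mul ⟨v, hv⟩ ⟨w, hw⟩)).mp (mul_mem hV hW')⟩
  have hmove : ∀ o o' : Finset GolayPt, o ∈ octads → o' ∈ octads → ptP ∉ o → ptQ ∉ o →
      ptP ∉ o' → ptQ ∉ o' → ∃ τ : baseFix,
        (fun p => if (τ : M24) • p ∈ o' then (1 : ZMod 2) else 0) =
          fun p => if p ∈ o then 1 else 0 := by
    intro o o' ho ho' h1 h2 h3 h4
    obtain ⟨g, hgo, hgP, hgQ⟩ := exists_outside_pair ho ho' h1 h2 ptP_ne_ptQ h3 h4 ptP_ne_ptQ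
    refine ⟨⟨g, hgP, hgQ⟩, funext fun p => ?_⟩
    show (if g • p ∈ o' then (1 : ZMod 2) else 0) = _
    simp only [← hgo, Finset.smul_mem_smul_finset_iff]
  have hword : ∀ o ∈ octads, (fun p => if p ∈ o then (1 : ZMod 2) else 0) ∈ golayCode :=
    fun o ho => CfsgLib.Leech.mem_supports_iff.1 ho.1
  have hconj : ∀ (τ : baseFix) (c : golayCode), permAut (τ : M24) * signAut c *
      (permAut (τ : M24))⁻¹ = signAut ⟨fun i => (c : GolayPt → ZMod 2)
        (((τ : M24) : Equiv.Perm GolayPt).symm i),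
        comp_mem_golayCode (M24.inv_mem (τ : M24).2) c.2⟩ := fun τ c => by
    rw [permAut_mul_signAut, mul_inv_cancel_right]
  obtain ⟨hspan, hrows, hpair, hiP, hiQ⟩ := avoid_checks
  obtain ⟨ho1, o1P, o1Q⟩ := avoid_of_mask (List.all_eq_true.1 hpair 5405696 (by simp))
  obtain ⟨ho2, o2P, o2Q⟩ := avoid_of_mask (List.all_eq_true.1 hpair 8077824 (by simp))
  obtain ⟨ho3, o3P, o3Q⟩ := avoid_of_mask (List.all_eq_true.1 hpair (5405696 ^^^ 8077824) (by simp))
  set o3 := CfsgLib.Golay.unmask (5405696 ^^^ 8077824) with ho3def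
  have hbase : W fun p => if p ∈ o3 then 1 else 0 := by
    obtain ⟨τ, hτ⟩ := hmove _ _ ho2 ho1 o2P o2Q o1P o1Q
    set c : golayCode := ⟨_, hword _ ho2⟩ with hc
    have hcP : (c : GolayPt → ZMod 2) ptP = 0 := by
      show (if ptP ∈ CfsgLib.Golay.unmask 8077824 then (1 : ZMod 2) else 0) = 0
      rw [if_neg o2P]
    have hcQ : (c : GolayPt → ZMod 2) ptQ = 0 := by
      show (if ptQ ∈ CfsgLib.Golay.unmask 8077824 then (1 : ZMod 2) else 0) = 0
      rw [if_neg o2Q]
    set y : coTwoGroup := ⟨signAut c, (signAut_mem_coTwo hcP hcQ).2⟩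
    have hm : permBase τ * y * (permBase τ)⁻¹ * y⁻¹ ∈ commutator coTwoGroup :=
      Subgroup.commutator_mem_commutator (Subgroup.mem_top _) (Subgroup.mem_top _)
    refine ⟨hword _ ho3, _, hm, ?_⟩
    show permAut (τ : M24) * signAut c * (permAut (τ : M24))⁻¹ * (signAut c)⁻¹ = _
    rw [hconj, signAut_inv, signAut_mul]
    congr 1
    refine Subtype.ext (funext fun p => ?_)
    rw [Submodule.coe_add, Pi.add_apply]
    show (if ((τ : M24) : Equiv.Perm GolayPt).symm p ∈ CfsgLib.Golay.unmask 8077824 then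
        (1 : ZMod 2) else 0) + (if p ∈ CfsgLib.Golay.unmask 8077824 then 1 else 0) =
      if p ∈ o3 then 1 else 0
    have h := congrFun hτ (((τ : M24) : Equiv.Perm GolayPt).symm p)
    simp only [show (τ : M24) • ((τ : M24) : Equiv.Perm GolayPt).symm p = p from
      Equiv.apply_symm_apply _ p] at h
    rw [← h, ho3def]
    simp only [CfsgLib.Golay.mem_unmask, Nat.testBit_xor]
    rcases Bool.eq_false_or_eq_true (Nat.testBit 5405696 (CfsgLib.Golay.idx p)) with a | a <;>
      rcases Bool.eq_false_or_eq_true (Nat.testBit 8077824 (CfsgLib.Golay.idx p)) with b | b <;>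
      simp only [a, b] <;> decide
  have hoct : ∀ o ∈ octads, ptP ∉ o → ptQ ∉ o → W fun p => if p ∈ o then 1 else 0 := by
    intro o ho hoP hoQ
    obtain ⟨τ, hτ⟩ := hmove _ _ ho ho3 hoP hoQ o3P o3Q
    obtain ⟨h3, x, hx, hxe⟩ := hbase
    have hm := (inferInstance : (commutator coTwoGroup).Normal).conj_mem x hx (permBase τ⁻¹)
    refine ⟨hword o ho, _, hm, ?_⟩
    show permAut ((τ⁻¹ : baseFix) : M24) * (x : Co0) * (permAut ((τ⁻¹ : baseFix) : M24))⁻¹ = _
    rw [show (x : Co0) = _ from hxe, hconj]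
    congr 1
    refine Subtype.ext (funext fun p => ?_)
    exact congrFun hτ p
  have hgen : ∀ b ∈ avoidRows.map Prod.snd, W (CfsgLib.Golay.wordOf b) := fun b hb => by
    obtain ⟨ho, hoP, hoQ⟩ := avoid_of_mask (List.all_eq_true.1 hrows b hb)
    have h := hoct _ ho hoP hoQ
    convert h using 1
    funext p
    simp [CfsgLib.Golay.wordOf, CfsgLib.Golay.mem_unmask]
  obtain ⟨n, hn, hdn⟩ := CfsgLib.Golay.mem_golayCode_iff.1 d.2
  have hb := CfsgLib.Golay.allSpan_iff.1 hspan n hn
  have hn0 : n.testBit 0 = false := by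
    have h := hdn.symm ▸ hQ
    simpa [CfsgLib.Golay.wordOf, hiQ] using h
  have hn23 : n.testBit 23 = false := by
    have h := hdn.symm ▸ hP
    simpa [CfsgLib.Golay.wordOf, hiP] using h
  simp only [hn0, hn23, Bool.false_or, beq_iff_eq] at hb
  have hns := CfsgLib.Golay.reduceMask_spec (bs := avoidRows.map Prod.snd) avoidRows n
    (fun r hr => List.mem_map.2 ⟨r, hr, rfl⟩) hb
  obtain ⟨hw, x, hx, hxe⟩ := CfsgLib.Golay.spanMasks_induction (P := W) h0 hadd hgen hns
  have hxd : (⟨signAut d, (signAut_mem_coTwo hP hQ).2⟩ : coTwoGroup) = x := by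
    refine Subtype.ext ?_
    show signAut d = (x : Co0)
    rw [show (x : Co0) = _ from hxe]
    exact congrArg signAut (Subtype.ext hdn.symm)
  rw [hxd]
  exact hx

theorem commutator_coTwo : commutator coTwoGroup = ⊤ :=
  coTwo_eq_top_of_signs_le _ signs_mem_commutator

/-- The stabiliser of the base minimal vector is simple. -/
theorem isSimpleGroup_coTwoGroup : IsSimpleGroup coTwoGroup := by
  have := finite_Co0
  have : Nontrivial coTwoGroup :=
    Finite.one_lt_card_iff_nontrivial.1 (by rw [natCard_coTwoGroup]; norm_num)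
  refine IsSimpleGroup.mk fun N hN => ?_
  rcases coTwo_normal_cases N with h | hsup
  · exact Or.inl h
  right
  set E : Subgroup coTwoGroup := signHom.range.subgroupOf coTwoGroup ⊓ coTwoMono with hE
  set U := N ⊔ E with hU
  have hle : ∀ m ∈ coTwoMono, ∀ u ∈ U, m * u * m⁻¹ ∈ U := by
    intro m hm u hu
    obtain ⟨n, hn, e, he, rfl⟩ := Subgroup.mem_sup_of_normal_left.1 hu
    rw [show m * (n * e) * m⁻¹ = (m * n * m⁻¹) * (m * e * m⁻¹) by group]
    refine Subgroup.mul_mem_sup (hN.conj_mem n hn m)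
      (Subgroup.mem_inf.2 ⟨?_, mul_mem (mul_mem hm (Subgroup.mem_inf.1 he).2) (inv_mem hm)⟩)
    obtain ⟨d, hd⟩ := mem_range_signHom.1 (Subgroup.mem_subgroupOf.1 he.1)
    obtain ⟨a, σ, hma, -⟩ := monoBase_shape (Subgroup.mem_subgroupOf.1 hm)
    refine Subgroup.mem_subgroupOf.2 (?_ : (m : Co0) * (e : Co0) * (m : Co0)⁻¹ ∈ signHom.range)
    rw [hma, hd, mul_inv_rev, show signAut a * permAut σ * signAut d * ((permAut σ)⁻¹ *
        (signAut a)⁻¹) = signAut a * (permAut σ * signAut d * (permAut σ)⁻¹) * (signAut a)⁻¹ by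
        group, permAut_mul_signAut, mul_inv_cancel_right, signAut_inv, signAut_mul, signAut_mul]
    exact mem_range_signHom.2 ⟨_, rfl⟩
  have hUn : U.Normal := by
    refine Subgroup.normalizer_eq_top_iff.1 (top_le_iff.1 (hsup ▸
      sup_le ((le_sup_left : N ≤ U).trans Subgroup.le_normalizer) fun m hm => ?_))
    rw [Subgroup.mem_normalizer_iff]
    refine fun u => ⟨hle m hm u, fun h => ?_⟩
    have h' := hle m⁻¹ (inv_mem hm) _ h
    rwa [show m⁻¹ * (m * u * m⁻¹) * m⁻¹⁻¹ = u by group] at h'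
  have hUtop : U = ⊤ := coTwo_eq_top_of_signs_le U fun d hP hQ => Subgroup.mem_sup_right
    ⟨Subgroup.mem_subgroupOf.2 (mem_range_signHom.2 ⟨d, rfl⟩), signAut_mem_coTwo hP hQ⟩
  refine top_le_iff.1 (commutator_coTwo ▸ hN.commutator_le_of_self_sup_commutative_eq_top hUtop ?_)
  refine ⟨⟨fun a b => Subtype.ext (Subtype.ext ?_)⟩⟩
  obtain ⟨x, hx⟩ := mem_range_signHom.1 (Subgroup.mem_subgroupOf.1 a.2.1)
  obtain ⟨y, hy⟩ := mem_range_signHom.1 (Subgroup.mem_subgroupOf.1 b.2.1)
  show ((a : coTwoGroup) : Co0) * ((b : coTwoGroup) : Co0) =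
    ((b : coTwoGroup) : Co0) * ((a : coTwoGroup) : Co0)
  rw [hx, hy, signAut_mul, signAut_mul, add_comm]

theorem isSimpleGroup_of_mulEquiv' {G H : Type*} [Group G] [Group H] (e : G ≃* H)
    [IsSimpleGroup G] : IsSimpleGroup H := by
  have : Nontrivial H := e.symm.toEquiv.nontrivial
  exact IsSimpleGroup.isSimpleGroup_of_surjective e.toMonoidHom e.surjective

/-- The stabiliser of any minimal vector. -/
theorem coTwo_simple_order {v : leechLattice} (hv : sqNorm (coordVec v) = 32) :
    IsSimpleGroup (MulAction.stabilizer Co0 v) ∧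
      Nat.card (MulAction.stabilizer Co0 v) = 42305421312000 := by
  obtain ⟨g, hg⟩ := sameOrbit_norm32 hv ptP_ne_ptQ
  have e : coTwoGroup ≃* MulAction.stabilizer Co0 v :=
    MulEquiv.symm (MulAction.stabilizerEquivStabilizer (g := g) (show baseP = g • v from hg.symm))
  have := isSimpleGroup_coTwoGroup
  exact ⟨isSimpleGroup_of_mulEquiv' e, by
    rw [← natCard_coTwoGroup]; exact (Nat.card_congr e.toEquiv).symm⟩

end CfsgLib.GolayStructure
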