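/-
The monomial parts of the stabilisers of a vector of squared length 48 and of the triangles
through it, with the elements of order 23 and 11 whose normalisers they contain.
-/
import Cfsg.Agent.Lib.GolayStructure.CoOneSimple
import Cfsg.Agent.Lib.GolayStructure.CoTwoSimple
import Cfsg.Agent.Lib.Leech.Canon

set_option autoImplicit false

namespace CfsgLib.GolayStructure

open Cfsg CfsgLib.Leech CfsgLib.Fischer2
open scoped Pointwise Classical

theorem exists_five_one :
    ∃ u : leechLattice, sqNorm (coordVec u) = 48 ∧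
      ∀ p, coordVec u p = if p = none then 5 else 1 := by
  obtain ⟨σ, hσ, h1, -⟩ := exists_M24_pair ptP_ne_ptQ.symm ptP_ne_ptQ
  refine ⟨permAut ⟨σ, hσ⟩ • base48, by rw [sqNorm_smul', sqNorm_base48], fun p => ?_⟩
  rw [coordVec_permAut, ← toVec_list48]
  have key : ∀ q : GolayPt, toVec list48 q = if q = ptQ then 5 else 1 := by decide +kernel
  have hiff : σ.symm p = ptQ ↔ p = none := by
    rw [Equiv.symm_apply_eq, h1]
    rfl
  show toVec list48 (σ.symm p) = _
  rw [key, if_congr hiff rfl rfl]

/-- The vector `(5, 1²³)`. -/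
noncomputable def vecU : leechLattice := exists_five_one.choose

theorem sqNorm_vecU : sqNorm (coordVec vecU) = 48 := exists_five_one.choose_spec.1

theorem coordVec_vecU (p : GolayPt) : coordVec vecU p = if p = none then 5 else 1 :=
  exists_five_one.choose_spec.2 p

theorem dot_vecU (x : leechLattice) :
    dotInt (coordVec vecU) (coordVec x) = 5 * coordVec x none +
      ∑ i ∈ (Finset.univ : Finset GolayPt).erase none, coordVec x i := by
  rw [dotInt, ← Finset.add_sum_erase _ _ (Finset.mem_univ none)]
  refine congrArg₂ (· + ·) (by rw [coordVec_vecU, if_pos rfl]) (Finset.sum_congr rfl fun i hi => ?_)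
  rw [coordVec_vecU, if_neg (Finset.mem_erase.1 hi).1, one_mul]

/-- Permutations fixing the exceptional point, in the stabiliser of `vecU`. -/
theorem permAut_smul_vecU {σ : M24} (hσ : (σ : Equiv.Perm GolayPt) none = none) :
    permAut σ • vecU = vecU := by
  refine leech_ext fun p => ?_
  rw [coordVec_permAut, coordVec_vecU, coordVec_vecU]
  have h : (σ : Equiv.Perm GolayPt).symm p = none ↔ p = none := by rw [Equiv.symm_apply_eq, hσ]
  exact if_congr h rfl rfl

theorem mono_fix_vecU {h : Co0} (hm : h ∈ monoGroup) (hu : h • vecU = vecU) :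
    ∃ σ : M24, (σ : Equiv.Perm GolayPt) none = none ∧ h = permAut σ := by
  obtain ⟨d, σ, rfl⟩ := exists_monomial (mem_stabilizer_crossOf.1 hm)
  have hval : ∀ p, (if (d : GolayPt → ZMod 2) p = 0
      then coordVec vecU ((σ : Equiv.Perm GolayPt).symm p)
      else -coordVec vecU ((σ : Equiv.Perm GolayPt).symm p)) = coordVec vecU p := fun p =>
    (coordVec_monoAut d σ vecU p).symm.trans (congrArg (fun v => coordVec v p) hu)
  have hd : ∀ p, (d : GolayPt → ZMod 2) p = 0 := fun p => by
    by_contra hne
    have h := hval p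
    rw [if_neg hne, coordVec_vecU, coordVec_vecU] at h
    split_ifs at h <;> omega
  have hσ : (σ : Equiv.Perm GolayPt).symm none = none := by
    have h := hval none
    rw [if_pos (hd none), coordVec_vecU, coordVec_vecU, if_pos rfl] at h
    by_contra hne
    rw [if_neg hne] at h
    norm_num at h
  refine ⟨σ, ((Equiv.symm_apply_eq _).1 hσ).symm, ?_⟩
  rw [show d = 0 from Subtype.ext (funext hd), signAut_zero, one_mul]

/-- A sum invariant under an element of prime order vanishes modulo it off the fixed points. -/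
theorem dvd_sum_of_invariant {q : ℕ} [Fact q.Prime] {g : M24} (hg : g ^ q = 1)
    (T : Finset GolayPt) (hT : ∀ x ∈ T, g • x ∈ T) (hfix : ∀ x ∈ T, g • x ≠ x) (f : GolayPt → ℤ)
    (hf : ∀ x, f (g • x) = f x) : (q : ℤ) ∣ ∑ x ∈ T, f x := by
  rw [← Finset.sum_fiberwise_of_maps_to (fun x hx => Finset.mem_image_of_mem f hx)]
  refine Finset.dvd_sum fun c _ => ?_
  rw [Finset.sum_congr rfl fun x hx => (Finset.mem_filter.1 hx).2, Finset.sum_const, nsmul_eq_mul]
  refine Dvd.dvd.mul_right (Int.natCast_dvd_natCast.2 ?_) c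
  have h := fixed_modEq hg (T.filter fun x => f x = c) fun x hx =>
    Finset.mem_filter.2 ⟨hT x (Finset.mem_filter.1 hx).1,
      by rw [hf]; exact (Finset.mem_filter.1 hx).2⟩
  rw [Finset.filter_eq_empty_iff.2 fun x hx => hfix x (Finset.mem_filter.1 hx).1,
    Finset.card_empty] at h
  exact (Nat.modEq_zero_iff_dvd).1 h.symm

/-- The image of an axis fixed by a permutation under an element normalising its group. -/
theorem axis_image_fixed {σ : M24} (hσ : (σ : Equiv.Perm GolayPt) none = none) {h : Co0}
    (hn : h⁻¹ * permAut σ * h ∈ Subgroup.zpowers (permAut σ)) (x : GolayPt) :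
    coordVec (h • axisVec none) (σ • x) = coordVec (h • axisVec none) x := by
  have hax : permAut σ ∈ MulAction.stabilizer Co0 (axisVec none) := by
    rw [MulAction.mem_stabilizer_iff]
    refine leech_ext fun p => ?_
    rw [coordVec_permAut, coordVec_axisVec, coordVec_axisVec]
    have h : (σ : Equiv.Perm GolayPt).symm p = none ↔ p = none := by rw [Equiv.symm_apply_eq, hσ]
    exact if_congr h rfl rfl
  have h1 : (h⁻¹ * permAut σ * h) • axisVec none = axisVec none :=
    (Subgroup.zpowers_le.2 hax) hn
  rw [mul_smul, mul_smul, inv_smul_eq_iff] at h1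
  have h2 := congrArg (fun v => coordVec v (σ • x)) h1
  rw [coordVec_permAut] at h2
  rw [← h2]
  exact congrArg _ (Equiv.symm_apply_apply _ _)

theorem mem_monoGroup_of_axis {h : Co0} (h8 : coordVec (h • axisVec none) none = 8) :
    h ∈ monoGroup := by
  have hn : sqNorm (coordVec (h • axisVec none)) = 64 := by rw [sqNorm_smul', sqNorm_axisVec]
  have h0 : ∀ q, q ≠ none → coordVec (h • axisVec none) q = 0 := by
    intro q hq
    rw [sqNorm, ← Finset.add_sum_erase _ _ (Finset.mem_univ none), h8] at hn
    have h64 : ∑ i ∈ (Finset.univ : Finset GolayPt).erase none,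
        coordVec (h • axisVec none) i ^ 2 = 0 := by linarith
    have hz := (Finset.sum_eq_zero_iff_of_nonneg fun i _ => sq_nonneg _).1 h64 q
      (Finset.mem_erase.2 ⟨hq, Finset.mem_univ q⟩)
    exact pow_eq_zero_iff two_ne_zero |>.1 hz
  rw [mem_stabilizer_crossOf]
  exact ((congTwo_axisVec none).symm.smul h).trans
    (congTwo_vecA_of_four_mul _ none (by rw [h8]; norm_num) h0)

theorem coord_bounds (x : leechLattice) (hn : sqNorm (coordVec x) ≤ 64) (p : GolayPt) :
    -8 ≤ coordVec x p ∧ coordVec x p ≤ 8 := by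
  have h := Finset.single_le_sum (f := fun i => coordVec x i ^ 2) (fun i _ => sq_nonneg _)
    (Finset.mem_univ p)
  have h' : coordVec x p ^ 2 ≤ 64 := h.trans hn
  constructor <;> nlinarith

theorem dot_axis_image {h : Co0} {v : leechLattice} (hv : h • v = v) :
    dotInt (coordVec v) (coordVec (h • axisVec none)) = 8 * coordVec v none := by
  have h1 := CfsgLib.Leech.dotInt_smul h v (axisVec none)
  rw [hv] at h1
  refine h1.trans ?_
  change dotInt (coordVec v) (coordVec (axisVec none)) = _
  simp only [dotInt, coordVec_axisVec, mul_ite, mul_zero, Finset.sum_ite_eq', Finset.mem_univ,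
    if_true]
  ring

/-! ### Squared length 48 -/

/-- The stabiliser of `vecU`. -/
noncomputable abbrev coThreeGroup : Subgroup Co0 := MulAction.stabilizer Co0 vecU

/-- The permutations fixing the exceptional point. -/
noncomputable def pointHom : MulAction.stabilizer M24 (none : GolayPt) →* coThreeGroup :=
  (permHom.comp (MulAction.stabilizer M24 (none : GolayPt)).subtype).codRestrict coThreeGroup
    fun τ => permAut_smul_vecU τ.2

theorem pointHom_injective : Function.Injective pointHom := fun a b h => by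
  have h' : permAut (a : M24) = permAut (b : M24) := congrArg Subtype.val h
  exact Subtype.ext (monomial_unique (d := 0) (d' := 0) (by rw [h'])).2

theorem shiftOne_none : (shiftOne : Equiv.Perm GolayPt) none = none :=
  ((Equiv.symm_apply_eq _).1 shiftOne_symm_none).symm

theorem shiftOne_some (x : ZMod 23) :
    (shiftOne : Equiv.Perm GolayPt) (some x) = some (x + 1) := by
  rw [← Equiv.eq_symm_apply, shiftOne_symm_some, add_sub_cancel_right]

theorem shiftOne_pow : shiftOne ^ 23 = 1 := Subtype.ext shiftPerm_one_pow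

theorem one_ne_zero_twentyThree : (1 : ZMod 23) ≠ 0 := by decide +kernel

/-- An element normalising the shift inside the stabiliser is a permutation. -/
theorem coThree_normalizer {h : Co0} (hu : h • vecU = vecU)
    (hn : h⁻¹ * permAut shiftOne * h ∈ Subgroup.zpowers (permAut shiftOne)) :
    ∃ σ : M24, (σ : Equiv.Perm GolayPt) none = none ∧ h = permAut σ := by
  refine mono_fix_vecU (mem_monoGroup_of_axis ?_) hu
  have : Fact (Nat.Prime 23) := ⟨by norm_num⟩
  set T := (Finset.univ : Finset GolayPt).erase none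
  have hT : ∀ x ∈ T, shiftOne • x ∈ T := fun x hx => by
    refine Finset.mem_erase.2 ⟨fun e => (Finset.mem_erase.1 hx).1 ?_, Finset.mem_univ _⟩
    exact MulAction.injective shiftOne (e.trans shiftOne_none.symm)
  have hd := dvd_sum_of_invariant shiftOne_pow T hT (fun x hx e => by
      rcases x with _ | x
      · exact (Finset.mem_erase.1 hx).1 rfl
      · have e' : (some (x + 1) : GolayPt) = some x := (shiftOne_some x).symm.trans e
        exact one_ne_zero_twentyThree (by simpa using Option.some.inj e'))
    _ (axis_image_fixed shiftOne_none hn)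
  have h1 := dot_axis_image hu
  rw [dot_vecU, coordVec_vecU, if_pos rfl] at h1
  obtain ⟨l, u⟩ := coord_bounds (h • axisVec none)
    (by rw [sqNorm_smul', sqNorm_axisVec]) none
  change ((23 : ℕ) : ℤ) ∣ ∑ x ∈ T, _ at hd
  obtain ⟨t, ht⟩ := hd
  rw [ht] at h1
  push_cast at h1
  omega

/-! ### Triangles through `vecU` -/

/-- The subgroup of `coThreeGroup` fixing a further vector. -/
noncomputable abbrev triGroup (y : leechLattice) : Subgroup Co0 :=
  coThreeGroup ⊓ MulAction.stabilizer Co0 y

/-- The shapes of the further vector. -/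
def IsBaseSign (y : leechLattice) : Prop := y = baseP ∨ y = baseM

theorem baseSign_coord {y : leechLattice} (hy : IsBaseSign y) :
    coordVec y ptP = 4 ∧ |coordVec y ptQ| = 4 ∧
      ∀ p, p ≠ ptP → p ≠ ptQ → coordVec y p = 0 := by
  rcases hy with rfl | rfl
  · refine ⟨by rw [coordVec_baseP, if_pos (Or.inl rfl)],
      by rw [coordVec_baseP, if_pos (Or.inr rfl)]; norm_num,
      fun p a b => by rw [coordVec_baseP, if_neg (by simp [a, b])]⟩
  · refine ⟨by rw [coordVec_baseM, if_pos rfl],
      by rw [coordVec_baseM, if_neg ptP_ne_ptQ.symm, if_pos rfl]; norm_num,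
      fun p a b => by rw [coordVec_baseM, if_neg a, if_neg b]⟩

theorem permAut_mem_tri {y : leechLattice} (hy : IsBaseSign y) {τ : M24} (hτ : τ ∈ baseFix) :
    permAut τ ∈ triGroup y := by
  refine Subgroup.mem_inf.2 ⟨permAut_smul_vecU hτ.1, leech_ext fun p => ?_⟩
  rw [coordVec_permAut]
  obtain ⟨-, -, h0⟩ := baseSign_coord hy
  have e1 : (τ : Equiv.Perm GolayPt).symm p = ptP ↔ p = ptP := by
    rw [Equiv.symm_apply_eq, show (τ : Equiv.Perm GolayPt) ptP = ptP from hτ.1]
  have e2 : (τ : Equiv.Perm GolayPt).symm p = ptQ ↔ p = ptQ := by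
    rw [Equiv.symm_apply_eq, show (τ : Equiv.Perm GolayPt) ptQ = ptQ from hτ.2]
  by_cases a : p = ptP
  · rw [e1.2 a, a]
  by_cases b : p = ptQ
  · rw [e2.2 b, b]
  rw [h0 p a b, h0 _ (mt e1.1 a) (mt e2.1 b)]

/-- The permutations fixing two points. -/
noncomputable def duadHom {y : leechLattice} (hy : IsBaseSign y) : baseFix →* triGroup y :=
  (permHom.comp baseFix.subtype).codRestrict (triGroup y) fun τ => permAut_mem_tri hy τ.2

theorem duadHom_injective {y : leechLattice} (hy : IsBaseSign y) :
    Function.Injective (duadHom hy) := fun a b h => by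
  have h' : permAut (a : M24) = permAut (b : M24) := congrArg Subtype.val h
  exact Subtype.ext (monomial_unique (d := 0) (d' := 0) (by rw [h'])).2

theorem mono_fix_tri {y : leechLattice} (hy : IsBaseSign y) {h : Co0} (hm : h ∈ monoGroup)
    (hh : h ∈ triGroup y) : ∃ σ : M24, σ ∈ baseFix ∧ h = permAut σ := by
  obtain ⟨σ, hσ, rfl⟩ := mono_fix_vecU hm (Subgroup.mem_inf.1 hh).1
  refine ⟨σ, ⟨hσ, ?_⟩, rfl⟩
  obtain ⟨-, hQ, h0⟩ := baseSign_coord hy
  have h1 := congrArg (fun v => coordVec v ((σ : Equiv.Perm GolayPt) ptQ))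
    ((Subgroup.mem_inf.1 hh).2 : permAut σ • y = y)
  rw [coordVec_permAut, Equiv.symm_apply_apply] at h1
  show (σ : Equiv.Perm GolayPt) ptQ = ptQ
  by_contra hne
  rw [h0 _ (fun e => ptP_ne_ptQ ((σ : Equiv.Perm GolayPt).injective (hσ.trans e.symm))) hne] at h1
  rw [h1] at hQ
  norm_num at hQ

/-- An element normalising an element of order 11 inside a triangle stabiliser is a permutation. -/
theorem tri_normalizer {y : leechLattice} (hy : IsBaseSign y) {g : M24} (hg : g ∈ baseFix)
    (ho : orderOf g = 11) {h : Co0} (hh : h ∈ triGroup y)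
    (hn : h⁻¹ * permAut g * h ∈ Subgroup.zpowers (permAut g)) :
    ∃ σ : M24, σ ∈ baseFix ∧ h = permAut σ := by
  refine mono_fix_tri hy (mem_monoGroup_of_axis ?_) hh
  have : Fact (Nat.Prime 11) := ⟨by norm_num⟩
  obtain ⟨hP4, hQ4, h0⟩ := baseSign_coord hy
  set T := ((Finset.univ : Finset GolayPt).erase none).erase ptQ with hTdef
  have hgP : g • (ptP : GolayPt) = ptP := hg.1
  have hgQ : g • ptQ = ptQ := hg.2
  have hT : ∀ x ∈ T, g • x ∈ T := fun x hx => by
    simp only [hTdef, Finset.mem_erase, Finset.mem_univ, and_true] at hx ⊢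
    exact ⟨fun e => hx.1 (MulAction.injective g (e.trans hgQ.symm)),
      fun e => hx.2 (MulAction.injective g (e.trans hgP.symm))⟩
  have hfix : ∀ x ∈ T, g • x ≠ x := by
    intro x hx e
    simp only [hTdef, Finset.mem_erase, Finset.mem_univ, and_true] at hx
    have h2 := fixed_card (p := 11) (r := 2) (Or.inr (Or.inr ⟨rfl, rfl⟩)) ho
    have hsub : ({ptP, ptQ, x} : Finset GolayPt) ⊆ Finset.univ.filter fun z => g • z = z := by
      intro z hz
      simp only [Finset.mem_insert, Finset.mem_singleton] at hz
      refine Finset.mem_filter.2 ⟨Finset.mem_univ _, ?_⟩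
      rcases hz with rfl | rfl | rfl <;> assumption
    have h3 := Finset.card_le_card hsub
    rw [h2, Finset.card_insert_of_notMem, Finset.card_pair (Ne.symm hx.1)] at h3
    · omega
    · simp only [Finset.mem_insert, Finset.mem_singleton, not_or]
      exact ⟨ptP_ne_ptQ, Ne.symm hx.2⟩
  have hd := dvd_sum_of_invariant (ho ▸ pow_orderOf_eq_one g) T hT hfix _
    (axis_image_fixed hg.1 hn)
  obtain ⟨t, ht⟩ := hd
  set w := h • axisVec none with hw
  have h1 : dotInt (coordVec vecU) (coordVec w) = _ := dot_axis_image (Subgroup.mem_inf.1 hh).1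
  rw [dot_vecU, coordVec_vecU, if_pos rfl,
    ← Finset.add_sum_erase _ _ (show ptQ ∈ (Finset.univ : Finset GolayPt).erase none from
      Finset.mem_erase.2 ⟨ptP_ne_ptQ.symm, Finset.mem_univ _⟩), ← hTdef, ht] at h1
  have h2 : dotInt (coordVec y) (coordVec w) = _ := dot_axis_image (Subgroup.mem_inf.1 hh).2
  have hyn : coordVec y none = 4 := hP4
  rw [hyn] at h2
  have h3 : dotInt (coordVec y) (coordVec w) =
      4 * coordVec w none + coordVec y ptQ * coordVec w ptQ := by
    rw [dotInt, ← Finset.add_sum_erase _ _ (Finset.mem_univ (none : GolayPt)), hyn,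
      ← Finset.add_sum_erase _ _ (show ptQ ∈ (Finset.univ : Finset GolayPt).erase none from
        Finset.mem_erase.2 ⟨ptP_ne_ptQ.symm, Finset.mem_univ _⟩),
      Finset.sum_eq_zero (fun i hi => by
        simp only [Finset.mem_erase, Finset.mem_univ, and_true] at hi
        rw [h0 i hi.2 hi.1, zero_mul])]
    ring
  rw [h3] at h2
  have hwn : sqNorm (coordVec w) ≤ 64 := by rw [hw, sqNorm_smul', sqNorm_axisVec]
  obtain ⟨la, ua⟩ := coord_bounds w hwn none
  obtain ⟨lb, ub⟩ := coord_bounds w hwn ptQ
  push_cast at h1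
  rcases abs_choice (coordVec y ptQ) with e | e <;> rw [e] at hQ4
  · rw [hQ4] at h2
    omega
  · rw [show coordVec y ptQ = -4 by omega] at h2
    omega

end CfsgLib.GolayStructure
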