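/-
The stabiliser of a vector of squared length 48 is transitive on the 11178 minimal vectors with
inner product 16 with it.
-/
import Cfsg.Agent.Lib.GolayStructure.ConwayBase

set_option autoImplicit false

namespace CfsgLib.GolayStructure

open Cfsg CfsgLib.Leech CfsgLib.Fischer2
open scoped Pointwise Classical

theorem natCard_coThreeGroup : Nat.card coThreeGroup = 495766656000 := by
  have h := ncard_orbitSet_mul (⊤ : Subgroup Co0) vecU
  have hO : orbitSet (⊤ : Subgroup Co0) vecU = {w | sqNorm (coordVec w) = 48} := by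
    refine Set.Subset.antisymm (fun w ⟨k, _, e⟩ => ?_) fun w hw => ?_
    · show sqNorm (coordVec w) = 48
      rw [← e, sqNorm_smul', sqNorm_vecU]
    · obtain ⟨g, hg⟩ := transitive_norm48 sqNorm_vecU hw
      exact ⟨g, Subgroup.mem_top _, hg⟩
  have hc : (orbitSet (⊤ : Subgroup Co0) vecU).ncard = 16773120 := by
    rw [hO, ← ncard_layer_48, ← Set.ncard_image_of_injective _ Subtype.val_injective]
    congr 1
    ext x
    exact ⟨fun ⟨v, hv, e⟩ => e ▸ ⟨v.2, hv⟩, fun ⟨hx, hn⟩ => ⟨⟨x, hx⟩, hn, rfl⟩⟩
  rw [hc, top_inf_eq, Subgroup.card_top, natCard_Co0] at h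
  change 16773120 * Nat.card coThreeGroup = _ at h
  omega

/-- The minimal vectors with inner product 16 with `vecU`. -/
def dotSixteen : Set leechLattice :=
  {x | sqNorm (coordVec x) = 32 ∧ dotInt (coordVec vecU) (coordVec x) = 16}

/-- Those with a prescribed entry at the exceptional point. -/
def pieceU (c : ℤ) : Set leechLattice := {x | x ∈ dotSixteen ∧ coordVec x none = c}

theorem dot_vecU' (x : leechLattice) :
    dotInt (coordVec vecU) (coordVec x) = 4 * coordVec x none + ∑ i, coordVec x i := by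
  rw [dot_vecU, ← Finset.add_sum_erase _ _ (Finset.mem_univ (none : GolayPt))]
  ring

theorem perm_move {σ : M24} (hσ : (σ : Equiv.Perm GolayPt) none = none) {w w' : leechLattice}
    (h : ∀ i, coordVec w' ((σ : Equiv.Perm GolayPt) i) = coordVec w i) :
    ∃ g : M24, (g : Equiv.Perm GolayPt) none = none ∧ permAut g • w = w' :=
  ⟨σ, hσ, leech_ext fun p => by rw [coordVec_permAut, ← h, Equiv.apply_symm_apply]⟩

theorem mem_smul_iff_apply {σ : M24} {O O' : Finset GolayPt} (h : σ • O = O') (i : GolayPt) :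
    (σ : Equiv.Perm GolayPt) i ∈ O' ↔ i ∈ O := by
  rw [← h]
  exact Finset.smul_mem_smul_finset_iff σ

/-! ### Shapes -/

theorem pieceU_four {w : leechLattice} (hw : w ∈ pieceU 4) :
    ∃ j, j ≠ none ∧ ∀ p, coordVec w p = if p = none then 4 else if p = j then -4 else 0 := by
  obtain ⟨⟨hn, hd⟩, hc⟩ := hw
  rcases shape_cases w hn with h | h | h
  · obtain ⟨i, j, hij, hi, hj, h0⟩ := h
    have key : ∀ a b : GolayPt, a = none → b ≠ a → (∀ p, p ≠ a → p ≠ b → coordVec w p = 0) →
        ∃ j, j ≠ none ∧ ∀ p, coordVec w p = if p = none then 4 else if p = j then -4 else 0 := by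
      intro a b ha hba h00
      subst ha
      refine ⟨b, hba, fun p => ?_⟩
      have hb : coordVec w b = -4 := by
        rw [dot_vecU', ← Finset.add_sum_erase _ _ (Finset.mem_univ (none : GolayPt)),
          Finset.sum_eq_single b (fun q hq hqb => h00 q (Finset.mem_erase.1 hq).1 hqb)
            (fun hb => absurd (Finset.mem_erase.2 ⟨hba, Finset.mem_univ b⟩) hb), hc] at hd
        omega
      by_cases hp : p = none
      · rw [hp, if_pos rfl, hc]
      rw [if_neg hp]
      by_cases hpb : p = b
      · rw [hpb, if_pos rfl, hb]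
      rw [if_neg hpb, h00 p hp hpb]
    by_cases h1 : i = none
    · exact key i j h1 hij.symm h0
    by_cases h2 : j = none
    · exact key j i h2 hij fun p a b => h0 p b a
    rw [h0 none (Ne.symm h1) (Ne.symm h2)] at hc
    norm_num at hc
  · rcases octShape_abs h none with e | e <;> rw [hc] at e <;> norm_num at e
  · rcases oddShape_abs h none with e | e <;> rw [hc] at e <;> norm_num at e

theorem pieceU_oct {c : ℤ} (hc02 : c = 0 ∨ c = 2) {w : leechLattice} (hw : w ∈ pieceU c) :
    ∃ O ∈ octads, ∃ M ⊆ O, (M.card : ℤ) = c ∧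
      ∀ p, coordVec w p = if p ∈ O then (if p ∈ M then -2 else 2) else 0 := by
  obtain ⟨⟨hn, hd⟩, hc⟩ := hw
  rcases shape_cases w hn with h | h | h
  · exfalso
    obtain ⟨i, j, hij, hi, hj, h0⟩ := h
    have hs : ∑ p, coordVec w p = coordVec w i + coordVec w j := by
      rw [← Finset.sum_pair hij]
      refine (Finset.sum_subset (Finset.subset_univ _) fun p _ hp => ?_).symm
      simp only [Finset.mem_insert, Finset.mem_singleton, not_or] at hp
      exact h0 p hp.1 hp.2
    rw [dot_vecU', hs, hc] at hd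
    have b1 := le_abs_self (coordVec w i)
    have b2 := le_abs_self (coordVec w j)
    rcases fourShape_abs ⟨i, j, hij, hi, hj, h0⟩ none with e | e <;> rw [hc] at e <;>
      rcases hc02 with rfl | rfl <;> norm_num at e <;> omega
  · obtain ⟨O, hO, h2, h0⟩ := h
    refine ⟨O, hO, O.filter fun p => coordVec w p = -2, Finset.filter_subset _ _, ?_, fun p => ?_⟩
    · have hs : ∑ p, coordVec w p = ∑ p ∈ O, ((2 : ℤ) + if coordVec w p = -2 then -4 else 0) := by
        rw [← Finset.sum_subset (Finset.subset_univ O) fun p _ hp => h0 p hp]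
        refine Finset.sum_congr rfl fun p hp => ?_
        have := h2 p hp
        rcases abs_choice (coordVec w p) with a | a <;> rw [a] at this
        · rw [if_neg (by omega)]; omega
        · rw [if_pos (by omega)]; omega
      rw [Finset.sum_add_distrib, ← Finset.sum_filter, Finset.sum_const, Finset.sum_const,
        CfsgLib.Golay.card_eq_of_mem_octads hO, nsmul_eq_mul, nsmul_eq_mul] at hs
      rw [dot_vecU', hs, hc] at hd
      push_cast at hd
      omega
    · by_cases hp : p ∈ O
      · rw [if_pos hp]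
        have := h2 p hp
        simp only [Finset.mem_filter, hp, true_and]
        rcases abs_choice (coordVec w p) with a | a <;> rw [a] at this
        · rw [if_neg (by omega)]; omega
        · rw [if_pos (by omega)]; omega
      · rw [if_neg hp, h0 p hp]
  · rcases oddShape_abs h none with e | e <;> rw [hc] at e <;>
      rcases hc02 with rfl | rfl <;> norm_num at e

theorem pieceU_odd {c : ℤ} (hc13 : c = 1 ∨ c = 3) {w : leechLattice} (hw : w ∈ pieceU c) :
    ∃ C k, C ∈ supports (golayCode : Set (GolayPt → ZMod 2)) ∧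
      C.card = (if c = 1 then 8 else 12) ∧ k ∈ C ∧ (c = 1 → (none : GolayPt) ∉ C) ∧
      (c = 3 → k = none) ∧
      ∀ p, coordVec w p = if p ∈ C then (if p = k then 3 else -1) else 1 := by
  obtain ⟨⟨hn, hd⟩, hc⟩ := hw
  rcases shape_cases w hn with h | h | h
  · rcases fourShape_abs h none with e | e <;> rw [hc] at e <;>
      rcases hc13 with rfl | rfl <;> norm_num at e
  · rcases octShape_abs h none with e | e <;> rw [hc] at e <;>
      rcases hc13 with rfl | rfl <;> norm_num at e
  obtain ⟨k, h3, h1⟩ := h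
  obtain ⟨d, rfl⟩ := exists_odd_word h3 h1
  set C := support₂ (d : GolayPt → ZMod 2) with hC
  have hmem : ∀ p, p ∈ C ↔ (d : GolayPt → ZMod 2) p ≠ 0 := fun p => by simp [hC, support₂]
  have hval : ∀ p, coordVec (signAut d • oddVec k) p =
      if p ∈ C then (if p = k then 3 else -1) else (if p = k then -3 else 1) := fun p => by
    rw [coordVec_signAut, coordVec_oddVec]
    by_cases hp : (d : GolayPt → ZMod 2) p = 0
    · rw [if_pos hp, if_neg (fun h => (hmem p).1 h hp)]
    · rw [if_neg hp, if_pos ((hmem p).2 hp)]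
      split_ifs <;> rfl
  have hs : ∑ p, coordVec (signAut d • oddVec k) p =
      24 - 2 * (C.card : ℤ) + if k ∈ C then 4 else -4 := by
    have hterm : ∀ p, coordVec (signAut d • oddVec k) p =
        (1 + if p ∈ C then (-2 : ℤ) else 0) +
          if p = k then (if k ∈ C then 4 else -4) else 0 := fun p => by
      rw [hval]
      by_cases hp : p = k
      · subst hp
        by_cases hk : p ∈ C <;> simp [hk]
      · simp only [hp, if_false]
        by_cases hk : p ∈ C <;> simp [hk]
    rw [Finset.sum_congr rfl fun p _ => hterm p, Finset.sum_add_distrib, Finset.sum_add_distrib,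
      Finset.sum_ite_eq', if_pos (Finset.mem_univ k), Finset.sum_ite_mem, Finset.univ_inter,
      Finset.sum_const, Finset.sum_const, card_univ_golayPt]
    rw [nsmul_eq_mul, nsmul_eq_mul]
    push_cast
    ring
  have hsupp : C ∈ supports (golayCode : Set (GolayPt → ZMod 2)) := ⟨_, d.2, rfl⟩
  have hw4 := CfsgLib.Golay.card_mem_weights hsupp
  rw [dot_vecU', hs, hc] at hd
  rw [hval] at hc
  have hk : k ∈ C := by
    by_contra hk
    rw [if_neg hk] at hd
    rcases hc13 with rfl | rfl
    · omega
    · by_cases hn : (none : GolayPt) ∈ C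
      · rw [if_pos hn] at hc
        split_ifs at hc with e
        · exact hk (e ▸ hn)
        all_goals omega
      · rw [if_neg hn] at hc
        split_ifs at hc <;> omega
  rw [if_pos hk] at hd
  have h1k : c = 1 → (none : GolayPt) ∉ C := by
    rintro rfl hn
    rw [if_pos hn] at hc
    split_ifs at hc <;> omega
  have h3k : c = 3 → k = none := by
    rintro rfl
    by_contra hne
    rw [if_neg (Ne.symm hne), if_neg (Ne.symm hne)] at hc
    split_ifs at hc <;> omega
  refine ⟨C, k, hsupp, ?_, hk, h1k, h3k, fun p => ?_⟩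
  · rcases hc13 with rfl | rfl
    · rw [if_pos rfl]; omega
    · rw [if_neg (by norm_num)]; omega
  · rw [hval]
    by_cases hp : p ∈ C
    · rw [if_pos hp, if_pos hp]
    · rw [if_neg hp, if_neg hp, if_neg (fun e => hp (e ▸ hk) : ¬ p = k)]

/-! ### Transitivity on each piece -/

theorem five_embedding {O : Finset GolayPt} (hO : O ∈ octads) {z a b : GolayPt} (hz : z ∈ O)
    (ha : a ∈ O) (hb : b ∈ O) (hza : z ≠ a) (hzb : z ≠ b) (hab : a ≠ b) :
    ∃ x : Fin 5 ↪ GolayPt, x 0 = z ∧ x 1 = a ∧ x 2 = b ∧ ∀ i, x i ∈ O := by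
  obtain ⟨s, hs, hsc⟩ := Finset.exists_subset_card_eq
    (show 2 ≤ (((O.erase z).erase a).erase b).card by
      rw [Finset.card_erase_of_mem (Finset.mem_erase.2 ⟨hab.symm, Finset.mem_erase.2 ⟨hzb.symm, hb⟩⟩),
        Finset.card_erase_of_mem (Finset.mem_erase.2 ⟨hza.symm, ha⟩),
        Finset.card_erase_of_mem hz, CfsgLib.Golay.card_eq_of_mem_octads hO]
      norm_num)
  obtain ⟨e, f, hef, rfl⟩ := Finset.card_eq_two.1 hsc
  simp only [Finset.insert_subset_iff, Finset.singleton_subset_iff, Finset.mem_erase] at hs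
  obtain ⟨⟨eb, ea, ez, heO⟩, fb, fa, fz, hfO⟩ := hs
  refine ⟨⟨![z, a, b, e, f], fun i j hij => ?_⟩, rfl, rfl, rfl, fun i => ?_⟩
  · fin_cases i <;> fin_cases j <;> simp at hij ⊢ <;> simp_all
  · fin_cases i <;> first | exact hz | exact ha | exact hb | exact heO | exact hfO

theorem exists_fix_outside {O O' : Finset GolayPt} (hO : O ∈ octads) (hO' : O' ∈ octads)
    {k k' : GolayPt} (hk : k ∈ O) (hk' : k' ∈ O') (hn : (none : GolayPt) ∉ O)
    (hn' : (none : GolayPt) ∉ O') :
    ∃ σ : M24, (σ : Equiv.Perm GolayPt) none = none ∧ σ • O = O' ∧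
      (σ : Equiv.Perm GolayPt) k = k' := by
  obtain ⟨b, hb, hbk⟩ := Finset.exists_mem_ne
    (by rw [CfsgLib.Golay.card_eq_of_mem_octads hO]; norm_num) k
  obtain ⟨b', hb', hbk'⟩ := Finset.exists_mem_ne
    (by rw [CfsgLib.Golay.card_eq_of_mem_octads hO']; norm_num) k'
  obtain ⟨g, hgO, hgk, -⟩ := exists_M24_octad_pair hO hO' hk hb hbk.symm hk' hb' hbk'.symm
  have hgn : (g : Equiv.Perm GolayPt) none ∉ O' := fun h => hn ((mem_smul_iff_apply hgO none).1 h)
  obtain ⟨f, hf, hfn⟩ := octadKernel_transitive hO' hgn hn'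
  refine ⟨(⟨f, (mem_octadKernel.1 hf).1⟩ : M24) * g, by exact hfn, ?_, ?_⟩
  · rw [mul_smul, hgO]
    exact (mem_octadGroup.1 (octadKernel_le O' hf)).2
  · show f ((g : Equiv.Perm GolayPt) k) = k'
    rw [hgk]
    exact (mem_octadKernel.1 hf).2 k' hk'

theorem pieceU_transitive {c : ℤ} (hc : c = 4 ∨ c = 2 ∨ c = 0 ∨ c = 1 ∨ c = 3)
    {w w' : leechLattice} (hw : w ∈ pieceU c) (hw' : w' ∈ pieceU c) :
    ∃ g : M24, (g : Equiv.Perm GolayPt) none = none ∧ permAut g • w = w' := by
  have h0n := hw.2
  have h0n' := hw'.2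
  rcases hc with rfl | rfl | rfl | rfl | rfl
  · obtain ⟨j, hj, hv⟩ := pieceU_four hw
    obtain ⟨j', hj', hv'⟩ := pieceU_four hw'
    obtain ⟨g, hg, gn, gj⟩ := exists_M24_pair hj.symm hj'.symm
    refine perm_move (σ := ⟨g, hg⟩) gn fun i => ?_
    show coordVec w' (g i) = coordVec w i
    rw [hv, hv']
    have e1 : g i = none ↔ i = none := ⟨fun e => g.injective (e.trans gn.symm), fun e => e ▸ gn⟩
    have e2 : g i = j' ↔ i = j := ⟨fun e => g.injective (e.trans gj.symm), fun e => e ▸ gj⟩
    simp only [e1, e2]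
  · obtain ⟨O, hO, M, hMO, hMc, hv⟩ := pieceU_oct (Or.inr rfl) hw
    obtain ⟨O', hO', M', hMO', hMc', hv'⟩ := pieceU_oct (Or.inr rfl) hw'
    have inO : ∀ {w : leechLattice} {O M : Finset GolayPt},
        (∀ p, coordVec w p = if p ∈ O then (if p ∈ M then -2 else 2) else 0) →
        coordVec w none = 2 → (none : GolayPt) ∈ O ∧ (none : GolayPt) ∉ M := by
      intro w O M hv h2
      rw [hv] at h2
      by_cases a : (none : GolayPt) ∈ O
      · refine ⟨a, fun b => ?_⟩
        rw [if_pos a, if_pos b] at h2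
        norm_num at h2
      · rw [if_neg a] at h2
        norm_num at h2
    obtain ⟨hnO, hnM⟩ := inO hv h0n
    obtain ⟨hnO', hnM'⟩ := inO hv' h0n'
    obtain ⟨a, b, hab, rfl⟩ := Finset.card_eq_two.1 (by omega : M.card = 2)
    obtain ⟨a', b', hab', rfl⟩ := Finset.card_eq_two.1 (by omega : M'.card = 2)
    simp only [Finset.insert_subset_iff, Finset.singleton_subset_iff] at hMO hMO'
    simp only [Finset.mem_insert, Finset.mem_singleton, not_or] at hnM hnM'
    obtain ⟨x, x0, x1, x2, hxO⟩ := five_embedding hO hnO hMO.1 hMO.2 hnM.1 hnM.2 hab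
    obtain ⟨y, y0, y1, y2, hyO⟩ := five_embedding hO' hnO' hMO'.1 hMO'.2 hnM'.1 hnM'.2 hab'
    obtain ⟨g, hg, hgx⟩ := CfsgLib.Golay.exists_M24_map x y
    have hgO : (⟨g, hg⟩ : M24) • O = O' := by
      refine CfsgLib.Golay.octad_unique (smul_mem_octads _ hO) hO' ?_
      rw [← show (Finset.univ.map y).card = 5 by simp]
      refine Finset.card_le_card fun q hq => ?_
      obtain ⟨i, -, rfl⟩ := Finset.mem_map.1 hq
      refine Finset.mem_inter.2 ⟨?_, hyO i⟩
      rw [← hgx i]
      exact Finset.smul_mem_smul_finset (a := (⟨g, hg⟩ : M24)) (hxO i)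
    refine perm_move (σ := ⟨g, hg⟩) ((congrArg g x0).symm.trans ((hgx 0).trans y0)) fun i => ?_
    rw [hv, hv']
    have ga : g a = a' := by rw [← x1, hgx, y1]
    have gb : g b = b' := by rw [← x2, hgx, y2]
    simp only [mem_smul_iff_apply hgO, Finset.mem_insert, Finset.mem_singleton]
    show (if i ∈ O then (if g i = a' ∨ g i = b' then (-2 : ℤ) else 2) else 0) = _
    rw [← ga, ← gb]
    simp only [EmbeddingLike.apply_eq_iff_eq]
  · obtain ⟨O, hO, M, -, hMc, hv⟩ := pieceU_oct (Or.inl rfl) hw
    obtain ⟨O', hO', M', -, hMc', hv'⟩ := pieceU_oct (Or.inl rfl) hw'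
    rw [Finset.card_eq_zero.1 (by omega : M.card = 0)] at hv
    rw [Finset.card_eq_zero.1 (by omega : M'.card = 0)] at hv'
    have out : ∀ {w : leechLattice} {O : Finset GolayPt},
        (∀ p, coordVec w p = if p ∈ O then (if p ∈ (∅ : Finset GolayPt) then -2 else 2) else 0) →
        coordVec w none = 0 → (none : GolayPt) ∉ O := by
      intro w O hv h0 hn
      rw [hv, if_pos hn, if_neg (Finset.notMem_empty _)] at h0
      norm_num at h0
    obtain ⟨k, hk⟩ : O.Nonempty :=
      Finset.card_pos.1 (by rw [CfsgLib.Golay.card_eq_of_mem_octads hO]; norm_num)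
    obtain ⟨k', hk'⟩ : O'.Nonempty :=
      Finset.card_pos.1 (by rw [CfsgLib.Golay.card_eq_of_mem_octads hO']; norm_num)
    obtain ⟨σ, hσn, hσO, -⟩ := exists_fix_outside hO hO' hk hk' (out hv h0n) (out hv' h0n')
    refine perm_move hσn fun i => ?_
    rw [hv, hv']
    simp only [mem_smul_iff_apply hσO, Finset.notMem_empty]
  · obtain ⟨C, k, hC, hCc, hk, hn, -, hv⟩ := pieceU_odd (Or.inl rfl) hw
    obtain ⟨C', k', hC', hCc', hk', hn', -, hv'⟩ := pieceU_odd (Or.inl rfl) hw'
    rw [if_pos rfl] at hCc hCc'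
    obtain ⟨σ, hσn, hσO, hσk⟩ := exists_fix_outside (O := C) (O' := C') ⟨hC, hCc⟩ ⟨hC', hCc'⟩
      hk hk' (hn rfl) (hn' rfl)
    refine perm_move hσn fun i => ?_
    rw [hv, hv', ← hσk]
    simp only [mem_smul_iff_apply hσO, EmbeddingLike.apply_eq_iff_eq]
  · obtain ⟨C, k, hC, hCc, hk, -, hkn, hv⟩ := pieceU_odd (Or.inr rfl) hw
    obtain ⟨C', k', hC', hCc', hk', -, hkn', hv'⟩ := pieceU_odd (Or.inr rfl) hw'
    rw [if_neg (by norm_num)] at hCc hCc'
    obtain rfl := hkn rfl
    obtain rfl := hkn' rfl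
    obtain ⟨g, hgC⟩ := CfsgLib.Golay.dodecad_transitive (d := C) (d' := C') ⟨hC, hCc⟩ ⟨hC', hCc'⟩
    set z := (g : Equiv.Perm GolayPt) none with hz
    have hzC : z ∈ C' := (mem_smul_iff_apply hgC none).2 hk
    obtain ⟨s, hzs, hs, hsc⟩ := Finset.exists_subsuperset_card_eq
      (s := {z}) (t := C') (n := 5) (by simpa using hzC) (by simp) (by omega)
    have hzs' : z ∈ s := hzs (Finset.mem_singleton_self z)
    let e : Fin 5 ≃ s := (Finset.equivFinOfCardEq hsc).symm
    let x : Fin 5 ↪ GolayPt := e.toEmbedding.trans (Function.Embedding.subtype _)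
    let y : Fin 5 ↪ GolayPt := x.trans (Equiv.swap z none).toEmbedding
    have hx : ∀ i, x i ∈ C' := fun i => hs (e i).2
    have hy : ∀ i, y i ∈ C' := fun i => by
      show Equiv.swap z none (x i) ∈ C'
      rw [Equiv.swap_apply_def]
      split_ifs
      · exact hk'
      · exact hzC
      · exact hx i
    obtain ⟨f, hf, -⟩ :=
      CfsgLib.Golay.sharply_five_transitive (d := C') ⟨hC', hCc'⟩ x y hx hy
    have hfz := hf (e.symm ⟨z, hzs'⟩)
    have hxe : x (e.symm ⟨z, hzs'⟩) = z := by simp [x]
    rw [show y (e.symm ⟨z, hzs'⟩) = Equiv.swap z none z from congrArg (Equiv.swap z none) hxe, hxe,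
      Equiv.swap_apply_left] at hfz
    have hσn : (((f : M24) * g : M24) : Equiv.Perm GolayPt) none = none := hfz
    have hσC : ((f : M24) * g) • C = C' := by rw [mul_smul, hgC]; exact f.2
    refine perm_move hσn fun i => ?_
    rw [hv, hv']
    have e1 : (((f : M24) * g : M24) : Equiv.Perm GolayPt) i = none ↔ i = none :=
      ⟨fun e => Equiv.injective _ (e.trans hσn.symm), fun e => e ▸ hσn⟩
    simp only [mem_smul_iff_apply hσC, e1]

/-! ### Sizes -/

theorem toVec_weight (p : GolayPt) :
    toVec (List.replicate 23 2 ++ [11]) p = if p = none then 11 else 2 := by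
  revert p
  decide +kernel

theorem dot_weight (x : leechLattice) :
    dotInt (toVec (List.replicate 23 2 ++ [11])) (coordVec x) =
      2 * dotInt (coordVec vecU) (coordVec x) + coordVec x none := by
  rw [dot_vecU, dotInt, ← Finset.add_sum_erase _ _ (Finset.mem_univ (none : GolayPt)), toVec_weight,
    if_pos rfl, Finset.sum_congr rfl fun i hi => by
      rw [toVec_weight, if_neg (Finset.mem_erase.1 hi).1], ← Finset.mul_sum]
  ring

theorem ncard_pieceU :
    ([4, 2, 0, 1, 3] : List ℤ).map (fun c => (pieceU c).ncard) = [23, 5313, 506, 4048, 1288] ∧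
      dotSixteen.ncard = 11178 := by
  constructor
  · have h := ncard_dots (B := 11) (W := List.replicate 23 2 ++ [11])
      (Wb := [13, 13, 13, 13, 13, 13, 13, 13, 13, 13, 13, 13, 13, 13, 13, 13, 13, 13, 13, 13,
        13, 13, 13, 22])
      (by decide) (by decide) (by decide) [36, 34, 32, 33, 35] (by decide)
      (tb := [388, 386, 384, 385, 387]) (by decide) [23, 5313, 506, 4048, 1288] rfl (by decide)
      (by decide +kernel)
    rw [← h, show ([36, 34, 32, 33, 35] : List ℤ) = ([4, 2, 0, 1, 3] : List ℤ).map (32 + ·) by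
      norm_num, List.map_map]
    refine List.map_congr_left fun c hc => ?_
    show (pieceU c).ncard = Set.ncard {x : GolayPt → ℤ | x ∈ leechLattice ∧ sqNorm x = 32 ∧
      dotInt (toVec (List.replicate 23 2 ++ [11])) x = 32 + c}
    rw [ncard_mem_sep fun x => sqNorm x = 32 ∧
      dotInt (toVec (List.replicate 23 2 ++ [11])) x = 32 + c]
    congr 1
    ext x
    simp only [pieceU, dotSixteen, Set.mem_ofPred_eq, dot_weight, and_assoc]
    refine and_congr_right fun hn => ⟨fun ⟨a, b⟩ => by omega, fun h => ?_⟩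
    have h8 : (8 : ℤ) ∣ dotInt (coordVec vecU) (coordVec x) := eight_dvd_dotInt vecU.2 x.2
    obtain ⟨t, ht⟩ := h8
    obtain ⟨l, u⟩ := coord_bounds x (by rw [hn]; norm_num) none
    have hl : -5 ≤ coordVec x none ∧ coordVec x none ≤ 5 := by
      have hs := Finset.single_le_sum (f := fun i => coordVec x i ^ 2) (fun i _ => sq_nonneg _)
        (Finset.mem_univ (none : GolayPt))
      have hs' : coordVec x none ^ 2 ≤ 32 := hs.trans hn.le
      constructor <;> nlinarith
    have hc' : c = 4 ∨ c = 2 ∨ c = 0 ∨ c = 1 ∨ c = 3 := by simpa using hc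
    omega
  · have h := ncard_dots_base48 (u := vecU) sqNorm_vecU [16] (by decide) (tb := [176])
      (by decide) [11178] rfl (by decide) (by decide +kernel)
    simp only [List.map_cons, List.map_nil, List.cons.injEq, and_true] at h
    exact h

theorem dotSixteen_finite : dotSixteen.Finite :=
  Set.finite_of_ncard_pos (by rw [ncard_pieceU.2]; norm_num)

theorem pieceU_cover {x : leechLattice} (hx : x ∈ dotSixteen) :
    ∃ c : ℤ, (c = 4 ∨ c = 2 ∨ c = 0 ∨ c = 1 ∨ c = 3) ∧ x ∈ pieceU c := by
  set S : Finset ℤ := {4, 2, 0, 1, 3}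
  have hfin := dotSixteen_finite
  have hsub : (⋃ c ∈ S, pieceU c) ⊆ dotSixteen := Set.iUnion₂_subset fun c _ y hy => hy.1
  have hlist := ncard_pieceU.1
  simp only [List.map_cons, List.map_nil, List.cons.injEq, and_true] at hlist
  obtain ⟨h4, h2, h0, h1, h3⟩ := hlist
  have hcard : (⋃ c ∈ S, pieceU c).ncard = 11178 := by
    have hd : ∀ a b : ℤ, a ≠ b → Disjoint (pieceU a) (pieceU b) := fun a b hab =>
      Set.disjoint_left.2 fun y hy hy' => hab (hy.2.symm.trans hy'.2)
    have hf : ∀ c, (pieceU c).Finite := fun c => hfin.subset fun y hy => hy.1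
    simp only [S, Finset.set_biUnion_insert, Finset.set_biUnion_singleton]
    rw [Set.ncard_union_eq _ (hf _) ((hf _).union ((hf _).union ((hf _).union (hf _)))),
      Set.ncard_union_eq _ (hf _) ((hf _).union ((hf _).union (hf _))),
      Set.ncard_union_eq _ (hf _) ((hf _).union (hf _)),
      Set.ncard_union_eq (hd 1 3 (by norm_num)) (hf _) (hf _), h4, h2, h0, h1, h3] <;>
      simp only [Set.disjoint_union_right] <;>
      exact by repeat' apply And.intro
               all_goals exact hd _ _ (by norm_num)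
  have heq := Set.eq_of_subset_of_ncard_le hsub (by rw [hcard, ncard_pieceU.2]) hfin
  rw [← heq] at hx
  obtain ⟨c, hc, hxc⟩ := Set.mem_iUnion₂.1 hx
  exact ⟨c, by simpa [S] using hc, hxc⟩

theorem baseM_mem_pieceU : baseM ∈ pieceU 4 := by
  have h : coordVec baseM none = 4 := by rw [coordVec_baseM]; rfl
  refine ⟨⟨sqNorm_baseM', ?_⟩, h⟩
  have h0 : ∀ q ∈ (Finset.univ : Finset GolayPt).erase none, q ≠ ptQ → coordVec baseM q = 0 := by
    intro q hq hqb
    have hq' : ¬ q = ptP := (Finset.mem_erase.1 hq).1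
    rw [coordVec_baseM, if_neg hq', if_neg hqb]
  rw [dot_vecU, h, Finset.sum_eq_single (ptQ : GolayPt) h0
    (fun hb => absurd
      (Finset.mem_erase.2 ⟨(ptP_ne_ptQ.symm : ptQ ≠ none), Finset.mem_univ _⟩) hb),
    coordVec_baseM, if_neg ptP_ne_ptQ.symm, if_pos rfl]
  norm_num

theorem pieceU_four_mem {j : GolayPt} (hj : j ≠ none) :
    ∃ g : M24, (g : Equiv.Perm GolayPt) none = none ∧ (g : Equiv.Perm GolayPt) ptQ = j := by
  obtain ⟨g, hg, a, b⟩ := exists_M24_pair ptP_ne_ptQ hj.symm
  exact ⟨⟨g, hg⟩, a, b⟩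

/-- Transitivity on the 11178 vectors. -/
theorem orbitSet_dotSixteen : orbitSet coThreeGroup baseM = dotSixteen := by
  have := finite_Co0
  have hmove : ∀ c : ℤ, (c = 4 ∨ c = 2 ∨ c = 0 ∨ c = 1 ∨ c = 3) → ∀ y ∈ pieceU c,
      ∀ z ∈ pieceU c, ∃ h ∈ coThreeGroup, h • y = z := fun c hc y hy z hz => by
    obtain ⟨g, hg, e⟩ := pieceU_transitive hc hy hz
    exact ⟨_, permAut_smul_vecU hg, e⟩
  have hsub : orbitSet coThreeGroup baseM ⊆ dotSixteen := by
    rintro y ⟨k, hk, rfl⟩
    refine ⟨by rw [sqNorm_smul', sqNorm_baseM'], ?_⟩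
    have h := CfsgLib.Leech.dotInt_smul k vecU baseM
    rw [show k • vecU = vecU from hk] at h
    exact h.trans baseM_mem_pieceU.1.2
  have hlist := ncard_pieceU.1
  simp only [List.map_cons, List.map_nil, List.cons.injEq, and_true] at hlist
  obtain ⟨h4, h2, h0, h1, h3⟩ := hlist
  let cs : Fin 4 → ℤ := ![2, 0, 1, 3]
  have hcs : ∀ i, cs i = 4 ∨ cs i = 2 ∨ cs i = 0 ∨ cs i = 1 ∨ cs i = 3 := by decide
  obtain ⟨J, hcard, hempty, hfull⟩ := orbit_sum (m := 4) (le_refl coThreeGroup) (pieceU 4)
    (fun i => pieceU (cs i)) ![5313, 506, 4048, 1288]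
    (fun i => hmove _ (hcs i))
    (fun y hy => hmove 4 (Or.inl rfl) _ baseM_mem_pieceU y hy)
    (fun y hy => by
      obtain ⟨c, hc, hyc⟩ := pieceU_cover (hsub hy)
      rcases hc with rfl | rfl | rfl | rfl | rfl
      · exact Or.inl hyc
      · exact Or.inr ⟨0, hyc⟩
      · exact Or.inr ⟨1, hyc⟩
      · exact Or.inr ⟨2, hyc⟩
      · exact Or.inr ⟨3, hyc⟩)
    (fun i j hij => Set.disjoint_left.2 fun y hy hy' => hij (by
      have e : cs i = cs j := hy.2.symm.trans hy'.2
      have hinj : ∀ i j, cs i = cs j → i = j := by decide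
      exact hinj i j e))
    (fun i => Set.disjoint_left.2 fun y hy hy' => by
      have e : (4 : ℤ) = cs i := hy.2.symm.trans hy'.2
      have hne : ∀ i, cs i ≠ 4 := by decide
      exact hne i e.symm)
    (dotSixteen_finite.subset fun y hy => hy.1)
    (fun i => by fin_cases i <;> assumption)
    (fun i => by fin_cases i <;> norm_num)
  rw [h4] at hcard
  have hd : (orbitSet coThreeGroup baseM).ncard ∣ 1117800 := by
    have h := ncard_orbitSet_mul coThreeGroup baseM
    rw [natCard_coThreeGroup] at h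
    have hM22 : 443520 ∣ Nat.card ↥(coThreeGroup ⊓ MulAction.stabilizer Co0 baseM) := by
      rw [← CfsgLib.Golay.card_stabilizer_two ptP_ne_ptQ,
        Nat.card_congr (MonoidHom.ofInjective (duadHom_injective (Or.inr rfl : IsBaseSign baseM))).toEquiv]
      exact Subgroup.card_subgroup_dvd_card _
    obtain ⟨t, ht⟩ := hM22
    rw [ht] at h
    exact ⟨t, Nat.eq_of_mul_eq_mul_left (show 0 < 443520 by norm_num) (by linarith)⟩
  rw [hcard] at hd
  have hdec : ∀ J : Finset (Fin 4),
      23 + ∑ i ∈ J, (![5313, 506, 4048, 1288] : Fin 4 → ℕ) i ∣ 1117800 →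
      J = ∅ ∨ J = Finset.univ := by decide +kernel
  rcases hdec J hd with rfl | rfl
  · exfalso
    have hM : coThreeGroup ≤ monoGroup := by
      intro k hk
      refine mem_monoGroup_of_axis ?_
      set w := k • axisVec none
      have h1 : dotInt (coordVec vecU) (coordVec w) = _ := dot_axis_image hk
      rw [dot_vecU, coordVec_vecU, if_pos rfl] at h1
      have hall : ∀ j, j ≠ none → coordVec w none - coordVec w j = 8 := by
        intro j hj
        obtain ⟨g, hgn, hgj⟩ := pieceU_four_mem hj
        have hy : permAut g • baseM ∈ orbitSet coThreeGroup baseM :=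
          ⟨_, permAut_smul_vecU hgn, rfl⟩
        have hmem : k⁻¹ • permAut g • baseM ∈ pieceU 4 :=
          hempty rfl (smul_mem_orbitSet (inv_mem hk) hy)
        have h := CfsgLib.Leech.dotInt_smul k (k⁻¹ • permAut g • baseM) (axisVec none)
        rw [smul_inv_smul] at h
        change dotInt (coordVec (permAut g • baseM)) (coordVec w) =
          dotInt (coordVec (k⁻¹ • permAut g • baseM)) (coordVec (axisVec none)) at h
        have hR : dotInt (coordVec (k⁻¹ • permAut g • baseM)) (coordVec (axisVec none)) = 32 := by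
          simp only [dotInt, coordVec_axisVec, mul_ite, mul_zero, Finset.sum_ite_eq',
            Finset.mem_univ, if_true, hmem.2]
          norm_num
        have hL : ∀ p, coordVec (permAut g • baseM) p =
            if p = none then 4 else if p = j then -4 else 0 := fun p => by
          rw [coordVec_permAut, coordVec_baseM]
          have a : (g : Equiv.Perm GolayPt).symm p = ptP ↔ p = none := by
            rw [Equiv.symm_apply_eq]
            exact ⟨fun e => e.trans hgn, fun e => e.trans hgn.symm⟩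
          have b : (g : Equiv.Perm GolayPt).symm p = ptQ ↔ p = j := by
            rw [Equiv.symm_apply_eq, hgj]
          simp only [a, b]
        rw [hR, dotInt, ← Finset.add_sum_erase _ _ (Finset.mem_univ (none : GolayPt)),
          Finset.sum_eq_single j (fun q hq hqb => by
              rw [hL, if_neg (Finset.mem_erase.1 hq).1, if_neg hqb, zero_mul])
            (fun hb => absurd (Finset.mem_erase.2 ⟨hj, Finset.mem_univ _⟩) hb),
          hL, hL, if_pos rfl, if_neg hj, if_pos rfl] at h
        omega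
      rw [Finset.sum_congr rfl fun i hi => show coordVec w i = coordVec w none - 8 by
          have := hall i (Finset.mem_erase.1 hi).1; omega,
        Finset.sum_const, Finset.card_erase_of_mem (Finset.mem_univ _), card_univ_golayPt,
        nsmul_eq_mul] at h1
      push_cast at h1
      omega
    have := Subgroup.card_dvd_of_le hM
    rw [natCard_coThreeGroup, card_stabilizer_crossOf] at this
    norm_num at this
  · refine Set.eq_of_subset_of_ncard_le hsub ?_ dotSixteen_finite
    rw [ncard_pieceU.2, hcard]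
    decide +kernel

end CfsgLib.GolayStructure
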