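/-
A simplicity criterion: a simple subgroup containing the normaliser of one of its subgroups of
prime order `q`, of index prime to `q`, where `q` separates the prime powers dividing that index.
-/
import Mathlib

set_option autoImplicit false

namespace CfsgLib.GolayStructure

open scoped Classical Pointwise

variable {G : Type*} [Group G]

/-- The orders of subgroups of a `p`-group of order `p ^ k` differ from it modulo `q`. -/
def SeparatesPowers (q n : ℕ) : Prop :=
  ∀ p k : ℕ, p.Prime → p ^ k ∣ n → ∀ i < k, p ^ i % q ≠ p ^ k % q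

theorem SeparatesPowers.mono {q m n : ℕ} (h : SeparatesPowers q n) (hmn : m ∣ n) :
    SeparatesPowers q m := fun p k hp hk => h p k hp (hk.trans hmn)

theorem separatesPowers_of_list {q n : ℕ} (L : List (ℕ × ℕ))
    (hn : n = (L.map fun x => x.1 ^ x.2).prod) (hp : ∀ x ∈ L, x.1.Prime)
    (hd : (L.map Prod.fst).Nodup)
    (h : ∀ x ∈ L, ∀ k ≤ x.2, ∀ i < k, x.1 ^ i % q ≠ x.1 ^ k % q) : SeparatesPowers q n := by
  intro p k hpp hk i hi
  have hk0 : k ≠ 0 := by omega
  have key : ∀ L : List (ℕ × ℕ), (∀ x ∈ L, x.1.Prime) → (L.map Prod.fst).Nodup →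
      p ^ k ∣ (L.map fun x => x.1 ^ x.2).prod → ∃ x ∈ L, x.1 = p ∧ k ≤ x.2 := by
    intro L
    induction L with
    | nil =>
      intro _ _ h1
      simp only [List.map_nil, List.prod_nil, Nat.dvd_one, Nat.pow_eq_one] at h1
      rcases h1 with h1 | h1
      · exact absurd h1 hpp.one_lt.ne'
      · exact absurd h1 hk0
    | cons a L ih =>
      intro hP hD h1
      rw [List.map_cons, List.prod_cons] at h1
      rw [List.map_cons, List.nodup_cons] at hD
      by_cases ha : a.1 = p
      · refine ⟨a, List.mem_cons_self .., ha, ?_⟩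
        have hcop : Nat.Coprime (p ^ k) ((L.map fun x => x.1 ^ x.2).prod) := by
          refine Nat.coprime_list_prod_right_iff.2 fun m hm => ?_
          obtain ⟨x, hx, rfl⟩ := List.mem_map.1 hm
          exact Nat.coprime_pow_primes k x.2 hpp (hP x (List.mem_cons_of_mem _ hx))
            fun e => hD.1 (List.mem_map.2 ⟨x, hx, e.symm.trans ha.symm⟩)
        have h2 := hcop.dvd_of_dvd_mul_right h1
        rw [ha] at h2
        exact (Nat.pow_dvd_pow_iff_le_right hpp.one_lt).1 h2
      · have hcop : Nat.Coprime (p ^ k) (a.1 ^ a.2) :=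
          Nat.coprime_pow_primes k a.2 hpp (hP a (List.mem_cons_self ..)) (Ne.symm ha)
        obtain ⟨x, hx, e⟩ := ih (fun x hx => hP x (List.mem_cons_of_mem _ hx)) hD.2
          (hcop.dvd_of_dvd_mul_left h1)
        exact ⟨x, List.mem_cons_of_mem _ hx, e⟩
  obtain ⟨x, hx, rfl, hxk⟩ := key L hp hd (hn ▸ hk)
  exact h x hx k hxk i hi

/-- An element of prime order normalising a `p`-subgroup centralises it when `q` separates. -/
theorem le_centralizer_of_separates [Finite G] {g : G} {q p k : ℕ} [Fact q.Prime] (hg : g ^ q = 1)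
    (hp : p.Prime) {P : Subgroup G} (hP : Nat.card P = p ^ k)
    (hinv : ∀ x, x ∈ P ↔ g * x * g⁻¹ ∈ P) (hsep : ∀ i < k, p ^ i % q ≠ p ^ k % q) :
    P ≤ Subgroup.centralizer {g} := by
  have : Fintype P := Fintype.ofFinite P
  set σ : Equiv.Perm P := Equiv.Perm.subtypePerm ((MulAut.conj g).toEquiv : Equiv.Perm G)
    (fun x => show g * x * g⁻¹ ∈ P ↔ x ∈ P from (hinv x).symm) with hσdef
  have hσ : σ ^ q ^ 1 = 1 := by
    rw [pow_one]
    refine Equiv.Perm.ext fun x => Subtype.ext ?_
    have h : ∀ n : ℕ, ((σ ^ n) x).1 = g ^ n * x.1 * (g ^ n)⁻¹ := by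
      intro n
      induction n with
      | zero => simp
      | succ n ih =>
        rw [pow_succ', Equiv.Perm.mul_apply]
        show g * ((σ ^ n) x).1 * g⁻¹ = _
        rw [ih, pow_succ']
        group
    rw [h, hg]
    simp
  have hmod := Equiv.Perm.card_compl_support_modEq hσ
  set C := P ⊓ Subgroup.centralizer {g} with hC
  have hfix : ∀ x : P, x ∈ σ.supportᶜ ↔ g * (x : G) = (x : G) * g := fun x => by
    rw [Finset.mem_compl, Equiv.Perm.mem_support, not_not, Subtype.ext_iff]
    show g * (x : G) * g⁻¹ = x ↔ _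
    rw [mul_inv_eq_iff_eq_mul]
  have hcard : (σ.supportᶜ).card = Nat.card C := by
    rw [← Nat.card_eq_finsetCard]
    exact Nat.card_congr
      { toFun := fun x => ⟨(x.1 : G), Subgroup.mem_inf.2 ⟨x.1.2,
          Subgroup.mem_centralizer_singleton_iff.2 ((hfix x.1).1 x.2).symm⟩⟩
        invFun := fun x => ⟨⟨(x : G), (Subgroup.mem_inf.1 x.2).1⟩, (hfix _).2
          (Subgroup.mem_centralizer_singleton_iff.1 (Subgroup.mem_inf.1 x.2).2).symm⟩
        left_inv := fun _ => rfl
        right_inv := fun _ => rfl }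
  rw [hcard, ← Nat.card_eq_fintype_card, hP] at hmod
  obtain ⟨i, hik, hi⟩ := (Nat.dvd_prime_pow hp).1 (hP ▸ Subgroup.card_dvd_of_le
    (inf_le_left : C ≤ P))
  rw [hi] at hmod
  rcases hik.lt_or_eq with h | rfl
  · exact absurd hmod (hsep i h)
  · have heq : C = P := Subgroup.eq_of_le_of_card_ge inf_le_left (by rw [hi, hP])
    rw [← heq]
    exact inf_le_right

/-- An element of prime order `q` centralises a normal subgroup of separated order. -/
theorem normal_le_centralizer [Finite G] {g : G} {q : ℕ} [hq : Fact q.Prime] (hg : g ^ q = 1)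
    (N : Subgroup G) [hN : N.Normal] (hqN : ¬ q ∣ Nat.card N)
    (hsep : SeparatesPowers q (Nat.card N)) : N ≤ Subgroup.centralizer {g} := by
  set C := N ⊓ Subgroup.centralizer {g}
  suffices h : Nat.card N ∣ Nat.card C by
    have heq : C = N := Subgroup.eq_of_le_of_card_ge inf_le_left (Nat.le_of_dvd Nat.card_pos h)
    rw [← heq]
    exact inf_le_right
  rw [Nat.dvd_iff_prime_pow_dvd_dvd]
  intro p k hp hk
  have : Fact p.Prime := ⟨hp⟩
  let : MulAction (Subgroup.zpowers g) (Sylow p N) :=
    MulAction.compHom (Sylow p N) ((MulAut.conjNormal (H := N)).comp (Subgroup.zpowers g).subtype)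
  have hzp : IsPGroup q (Subgroup.zpowers g) := fun x => ⟨1, by
    obtain ⟨j, hj⟩ := Subgroup.mem_zpowers_iff.1 x.2
    refine Subtype.ext ?_
    rw [pow_one, Subgroup.coe_pow, ← hj, ← zpow_natCast, ← zpow_mul, mul_comm, zpow_mul,
      zpow_natCast, hg, one_zpow, Subgroup.coe_one]⟩
  obtain ⟨P, hP⟩ := hzp.nonempty_fixed_point_of_prime_not_dvd_card (Sylow p N) fun hd =>
    hqN (hd.trans ((Sylow.card_dvd_index (default : Sylow p N)).trans (Subgroup.index_dvd_card _)))
  set P' : Subgroup G := (P : Subgroup N).map N.subtype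
  have hcardP : Nat.card P' = p ^ (Nat.card N).factorization p := by
    rw [Subgroup.card_map_of_injective N.subtype_injective, P.card_eq_multiplicity]
  have hfix := congrArg (fun Q : Sylow p N => (Q : Subgroup N)) (hP ⟨g, Subgroup.mem_zpowers g⟩)
  have hinv : ∀ x, x ∈ P' ↔ g * x * g⁻¹ ∈ P' := by
    have h1 : ∀ y : N, y ∈ (P : Subgroup N) → MulAut.conjNormal (H := N) g y ∈ (P : Subgroup N) := by
      intro y hy
      have := Subgroup.smul_mem_pointwise_smul y (MulAut.conjNormal (H := N) g) _ hy
      exact hfix ▸ this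
    have h2 : ∀ y : N, MulAut.conjNormal (H := N) g y ∈ (P : Subgroup N) → y ∈ (P : Subgroup N) := by
      intro y hy
      have hy' : MulAut.conjNormal (H := N) g y ∈
          (MulAut.conjNormal (H := N) g : MulAut N) • (P : Subgroup N) := by
        rw [show (MulAut.conjNormal (H := N) g : MulAut N) • (P : Subgroup N) = (P : Subgroup N) from hfix]
        exact hy
      exact Subgroup.smul_mem_pointwise_smul_iff.1 hy'
    intro x
    constructor
    · rintro ⟨y, hy, rfl⟩
      exact ⟨_, h1 y hy, MulAut.conjNormal_apply g y⟩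
    · rintro ⟨y, hy, hye⟩
      have hyx : (y : G) = g * x * g⁻¹ := hye
      have hx : x ∈ N := by
        have h3 := hN.conj_mem (y : G) y.2 g⁻¹
        rw [hyx] at h3
        simpa [mul_assoc] using h3
      refine ⟨⟨x, hx⟩, h2 ⟨x, hx⟩ ?_, rfl⟩
      have he : MulAut.conjNormal (H := N) g ⟨x, hx⟩ = y :=
        Subtype.ext ((MulAut.conjNormal_apply g ⟨x, hx⟩).trans hyx.symm)
      rw [he]
      exact hy
  have hle := le_centralizer_of_separates hg hp hcardP hinv
    (hsep p _ hp (Nat.ordProj_dvd _ _))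
  refine (pow_dvd_pow p ((hp.pow_dvd_iff_le_factorization Nat.card_pos.ne').1 hk)).trans ?_
  rw [← hcardP]
  exact Subgroup.card_dvd_of_le (le_inf (Subgroup.map_subtype_le _) hle)

/-- The criterion. -/
theorem isSimpleGroup_of_prime_normalizer [Finite G] {M : Subgroup G} (hM : IsSimpleGroup M)
    {q m : ℕ} [hq : Fact q.Prime] {g : G} (hgM : g ∈ M) (hg : orderOf g = q)
    (hC : ∀ h : G, h⁻¹ * g * h ∈ Subgroup.zpowers g → h ∈ M)
    (hcard : Nat.card G = Nat.card M * m) (hqm : ¬ q ∣ m) (hq2 : ¬ q ^ 2 ∣ Nat.card G)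
    (hsep : SeparatesPowers q m) : IsSimpleGroup G := by
  have : Nontrivial G := M.subtype_injective.nontrivial
  refine IsSimpleGroup.mk fun N hN => ?_
  rcases hM.eq_bot_or_eq_top_of_normal (N.subgroupOf M) inferInstance with h | h
  · left
    have hinj : Function.Injective ((QuotientGroup.mk' N).comp M.subtype) := by
      rw [← MonoidHom.ker_eq_bot_iff, ← MonoidHom.comap_ker, QuotientGroup.ker_mk']
      exact h
    have hd : Nat.card N ∣ m := by
      have hMQ : Nat.card M ∣ Nat.card (G ⧸ N) := by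
        rw [Nat.card_congr (MonoidHom.ofInjective hinj).toEquiv]
        exact Subgroup.card_subgroup_dvd_card _
      have h1 := Subgroup.card_eq_card_quotient_mul_card_subgroup N
      obtain ⟨c, hc⟩ := hMQ
      rw [hc, hcard, mul_assoc] at h1
      exact ⟨c, by rw [Nat.eq_of_mul_eq_mul_left Nat.card_pos h1, mul_comm]⟩
    have hle := normal_le_centralizer (q := q) (hg ▸ pow_orderOf_eq_one g) N
      (fun hd' => hqm (hd'.trans hd)) (hsep.mono hd)
    refine (Subgroup.eq_bot_iff_forall N).2 fun n hn => ?_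
    have hnM : n ∈ M := hC n (by
      rw [mul_assoc, ← Subgroup.mem_centralizer_singleton_iff.1 (hle hn), inv_mul_cancel_left]
      exact Subgroup.mem_zpowers g)
    have h2 : (⟨n, hnM⟩ : M) ∈ N.subgroupOf M := hn
    rw [h, Subgroup.mem_bot] at h2
    exact congrArg Subtype.val h2
  · right
    have hMN : M ≤ N := Subgroup.subgroupOf_eq_top.1 h
    have : Fact q.Prime := hq
    have hgz : IsPGroup q (Subgroup.zpowers (⟨g, hMN hgM⟩ : N)) :=
      IsPGroup.of_card (n := 1) (by rw [Nat.card_zpowers, Subgroup.orderOf_mk, hg, pow_one])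
    obtain ⟨P, hP⟩ := hgz.exists_le_sylow
    have hPeq : (P : Subgroup N).map N.subtype = Subgroup.zpowers g := by
      refine (Subgroup.eq_of_le_of_card_ge ?_ ?_).symm
      · rw [Subgroup.zpowers_le]
        exact ⟨_, hP (Subgroup.mem_zpowers _), rfl⟩
      · rw [Subgroup.card_map_of_injective N.subtype_injective, P.card_eq_multiplicity,
          Nat.card_zpowers, hg]
        have hle : (Nat.card N).factorization q ≤ 1 := by
          by_contra h1
          exact hq2 ((pow_dvd_pow q (by omega)).trans ((Nat.ordProj_dvd _ q).trans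
            (Subgroup.card_subgroup_dvd_card N)))
        exact (Nat.pow_le_pow_right hq.out.pos hle).trans_eq (pow_one q)
    have hfr := Sylow.normalizer_sup_eq_top P
    rw [hPeq] at hfr
    refine top_le_iff.1 (hfr ▸ sup_le (fun n hn => hMN (hC n ?_)) le_rfl)
    have h1 := (Subgroup.mem_normalizer_iff''.1 hn g).1 (Subgroup.mem_zpowers g)
    exact h1

end CfsgLib.GolayStructure
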