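/-
Simplicity and orders of the stabiliser of a vector of squared length 48 and of the two
triangles.
-/
import Cfsg.Agent.Lib.GolayStructure.ConwayOrbit
import Cfsg.Agent.Lib.GolayStructure.SimpleCriterion

set_option autoImplicit false

namespace CfsgLib.GolayStructure

open Cfsg CfsgLib.Leech CfsgLib.Fischer2
open scoped Pointwise Classical

theorem permAut_mem_zpowers_of_val {H : Subgroup Co0} {g h : H}
    (hn : h⁻¹ * g * h ∈ Subgroup.zpowers g) :
    (h : Co0)⁻¹ * (g : Co0) * (h : Co0) ∈ Subgroup.zpowers (g : Co0) := by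
  obtain ⟨j, hj⟩ := Subgroup.mem_zpowers_iff.1 hn
  exact Subgroup.mem_zpowers_iff.2 ⟨j, by simpa using congrArg Subtype.val hj⟩

/-- The stabiliser of `vecU` is simple. -/
theorem isSimpleGroup_coThreeGroup : IsSimpleGroup coThreeGroup := by
  have := finite_Co0
  have : Fact (Nat.Prime 23) := ⟨by norm_num⟩
  have := CfsgLib.Golay.isSimpleGroup_point (none : GolayPt)
  let g : coThreeGroup := pointHom ⟨shiftOne, shiftOne_none⟩
  refine isSimpleGroup_of_prime_normalizer (M := pointHom.range) (q := 23) (m := 48600) (g := g)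
    (isSimpleGroup_of_mulEquiv' (MonoidHom.ofInjective pointHom_injective)) ⟨_, rfl⟩ ?_ ?_ ?_
    (by norm_num) (by rw [natCard_coThreeGroup]; norm_num) ?_
  · rw [← Subgroup.orderOf_coe]
    exact orderOf_permAut_shiftOne
  · intro h hn
    obtain ⟨σ, hσ, e⟩ := coThree_normalizer h.2 (permAut_mem_zpowers_of_val hn)
    exact ⟨⟨σ, hσ⟩, Subtype.ext e.symm⟩
  · rw [natCard_coThreeGroup, ← Nat.card_congr (MonoidHom.ofInjective pointHom_injective).toEquiv,
      CfsgLib.Golay.card_stabilizer_point]
  · exact separatesPowers_of_list [(2, 3), (3, 5), (5, 2)] (by norm_num)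
      (by simp [Nat.prime_two, Nat.prime_three, Nat.prime_five]) (by decide) (by decide)

/-- The triangle stabilisers are simple, given their orders. -/
theorem isSimpleGroup_triGroup {y : leechLattice} (hy : IsBaseSign y) {m : ℕ} (hm : ¬ 11 ∣ m)
    (hcard : Nat.card (triGroup y) = 443520 * m) (h11 : ¬ 11 ^ 2 ∣ 443520 * m)
    (hsep : SeparatesPowers 11 m) : IsSimpleGroup (triGroup y) := by
  have := finite_Co0
  have : Fact (Nat.Prime 11) := ⟨by norm_num⟩
  have := CfsgLib.Golay.isSimpleGroup_two ptP_ne_ptQ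
  obtain ⟨a, ha, ha11⟩ := exists_orderOf (H := baseFix) 11
    (by rw [CfsgLib.Golay.card_stabilizer_two ptP_ne_ptQ]; norm_num)
  let g : triGroup y := duadHom hy ⟨a, ha⟩
  refine isSimpleGroup_of_prime_normalizer (M := (duadHom hy).range) (q := 11) (m := m) (g := g)
    (isSimpleGroup_of_mulEquiv' (MonoidHom.ofInjective (duadHom_injective hy))) ⟨_, rfl⟩
    ?_ ?_ ?_ hm (by rw [hcard]; exact h11) hsep
  · rw [orderOf_injective (duadHom hy) (duadHom_injective hy), Subgroup.orderOf_mk, ha11]
  · intro h hn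
    obtain ⟨σ, hσ, e⟩ := tri_normalizer hy ha ha11 h.2 (permAut_mem_zpowers_of_val hn)
    exact ⟨⟨σ, hσ⟩, Subtype.ext e.symm⟩
  · rw [hcard, ← Nat.card_congr (MonoidHom.ofInjective (duadHom_injective hy)).toEquiv,
      CfsgLib.Golay.card_stabilizer_two ptP_ne_ptQ]

theorem dot_vecU_baseP : dotInt (coordVec vecU) (coordVec baseP) = 24 := by
  rw [dot_baseP, coordVec_vecU, coordVec_vecU]
  simp [ptP, ptQ]

theorem sub_baseP_facts : sqNorm (coordVec (vecU - baseP)) = 32 ∧
    dotInt (coordVec baseP) (coordVec (vecU - baseP)) = -8 := by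
  have h1 := dot_vecU_baseP
  have h2 := sqNorm_vecU
  have h3 := sqNorm_baseP
  simp only [coordVec, AddSubgroup.coe_sub] at *
  refine ⟨by rw [sqNorm_sub, h2, h1, h3]; norm_num, ?_⟩
  rw [sub_eq_add_neg, dotInt_add_right, dotInt_neg_right, dotInt_comm', h1, dotInt_self, h3]
  norm_num

/-- The stabiliser of a triangle of type 2-2-3 as an intersection. -/
theorem triGroup_baseP_eq :
    triGroup baseP = MulAction.stabilizer Co0 baseP ⊓ MulAction.stabilizer Co0 (vecU - baseP) := by
  ext g
  simp only [Subgroup.mem_inf, MulAction.mem_stabilizer_iff]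
  constructor
  · rintro ⟨hu, hp⟩
    refine ⟨hp, ?_⟩
    have h := smul_add_co0 g (vecU - baseP) baseP
    rw [sub_add_cancel, hu, hp] at h
    exact (eq_sub_of_add_eq h.symm).symm ▸ rfl
  · rintro ⟨hp, hq⟩
    refine ⟨?_, hp⟩
    have h := smul_add_co0 g (vecU - baseP) baseP
    rw [sub_add_cancel, hq, hp, sub_add_cancel] at h
    exact h

theorem natCard_triGroup_baseP : Nat.card (triGroup baseP) = 898128000 := by
  rw [triGroup_baseP_eq]
  have h := ncard_orbitSet_mul coTwoGroup (vecU - baseP)
  rw [natCard_coTwoGroup] at h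
  have hO : orbitSet coTwoGroup (vecU - baseP) =
      {w : leechLattice | sqNorm (coordVec w) = 32 ∧ dotInt (coordVec baseP) (coordVec w) = -8} := by
    obtain ⟨hn, hd⟩ := sub_baseP_facts
    refine Set.Subset.antisymm ?_ fun w hw => ?_
    · rintro w ⟨k, hk, rfl⟩
      refine ⟨by rw [sqNorm_smul', hn], ?_⟩
      have h1 := CfsgLib.Leech.dotInt_smul k baseP (vecU - baseP)
      rw [show k • baseP = baseP from hk] at h1
      exact h1.trans hd
    · obtain ⟨k, hk1, hk2⟩ := pair_transitive sqNorm_baseP hn sqNorm_baseP hw.1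
        (Or.inr (Or.inl rfl)) hd hw.2
      exact ⟨k, hk1, hk2⟩
  have hc := ncard_dots_base32 (v := baseP) sqNorm_baseP [-8] (by decide) (tb := [120])
    (by decide) [47104] rfl (by decide) (by decide +kernel)
  simp only [List.map_cons, List.map_nil, List.cons.injEq, and_true] at hc
  rw [hO, hc] at h
  change 47104 * Nat.card
    ↥(MulAction.stabilizer Co0 baseP ⊓ MulAction.stabilizer Co0 (vecU - baseP)) = _ at h
  omega

theorem natCard_triGroup_baseM : Nat.card (triGroup baseM) = 44352000 := by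
  have h := ncard_orbitSet_mul coThreeGroup baseM
  rw [orbitSet_dotSixteen, ncard_pieceU.2, natCard_coThreeGroup] at h
  change 11178 * Nat.card (triGroup baseM) = _ at h
  omega

theorem isSimpleGroup_triGroup_baseP : IsSimpleGroup (triGroup baseP) :=
  isSimpleGroup_triGroup (Or.inl rfl) (m := 2025) (by norm_num) natCard_triGroup_baseP
    (by norm_num) (separatesPowers_of_list [(3, 4), (5, 2)] (by norm_num)
      (by simp [Nat.prime_three, Nat.prime_five]) (by decide) (by decide))

theorem isSimpleGroup_triGroup_baseM : IsSimpleGroup (triGroup baseM) :=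
  isSimpleGroup_triGroup (Or.inr rfl) (m := 100) (by norm_num) natCard_triGroup_baseM
    (by norm_num) (separatesPowers_of_list [(2, 2), (5, 2)] (by norm_num)
      (by simp [Nat.prime_two, Nat.prime_five]) (by decide) (by decide))

theorem stabilizer_pair_smul (g : Co0) (a b : leechLattice) :
    MulAction.stabilizer Co0 (g • a) ⊓ MulAction.stabilizer Co0 (g • b) =
      (MulAction.stabilizer Co0 a ⊓ MulAction.stabilizer Co0 b).map
        (MulAut.conj g).toMonoidHom := by
  ext k
  simp only [Subgroup.mem_map_equiv, Subgroup.mem_inf, MulAction.mem_stabilizer_iff,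
    MulAut.conj_symm_apply, mul_smul, inv_smul_eq_iff]

/-- Transport along the group. -/
theorem simple_card_of_smul {n : ℕ} {a b v w : leechLattice} {g : Co0} (ha : g • a = v)
    (hb : g • b = w)
    (h : IsSimpleGroup ↥(MulAction.stabilizer Co0 a ⊓ MulAction.stabilizer Co0 b))
    (hc : Nat.card ↥(MulAction.stabilizer Co0 a ⊓ MulAction.stabilizer Co0 b) = n) :
    IsSimpleGroup ↥(MulAction.stabilizer Co0 v ⊓ MulAction.stabilizer Co0 w) ∧
      Nat.card ↥(MulAction.stabilizer Co0 v ⊓ MulAction.stabilizer Co0 w) = n := by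
  have e := ((MulAction.stabilizer Co0 a ⊓ MulAction.stabilizer Co0 b).equivMapOfInjective
    (MulAut.conj g).toMonoidHom (MulAut.conj g).injective).trans
    (MulEquiv.subgroupCongr (stabilizer_pair_smul g a b).symm)
  subst ha hb
  have := h
  exact ⟨isSimpleGroup_of_mulEquiv' e, by rw [← hc]; exact (Nat.card_congr e.toEquiv).symm⟩

theorem coThree_simple_order {v : leechLattice} (hv : sqNorm (coordVec v) = 48) :
    IsSimpleGroup (MulAction.stabilizer Co0 v) ∧
      Nat.card (MulAction.stabilizer Co0 v) = 495766656000 := by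
  obtain ⟨g, hg⟩ := transitive_norm48 sqNorm_vecU hv
  have e : MulAction.stabilizer Co0 v ≃* coThreeGroup :=
    MulAction.stabilizerEquivStabilizer (g := g⁻¹) (show vecU = g⁻¹ • v by rw [← hg, inv_smul_smul])
  have := isSimpleGroup_coThreeGroup
  exact ⟨isSimpleGroup_of_mulEquiv' e.symm, by
    rw [← natCard_coThreeGroup]; exact Nat.card_congr e.toEquiv⟩

theorem mcl_simple_order {v w : leechLattice} (hv : sqNorm (coordVec v) = 32)
    (hw : sqNorm (coordVec w) = 32) (hvw : dotInt (coordVec v) (coordVec w) = -8) :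
    IsSimpleGroup ↥(MulAction.stabilizer Co0 v ⊓ MulAction.stabilizer Co0 w) ∧
      Nat.card ↥(MulAction.stabilizer Co0 v ⊓ MulAction.stabilizer Co0 w) = 898128000 := by
  obtain ⟨hn, hd⟩ := sub_baseP_facts
  obtain ⟨g, g1, g2⟩ := pair_transitive sqNorm_baseP hn hv hw (Or.inr (Or.inl rfl)) hd hvw
  have h := isSimpleGroup_triGroup_baseP
  have hc := natCard_triGroup_baseP
  rw [triGroup_baseP_eq] at h hc
  exact simple_card_of_smul g1 g2 h hc

theorem hs_simple_order {v w : leechLattice} (hv : sqNorm (coordVec v) = 48)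
    (hw : sqNorm (coordVec w) = 48) (hvw : dotInt (coordVec v) (coordVec w) = -32) :
    IsSimpleGroup ↥(MulAction.stabilizer Co0 v ⊓ MulAction.stabilizer Co0 w) ∧
      Nat.card ↥(MulAction.stabilizer Co0 v ⊓ MulAction.stabilizer Co0 w) = 44352000 := by
  have hx : sqNorm (coordVec (v + w)) = 32 ∧ dotInt (coordVec v) (coordVec (v + w)) = 16 := by
    simp only [coordVec, AddSubgroup.coe_add] at *
    constructor
    · have h := sqNorm_sub (v : GolayPt → ℤ) (-(w : GolayPt → ℤ))
      rw [sub_neg_eq_add, dotInt_neg_right, hvw, hv] at h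
      have h' : sqNorm (-(w : GolayPt → ℤ)) = 48 := by simpa [sqNorm] using hw
      rw [h'] at h
      rw [h]
      norm_num
    · rw [dotInt_add_right, dotInt_self, hv, hvw]
      norm_num
  obtain ⟨g, hg⟩ := transitive_norm48 hv sqNorm_vecU
  have hmem : g • (v + w) ∈ dotSixteen := by
    refine ⟨by rw [sqNorm_smul', hx.1], ?_⟩
    rw [← hg]
    exact (CfsgLib.Leech.dotInt_smul g v (v + w)).trans hx.2
  rw [← orbitSet_dotSixteen] at hmem
  obtain ⟨k, hk, hke⟩ := hmem
  have hk' : k • vecU = vecU := hk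
  have ha : (g⁻¹ * k) • vecU = v := by rw [mul_smul, hk', ← hg, inv_smul_smul]
  have hb : (g⁻¹ * k) • baseM = v + w := by rw [mul_smul, hke, inv_smul_smul]
  obtain ⟨h1, h2⟩ := simple_card_of_smul ha hb isSimpleGroup_triGroup_baseM natCard_triGroup_baseM
  have heq : MulAction.stabilizer Co0 v ⊓ MulAction.stabilizer Co0 w =
      MulAction.stabilizer Co0 v ⊓ MulAction.stabilizer Co0 (v + w) := by
    ext x
    simp only [Subgroup.mem_inf, MulAction.mem_stabilizer_iff]
    refine and_congr_right fun hxv => ?_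
    rw [smul_add_co0, hxv, add_right_inj]
  rw [heq]
  exact ⟨h1, h2⟩

end CfsgLib.GolayStructure
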