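/-
Certificates for the stabiliser of the base sextet; everything is checked by the kernel.
-/
import Mathlib

set_option autoImplicit false

namespace CfsgLib.GolayStructure

/-- The member masks of the base sextet. -/
def sextetMasks : List ℕ := [8536096, 15, 5264, 622848, 3416064, 4196928]

/-- Lifts of the transpositions of the first member with the others. -/
def sextetSwaps : List (ℕ × ℕ) := [
  (15107252125872495812202953923148517, 53978480266435127895577177301140663),
  (513577571313357034746744278594158689, 427904673031477872318286782415277058),
  (679446087403941677181014127350384675, 679446087403941677181014127350384675),
  (860265233417387604857875864783749217, 901096255730341098334402962892295170),
  (392853138089927188379349775678538816, 271852093586393266076121031711491136)]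

/-- The tables of the kernel chain. -/
def sextetLevels : List (ℕ × List ℕ × List (ℕ × ℕ)) := [
  (5, [], [
    (984818244535754528103549039458486304, 984818244535754528103549039458486304),
    (222805584129557923538772899940797474, 593977481598383140254181163184226339),
    (220131672262730592394930279575227456, 721265923637707385844196286616634464),
    (714697106770760535845077733481647138, 222524165936570818835595172700553251)]),
  (0, [], [
    (984818244535754528103549039458486304, 984818244535754528103549039458486304),
    (610963881031741312530500398477312065, 735585295266475675969640825324930050),
    (735585295266475675969640825324930050, 610963881031741312530500398477312065),
    (967943160906634882443693203669386307, 967943160906634882443693203669386307)]),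
  (4, [], [
    (984818244535754528103549039458486304, 984818244535754528103549039458486304),
    (596572353935438013790207072067978336, 718388515578486850668874540922211392),
    (610649461593716816512104421633623136, 735538121081885229971598402105936960),
    (718388515578486850668874540922211392, 596572353935438013790207072067978336)]),
  (14, [10558], [
    (984818244535754528103549039458486304, 984818244535754528103549039458486304),
    (594054690913236819002859734329001056, 714698224992095160392432169783430208),
    (714698224992095160392432169783430208, 594054690913236819002859734329001056)])]

/-- The rigidity certificate of the kernel chain. -/
def sextetFinal : List ℕ := [10558, 18147, 36294, 69395, 133817, 262637, 1050548]

/-- Six commuting involutions spanning the normal subgroup of order 64. -/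
def sextetSix : List (ℕ × ℕ) := [
  (967616069900692509306086327477895266, 967616069900692509306086327477895266),
  (970408745037899174542809581725223937, 970408745037899174542809581725223937),
  (967812279691448225500382947153381408, 967812279691448225500382947153381408),
  (963721886883755259286232606933354528, 963721886883755259286232606933354528),
  (590072960059042287979885064796342304, 590072960059042287979885064796342304),
  (720981692062171673584743151055243296, 720981692062171673584743151055243296)]

end CfsgLib.GolayStructure
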