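/-
The two-point stabiliser of the code group has no subgroups of index 56 or 210.
-/
import Cfsg.Agent.Lib.GolayStructure.CrossPieces
import Cfsg.Agent.Lib.Mathieu.Order7920.Three220

set_option autoImplicit false

namespace CfsgLib.GolayStructure

open Cfsg CfsgLib.Golay
open scoped Pointwise Classical

theorem card_stabilizer_three {p q x : GolayPt} (hpq : p ≠ q) (hxp : x ≠ p) (hxq : x ≠ q) :
    Nat.card ↥(MulAction.stabilizer M24 p ⊓ MulAction.stabilizer M24 q ⊓
      MulAction.stabilizer M24 x) = 20160 := by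
  obtain ⟨w, -, hw⟩ := Finset.exists_mem_notMem_of_card_lt_card
    (s := ({p, q, x} : Finset GolayPt)) (t := Finset.univ) (by
      rw [card_univ_golayPt]; exact lt_of_le_of_lt Finset.card_le_three (by norm_num))
  simp only [Finset.mem_insert, Finset.mem_singleton, not_or] at hw
  have horb : subOrb (MulAction.stabilizer M24 p ⊓ MulAction.stabilizer M24 q) x =
      ((Finset.univ : Finset GolayPt).erase p).erase q := by
    ext z
    simp only [mem_subOrb, Finset.mem_erase, Finset.mem_univ, and_true]
    constructor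
    · rintro ⟨h, ⟨h1, h2⟩, rfl⟩
      exact ⟨fun e => hxq (MulAction.injective h (e.trans h2.symm)),
        fun e => hxp (MulAction.injective h (e.trans h1.symm))⟩
    · rintro ⟨hzq, hzp⟩
      obtain ⟨v, -, hv⟩ := Finset.exists_mem_notMem_of_card_lt_card
        (s := ({p, q, z} : Finset GolayPt)) (t := Finset.univ) (by
          rw [card_univ_golayPt]; exact lt_of_le_of_lt Finset.card_le_three (by norm_num))
      simp only [Finset.mem_insert, Finset.mem_singleton, not_or] at hv
      obtain ⟨g, hg, gp, gq, gx, -⟩ := exists_M24_quad (a := p) (b := q) (c := x) (d := w)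
        (a' := p) (b' := q) (c' := z) (d' := v)
        (by simp [hpq, Ne.symm hxp, Ne.symm hxq, Ne.symm hw.1, Ne.symm hw.2.1, Ne.symm hw.2.2])
        (by simp [hpq, Ne.symm hzp, Ne.symm hzq, Ne.symm hv.1, Ne.symm hv.2.1, Ne.symm hv.2.2])
      exact ⟨⟨g, hg⟩, ⟨gp, gq⟩, gx⟩
  have h := card_subOrb_mul (MulAction.stabilizer M24 p ⊓ MulAction.stabilizer M24 q) x
  rw [horb, card_stabilizer_two hpq, Finset.card_erase_of_mem
      (Finset.mem_erase.2 ⟨hpq.symm, Finset.mem_univ _⟩),
    Finset.card_erase_of_mem (Finset.mem_univ _), card_univ_golayPt] at h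
  omega

theorem card_stabilizer_four {p q x y : GolayPt} (hn : [p, q, x, y].Nodup) :
    Nat.card ↥(MulAction.stabilizer M24 p ⊓ MulAction.stabilizer M24 q ⊓
      MulAction.stabilizer M24 x ⊓ MulAction.stabilizer M24 y) = 960 := by
  have hn' := hn
  simp only [List.nodup_cons, List.mem_cons, List.not_mem_nil, or_false, not_or, not_false_eq_true,
    List.nodup_nil, and_true] at hn'
  obtain ⟨⟨hpq, hpx, hpy⟩, ⟨hqx, hqy⟩, hxy⟩ := hn'
  have horb : subOrb (MulAction.stabilizer M24 p ⊓ MulAction.stabilizer M24 q ⊓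
      MulAction.stabilizer M24 x) y =
      (((Finset.univ : Finset GolayPt).erase p).erase q).erase x := by
    ext z
    simp only [mem_subOrb, Finset.mem_erase, Finset.mem_univ, and_true]
    constructor
    · rintro ⟨h, ⟨⟨h1, h2⟩, h3⟩, rfl⟩
      exact ⟨fun e => hxy (MulAction.injective h (h3.trans e.symm)),
        fun e => hqy (MulAction.injective h (h2.trans e.symm)),
        fun e => hpy (MulAction.injective h (h1.trans e.symm))⟩
    · rintro ⟨hzx, hzq, hzp⟩
      obtain ⟨g, hg, gp, gq, gx, gy⟩ := exists_M24_quad (a := p) (b := q) (c := x) (d := y)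
        (a' := p) (b' := q) (c' := x) (d' := z) hn
        (by simp [hpq, hpx, hqx, Ne.symm hzx, Ne.symm hzq, Ne.symm hzp])
      exact ⟨⟨g, hg⟩, ⟨⟨gp, gq⟩, gx⟩, gy⟩
  have h := card_subOrb_mul (MulAction.stabilizer M24 p ⊓ MulAction.stabilizer M24 q ⊓
      MulAction.stabilizer M24 x) y
  rw [horb, card_stabilizer_three hpq (Ne.symm hpx) (Ne.symm hqx), Finset.card_erase_of_mem
      (Finset.mem_erase.2 ⟨Ne.symm hqx, Finset.mem_erase.2 ⟨Ne.symm hpx, Finset.mem_univ _⟩⟩),
    Finset.card_erase_of_mem (Finset.mem_erase.2 ⟨Ne.symm hpq, Finset.mem_univ _⟩),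
    Finset.card_erase_of_mem (Finset.mem_univ _), card_univ_golayPt] at h
  omega

/-- A subgroup whose order is a multiple of nine moves invariant sets in multiples of three. -/
theorem three_dvd_card_invariant {p q x : GolayPt} (hpq : p ≠ q) (hxp : x ≠ p) (hxq : x ≠ q)
    {K : Subgroup M24}
    (hK : K ≤ MulAction.stabilizer M24 p ⊓ MulAction.stabilizer M24 q ⊓ MulAction.stabilizer M24 x)
    (h9 : 9 ∣ Nat.card K) (S : Finset GolayPt) (hS : ∀ h ∈ K, ∀ y ∈ S, h • y ∈ S)
    (hout : ∀ y ∈ S, y ≠ p ∧ y ≠ q ∧ y ≠ x) : 3 ∣ S.card := by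
  rw [← Finset.card_biUnion (s := S.image (subOrb K)) (t := id) ?_ |>.symm.trans (congrArg _ ?_)]
  · refine Finset.dvd_sum fun O hO => ?_
    obtain ⟨y, hy, rfl⟩ := Finset.mem_image.1 hO
    obtain ⟨hyp, hyq, hyx⟩ := hout y hy
    have h4 := card_stabilizer_four (p := p) (q := q) (x := x) (y := y)
      (by simp [hpq, Ne.symm hxp, Ne.symm hxq, Ne.symm hyp, Ne.symm hyq, Ne.symm hyx])
    have hd : Nat.card ↥(K ⊓ MulAction.stabilizer M24 y) ∣ 960 :=
      h4 ▸ Subgroup.card_dvd_of_le (inf_le_inf_right _ hK)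
    by_contra h3
    have hcop : Nat.Coprime 9 (subOrb K y).card := by
      have := ((Nat.prime_three).coprime_iff_not_dvd).2 h3
      exact Nat.Coprime.pow_left 2 this
    have h := hcop.dvd_of_dvd_mul_left (card_subOrb_mul K y ▸ h9)
    exact absurd (h.trans hd) (by norm_num)
  · intro A hA B hB hne
    obtain ⟨a, -, rfl⟩ := Finset.mem_image.1 hA
    obtain ⟨b, -, rfl⟩ := Finset.mem_image.1 hB
    exact Finset.disjoint_left.2 fun z ha hb =>
      hne ((subOrb_eq_of_mem ha).symm.trans (subOrb_eq_of_mem hb))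
  · ext z
    simp only [Finset.mem_biUnion, Finset.mem_image, id]
    refine ⟨?_, fun hz => ⟨_, ⟨z, hz, rfl⟩, self_mem_subOrb K z⟩⟩
    rintro ⟨_, ⟨a, ha, rfl⟩, hz⟩
    obtain ⟨h, hh, rfl⟩ := mem_subOrb.1 hz
    exact hS h hh a ha

/-- The fixed points of an element of order 11 fixing two points. -/
theorem eleven_fixed {p q : GolayPt} (hpq : p ≠ q) {g : M24}
    (hg : g ∈ MulAction.stabilizer M24 p ⊓ MulAction.stabilizer M24 q) (ho : orderOf g = 11)
    {z : GolayPt} (hz : g • z = z) : z = p ∨ z = q := by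
  have h2 := fixed_card (p := 11) (r := 2) (Or.inr (Or.inr ⟨rfl, rfl⟩)) ho
  have hsub : ({p, q} : Finset GolayPt) ⊆ Finset.univ.filter fun y => g • y = y := by
    intro y hy
    simp only [Finset.mem_insert, Finset.mem_singleton] at hy
    refine Finset.mem_filter.2 ⟨Finset.mem_univ _, ?_⟩
    rcases hy with rfl | rfl
    · exact hg.1
    · exact hg.2
  have heq := Finset.eq_of_subset_of_card_le hsub (by rw [h2, Finset.card_pair hpq])
  have hm : z ∈ ({p, q} : Finset GolayPt) := by
    rw [heq]; exact Finset.mem_filter.2 ⟨Finset.mem_univ _, hz⟩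
  simpa using hm

/-- The normaliser of a subgroup of order 11 fixing two points. -/
theorem card_normalizer_eleven_dvd {p q : GolayPt} (hpq : p ≠ q) {H : Subgroup M24}
    (hH : H ≤ MulAction.stabilizer M24 p ⊓ MulAction.stabilizer M24 q)
    (h121 : ¬ 121 ∣ Nat.card H) (P : Subgroup H) (hP : Nat.card P = 11) :
    Nat.card (Subgroup.normalizer (P : Set H)) ∣ 220 := by
  have : Fact (Nat.Prime 11) := ⟨by norm_num⟩
  set C := Subgroup.centralizer (P : Set H) with hC
  set N := Subgroup.normalizer (P : Set H) with hN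
  have hCN : C ≤ N := Subgroup.centralizer_le_normalizer _
  have hidx : Nat.card N ∣ Nat.card C * 10 := by
    have hcy : IsCyclic P := isCyclic_of_prime_card hP
    have hker : Nat.card P.normalizerMonoidHom.ker = Nat.card C := by
      rw [Subgroup.normalizerMonoidHom_ker]
      exact Nat.card_congr (Subgroup.subgroupOfEquivOfLe hCN).toEquiv
    have h1 := Subgroup.card_mul_index P.normalizerMonoidHom.ker
    rw [Subgroup.index_ker, hker] at h1
    rw [hN, ← h1]
    refine Nat.mul_dvd_mul_left _ ((Subgroup.card_subgroup_dvd_card _).trans ?_)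
    rw [IsCyclic.card_mulAut, hP, Nat.totient_prime (by norm_num)]
  obtain ⟨g, hg⟩ := exists_prime_orderOf_dvd_card' (G := P) 11 (by rw [hP])
  have hgo : orderOf ((g : H) : M24) = 11 := by
    rw [Subgroup.orderOf_coe, Subgroup.orderOf_coe, hg]
  have hgH := hH (g : H).2
  set a : M24 := ((g : H) : M24)
  have hfix : ∀ z, a • z = z → z = p ∨ z = q := fun z => eleven_fixed hpq hgH hgo
  obtain ⟨x, -, hx⟩ := Finset.exists_mem_notMem_of_card_lt_card
    (s := ({p, q} : Finset GolayPt)) (t := Finset.univ) (by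
      rw [card_univ_golayPt]; exact lt_of_le_of_lt Finset.card_le_two (by norm_num))
  simp only [Finset.mem_insert, Finset.mem_singleton, not_or] at hx
  have horb : ∀ y, y ≠ p → y ≠ q → (subOrb (Subgroup.zpowers a) y).card = 11 := by
    intro y hyp hyq
    have h := card_subOrb_dvd (Subgroup.zpowers a) y
    rw [Nat.card_zpowers, hgo, Nat.dvd_prime (by norm_num)] at h
    refine h.resolve_left fun h1 => ?_
    have h2 : a • y = y := Finset.card_le_one.1 h1.le _
      (mem_subOrb.2 ⟨a, Subgroup.mem_zpowers a, rfl⟩) _ (self_mem_subOrb _ _)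
    rcases hfix y h2 with e | e
    · exact hyp e
    · exact hyq e
  set O := subOrb (Subgroup.zpowers a) x with hO
  have hO11 : O.card = 11 := horb x hx.1 hx.2
  set O' := (((Finset.univ : Finset GolayPt).erase p).erase q) \ O with hO'
  have hOsub : O ⊆ ((Finset.univ : Finset GolayPt).erase p).erase q := by
    intro y hy
    obtain ⟨h, hh, rfl⟩ := mem_subOrb.1 hy
    have hh' : h ∈ MulAction.stabilizer M24 p ⊓ MulAction.stabilizer M24 q :=
      (Subgroup.zpowers_le.2 hgH) hh
    simp only [Finset.mem_erase, Finset.mem_univ, and_true]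
    exact ⟨fun e => hx.2 (MulAction.injective h (e.trans hh'.2.symm)),
      fun e => hx.1 (MulAction.injective h (e.trans hh'.1.symm))⟩
  have hO'11 : O'.card = 11 := by
    rw [hO', Finset.card_sdiff_of_subset hOsub, hO11,
      Finset.card_erase_of_mem (Finset.mem_erase.2 ⟨hpq.symm, Finset.mem_univ _⟩),
      Finset.card_erase_of_mem (Finset.mem_univ _), card_univ_golayPt]
  have hself : ∀ y ∈ O', subOrb (Subgroup.zpowers a) y = O' := by
    intro y hy
    simp only [hO', Finset.mem_sdiff, Finset.mem_erase, Finset.mem_univ, and_true] at hy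
    refine Finset.eq_of_subset_of_card_le (fun z hz => ?_) (by
      rw [hO'11, horb y hy.1.2 hy.1.1])
    obtain ⟨h, hh, rfl⟩ := mem_subOrb.1 hz
    have hh' : h ∈ MulAction.stabilizer M24 p ⊓ MulAction.stabilizer M24 q :=
      (Subgroup.zpowers_le.2 hgH) hh
    simp only [hO', Finset.mem_sdiff, Finset.mem_erase, Finset.mem_univ, and_true]
    refine ⟨⟨fun e => hy.1.1 (MulAction.injective h (e.trans hh'.2.symm)),
      fun e => hy.1.2 (MulAction.injective h (e.trans hh'.1.symm))⟩, fun hm => hy.2 ?_⟩
    rw [hO] at hm ⊢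
    obtain ⟨k, hk, he⟩ := mem_subOrb.1 hm
    exact mem_subOrb.2 ⟨h⁻¹ * k, mul_mem (inv_mem hh) hk, by rw [mul_smul, he, inv_smul_smul]⟩
  -- a commuting element moving `x` inside its orbit has order dividing 11
  have hkey : ∀ y : M24, Commute y a →
      y ∈ MulAction.stabilizer M24 p ⊓ MulAction.stabilizer M24 q →
      y • x ∈ O → y ^ 11 = 1 := by
    intro y hc hypq hyx
    have hpow : ∀ z, y • z ∈ subOrb (Subgroup.zpowers a) z → y ^ 11 • z = z := by
      intro z hz
      obtain ⟨h, hh, he⟩ := mem_subOrb.1 hz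
      obtain ⟨i, rfl⟩ := Subgroup.mem_zpowers_iff.1 hh
      have hci : Commute y (a ^ i) := hc.zpow_right i
      have hn : ∀ n : ℕ, y ^ n • z = (a ^ i) ^ n • z := by
        intro n
        induction n with
        | zero => rw [pow_zero, pow_zero]
        | succ n ih =>
          rw [pow_succ', mul_smul, ih, ← mul_smul, ((hci.pow_right n)).eq, mul_smul, ← he,
            ← mul_smul, ← pow_succ]
      rw [hn, ← zpow_natCast, ← zpow_mul, mul_comm, zpow_mul, zpow_natCast,
        show a ^ 11 = 1 from hgo ▸ pow_orderOf_eq_one a, one_zpow, one_smul]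
    have hshift : ∀ z ∈ O, y • z ∈ O := by
      intro z hz
      obtain ⟨h, hh, rfl⟩ := mem_subOrb.1 hz
      obtain ⟨i, rfl⟩ := Subgroup.mem_zpowers_iff.1 hh
      rw [← mul_smul, (hc.zpow_right i).eq, mul_smul]
      exact smul_mem_subOrb hh hyx
    refine Subtype.ext (Equiv.ext fun z => ?_)
    show y ^ 11 • z = z
    by_cases hzp : z = p
    · subst hzp; exact (pow_mem (show y ∈ MulAction.stabilizer M24 z from hypq.1) 11 :)
    by_cases hzq : z = q
    · subst hzq; exact (pow_mem (show y ∈ MulAction.stabilizer M24 z from hypq.2) 11 :)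
    refine hpow z ?_
    by_cases hzO : z ∈ O
    · rw [show subOrb (Subgroup.zpowers a) z = O from subOrb_eq_of_mem hzO]
      exact hshift z hzO
    · have hzO' : z ∈ O' := by simp [hO', hzp, hzq, hzO]
      rw [hself z hzO']
      simp only [hO', Finset.mem_sdiff, Finset.mem_erase, Finset.mem_univ, and_true]
      refine ⟨⟨fun e => hzq (MulAction.injective y (e.trans hypq.2.symm)),
        fun e => hzp (MulAction.injective y (e.trans hypq.1.symm))⟩, fun hm => hzO ?_⟩
      -- `y` permutes the orbit
      have himg : O.image (y • ·) = O := Finset.eq_of_subset_of_card_le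
        (fun w hw => by obtain ⟨v, hv, rfl⟩ := Finset.mem_image.1 hw; exact hshift v hv)
        (by rw [Finset.card_image_of_injective _ (MulAction.injective y)])
      rw [← himg] at hm
      obtain ⟨v, hv, he⟩ := Finset.mem_image.1 hm
      exact MulAction.injective y he ▸ hv
  have hcomm : ∀ y : H, y ∈ C → Commute ((y : H) : M24) a := fun y hy =>
    (congrArg Subtype.val (Subgroup.mem_centralizer_iff.1 hy (g : H) g.2)).symm
  have hins : ∀ y : H, y ∈ C → ∀ z ∈ O', (y : M24) • x = z → ∀ w : H, w ∈ C →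
      (w : M24) • x ∈ O' → ((w⁻¹ * y : H) : M24) • x ∈ O := by
    intro y hy z hz he w hw hwx
    obtain ⟨h, hh, hh2⟩ := mem_subOrb.1 ((hself _ hwx).symm ▸ (he.symm ▸ hz : (y : M24) • x ∈ O'))
    obtain ⟨i, rfl⟩ := Subgroup.mem_zpowers_iff.1 hh
    refine mem_subOrb.2 ⟨a ^ i, hh, ?_⟩
    rw [Subgroup.coe_mul, Subgroup.coe_inv, mul_smul, eq_inv_smul_iff, ← mul_smul,
      ((hcomm w hw).zpow_right i).eq, mul_smul, hh2]
  have hcases : ∀ y : H, y ∈ C → (y : M24) • x ∈ O ∨ (y : M24) • x ∈ O' := by
    intro y hy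
    by_cases hm : (y : M24) • x ∈ O
    · exact Or.inl hm
    · refine Or.inr ?_
      simp only [hO', Finset.mem_sdiff, Finset.mem_erase, Finset.mem_univ, and_true]
      exact ⟨⟨fun e => hx.2 (MulAction.injective (y : M24) (e.trans (hH y.2).2.symm)),
        fun e => hx.1 (MulAction.injective (y : M24) (e.trans (hH y.2).1.symm))⟩, hm⟩
  -- the part of the centraliser preserving the orbit
  let C0 : Subgroup H :=
    { carrier := {y | y ∈ C ∧ (y : M24) • x ∈ O}
      one_mem' := ⟨one_mem C, by rw [OneMemClass.coe_one, one_smul]; exact self_mem_subOrb _ _⟩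
      mul_mem' := fun {y w} hy hw => ⟨mul_mem hy.1 hw.1, by
        rw [Subgroup.coe_mul, mul_smul]
        obtain ⟨h, hh, he⟩ := mem_subOrb.1 hw.2
        obtain ⟨i, rfl⟩ := Subgroup.mem_zpowers_iff.1 hh
        rw [← he, ← mul_smul, ((hcomm y hy.1).zpow_right i).eq, mul_smul]
        exact smul_mem_subOrb hh hy.2⟩
      inv_mem' := fun {y} hy => ⟨inv_mem hy.1, by
        obtain ⟨h, hh, he⟩ := mem_subOrb.1 hy.2
        obtain ⟨i, rfl⟩ := Subgroup.mem_zpowers_iff.1 hh
        refine mem_subOrb.2 ⟨(a ^ i)⁻¹, inv_mem hh, ?_⟩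
        rw [Subgroup.coe_inv, eq_inv_smul_iff, ← mul_smul, ((hcomm y hy.1).zpow_right i).inv_right.eq,
          mul_smul, ← he, inv_smul_smul]⟩ }
  have hC0le : C0 ≤ C := fun y hy => hy.1
  have hC0 : Nat.card C0 ∣ 11 := by
    have hp : IsPGroup 11 C0 := fun y => ⟨1, by
      refine Subtype.ext (Subtype.ext ?_)
      simpa using hkey ((y : H) : M24) (hcomm _ y.2.1) (hH (y : H).2) y.2.2⟩
    obtain ⟨n, hn⟩ := IsPGroup.iff_card.1 hp
    have h11 : 11 ^ n ∣ Nat.card H := hn ▸ Subgroup.card_subgroup_dvd_card C0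
    rcases Nat.lt_or_ge n 2 with h | h
    · rw [hn]; interval_cases n <;> norm_num
    · exact absurd ((pow_dvd_pow 11 h).trans h11) h121
  have hC22 : Nat.card C ∣ 22 := by
    have h := Subgroup.card_mul_index (C0.subgroupOf C)
    rw [Nat.card_congr (Subgroup.subgroupOfEquivOfLe hC0le).toEquiv] at h
    have hi : (C0.subgroupOf C).index ∣ 2 := by
      by_cases hall : ∀ y ∈ C, (y : M24) • x ∈ O
      · have hle : C ≤ C0 := fun y hy => ⟨hy, hall y hy⟩
        rw [Subgroup.subgroupOf_eq_top.2 hle, Subgroup.index_top]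
        norm_num
      · simp only [not_forall] at hall
        obtain ⟨w, hw, hwx⟩ := hall
        have hw' := (hcases w hw).resolve_left hwx
        rw [Subgroup.index_eq_two_iff_exists_notMem_and'.2 ⟨(⟨w, hw⟩ : C)⁻¹, fun hm => ?_,
          fun b => ?_⟩]
        · have hm' : w⁻¹ ∈ C0 := hm
          have hw0 : w ∈ C0 := inv_mem_iff.1 hm'
          exact hwx hw0.2
        · rcases hcases b b.2 with hbO | hbO
          · exact Or.inr ⟨b.2, hbO⟩
          · exact Or.inl ⟨mul_mem (inv_mem hw) b.2, hins b b.2 _ hbO rfl w hw hw'⟩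
    rw [← h]
    exact Nat.mul_dvd_mul hC0 hi
  exact hidx.trans (Nat.mul_dvd_mul_right hC22 10)

/-- No subgroup of order 2112. -/
theorem card_ne_2112 {p q : GolayPt} (hpq : p ≠ q) {H : Subgroup M24}
    (hH : H ≤ MulAction.stabilizer M24 p ⊓ MulAction.stabilizer M24 q) :
    Nat.card H ≠ 2112 := by
  intro hc
  have : Fact (Nat.Prime 11) := ⟨by norm_num⟩
  obtain ⟨P⟩ : Nonempty (Sylow 11 H) := inferInstance
  have hP : Nat.card (P : Subgroup H) = 11 := by
    rw [P.card_eq_multiplicity, hc]
    rw [show (2112 : ℕ) = 11 * 192 by norm_num, Nat.factorization_mul (by norm_num) (by norm_num),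
      Finsupp.add_apply, Nat.Prime.factorization_self (by norm_num),
      Nat.factorization_eq_zero_of_not_dvd (by norm_num)]
    norm_num
  have hN := card_normalizer_eleven_dvd hpq hH (by rw [hc]; norm_num) _ hP
  have h := Subgroup.card_mul_index (Subgroup.normalizer ((P : Subgroup H) : Set H))
  rw [hc, show (Subgroup.normalizer ((P : Subgroup H) : Set H)).index = Nat.card (Sylow 11 H) from
    (Sylow.card_eq_index_normalizer P).symm] at h
  have hmod := card_sylow_modEq_one 11 H
  rw [Nat.ModEq] at hmod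
  generalize Nat.card (Sylow 11 H) = n at h hmod
  generalize Nat.card (Subgroup.normalizer ((P : Subgroup H) : Set H)) = m at h hN
  have hm : m ∈ Nat.divisors 220 := Nat.mem_divisors.2 ⟨hN, by norm_num⟩
  rw [show Nat.divisors 220 = {1, 2, 4, 5, 10, 11, 20, 22, 44, 55, 110, 220} by decide +kernel] at hm
  simp only [Finset.mem_insert, Finset.mem_singleton] at hm
  rcases hm with rfl | rfl | rfl | rfl | rfl | rfl | rfl | rfl | rfl | rfl | rfl | rfl <;> omega

theorem card_sylow_eleven {p q : GolayPt} (hpq : p ≠ q) {H : Subgroup M24}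
    (hH : H ≤ MulAction.stabilizer M24 p ⊓ MulAction.stabilizer M24 q) (hc : Nat.card H = 7920)
    [Fact (Nat.Prime 11)] : Nat.card (Sylow 11 H) = 144 := by
  obtain ⟨P⟩ : Nonempty (Sylow 11 H) := inferInstance
  have hP : Nat.card (P : Subgroup H) = 11 := by
    rw [P.card_eq_multiplicity, hc]
    rw [show (7920 : ℕ) = 11 * 720 by norm_num, Nat.factorization_mul (by norm_num) (by norm_num),
      Finsupp.add_apply, Nat.Prime.factorization_self (by norm_num),
      Nat.factorization_eq_zero_of_not_dvd (by norm_num)]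
    norm_num
  have hN := card_normalizer_eleven_dvd hpq hH (by rw [hc]; norm_num) _ hP
  have h := Subgroup.card_mul_index (Subgroup.normalizer ((P : Subgroup H) : Set H))
  rw [hc, show (Subgroup.normalizer ((P : Subgroup H) : Set H)).index = Nat.card (Sylow 11 H) from
    (Sylow.card_eq_index_normalizer P).symm] at h
  have hmod := card_sylow_modEq_one 11 H
  rw [Nat.ModEq] at hmod
  generalize Nat.card (Sylow 11 H) = n at h hmod ⊢
  generalize Nat.card (Subgroup.normalizer ((P : Subgroup H) : Set H)) = m at h hN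
  have hm : m ∈ Nat.divisors 220 := Nat.mem_divisors.2 ⟨hN, by norm_num⟩
  rw [show Nat.divisors 220 = {1, 2, 4, 5, 10, 11, 20, 22, 44, 55, 110, 220} by decide +kernel] at hm
  simp only [Finset.mem_insert, Finset.mem_singleton] at hm
  rcases hm with rfl | rfl | rfl | rfl | rfl | rfl | rfl | rfl | rfl | rfl | rfl | rfl <;> omega

/-- A transitive subgroup of order 7920 is simple. -/
theorem isSimpleGroup_7920 {p q x : GolayPt} (hpq : p ≠ q) (hxp : x ≠ p) (hxq : x ≠ q)
    {H : Subgroup M24} (hH : H ≤ MulAction.stabilizer M24 p ⊓ MulAction.stabilizer M24 q)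
    (hc : Nat.card H = 7920) (horb : (subOrb H x).card = 22) : IsSimpleGroup H := by
  have : Fact (Nat.Prime 11) := ⟨by norm_num⟩
  set K := H ⊓ MulAction.stabilizer M24 x with hK
  have hKc : Nat.card K = 360 := by
    have h := card_subOrb_mul H x
    rw [horb, hc] at h
    change 22 * Nat.card K = 7920 at h
    omega
  have hn144 := card_sylow_eleven hpq hH hc
  -- normal subgroups of order prime to 11 are trivial
  have hsmall : ∀ N : Subgroup H, N.Normal → ¬ 11 ∣ Nat.card N → N = ⊥ := by
    intro N hN h11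
    set N' := N.map H.subtype with hN'
    have hN'c : Nat.card N' = Nat.card N := Subgroup.card_map_of_injective H.subtype_injective
    have hconj : ∀ h ∈ H, ∀ n ∈ N', h * n * h⁻¹ ∈ N' := by
      rintro h hh _ ⟨n, hn, rfl⟩
      exact ⟨_, hN.conj_mem n hn ⟨h, hh⟩, rfl⟩
    have hmove : ∀ h ∈ H, (subOrb N' (h • x)).card = (subOrb N' x).card := by
      intro h hh
      rw [← Finset.card_image_of_injective (subOrb N' x) (MulAction.injective h)]
      congr 1
      ext z
      simp only [Finset.mem_image, mem_subOrb]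
      constructor
      · rintro ⟨n, hn, rfl⟩
        refine ⟨h⁻¹ • n • h • x, ⟨h⁻¹ * n * h, ?_, by rw [mul_smul, mul_smul]⟩, smul_inv_smul _ _⟩
        simpa using hconj h⁻¹ (inv_mem hh) n hn
      · rintro ⟨_, ⟨n, hn, rfl⟩, rfl⟩
        exact ⟨h * n * h⁻¹, hconj h hh n hn, by rw [mul_smul, mul_smul, inv_smul_smul]⟩
    have hall : ∀ z ∈ subOrb H x, (subOrb N' z).card = (subOrb N' x).card := fun z hz => by
      obtain ⟨h, hh, rfl⟩ := mem_subOrb.1 hz
      exact hmove h hh
    have hdvd : (subOrb N' x).card ∣ 22 := by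
      have hU : ((subOrb H x).image (subOrb N')).biUnion id = subOrb H x := by
        ext z
        simp only [Finset.mem_biUnion, Finset.mem_image, id]
        refine ⟨?_, fun hz => ⟨_, ⟨z, hz, rfl⟩, self_mem_subOrb _ z⟩⟩
        rintro ⟨_, ⟨a, ha, rfl⟩, hz⟩
        obtain ⟨n, hn, rfl⟩ := mem_subOrb.1 hz
        exact smul_mem_subOrb (Subgroup.map_subtype_le N hn) ha
      have hsum := Finset.card_biUnion (s := (subOrb H x).image (subOrb N')) (t := id) (by
        intro A hA B hB hne
        obtain ⟨a, -, rfl⟩ := Finset.mem_image.1 hA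
        obtain ⟨b, -, rfl⟩ := Finset.mem_image.1 hB
        exact Finset.disjoint_left.2 fun z ha hb =>
          hne ((subOrb_eq_of_mem ha).symm.trans (subOrb_eq_of_mem hb)))
      rw [hU, horb] at hsum
      rw [hsum]
      refine Finset.dvd_sum fun O hO => ?_
      obtain ⟨z, hz, rfl⟩ := Finset.mem_image.1 hO
      exact (hall z hz).symm.dvd
    have h11' : ¬ 11 ∣ (subOrb N' x).card := fun h =>
      h11 (hN'c ▸ h.trans (card_subOrb_dvd N' x))
    have hd12 : (subOrb N' x).card = 1 ∨ (subOrb N' x).card = 2 := by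
      have hm : (subOrb N' x).card ∈ Nat.divisors 22 := Nat.mem_divisors.2 ⟨hdvd, by norm_num⟩
      rw [show Nat.divisors 22 = {1, 2, 11, 22} by decide +kernel] at hm
      simp only [Finset.mem_insert, Finset.mem_singleton] at hm
      rcases hm with e | e | e | e <;> omega
    rcases hd12 with e | e
    · refine (Subgroup.eq_bot_iff_forall N).2 fun n hn => ?_
      refine Subtype.ext (Subtype.ext (Equiv.ext fun z => ?_))
      show (n : M24) • z = z
      have hnH := hH n.2
      by_cases hzp : z = p
      · subst hzp; exact hnH.1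
      by_cases hzq : z = q
      · subst hzq; exact hnH.2
      have hz : z ∈ subOrb H x := by
        have hsub : subOrb H x ⊆ ((Finset.univ : Finset GolayPt).erase p).erase q := by
          intro y hy
          obtain ⟨h, hh, rfl⟩ := mem_subOrb.1 hy
          simp only [Finset.mem_erase, Finset.mem_univ, and_true]
          exact ⟨fun e => hxq (MulAction.injective h (e.trans (hH hh).2.symm)),
            fun e => hxp (MulAction.injective h (e.trans (hH hh).1.symm))⟩
        rw [Finset.eq_of_subset_of_card_le hsub (by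
          rw [horb, Finset.card_erase_of_mem (Finset.mem_erase.2 ⟨hpq.symm, Finset.mem_univ _⟩),
            Finset.card_erase_of_mem (Finset.mem_univ _), card_univ_golayPt])]
        simp [hzp, hzq]
      exact Finset.card_le_one.1 ((hall z hz).trans e).le _
        (mem_subOrb.2 ⟨n, ⟨n, hn, rfl⟩, rfl⟩) _ (self_mem_subOrb _ _)
    · exfalso
      have h3 := three_dvd_card_invariant hpq hxp hxq (K := K)
        (le_inf ((inf_le_left : K ≤ H).trans hH) inf_le_right) (by rw [hKc]; norm_num)
        ((subOrb N' x).erase x)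
        (fun h hh y hy => by
          simp only [Finset.mem_erase] at hy ⊢
          have hhx : h • x = x := hh.2
          refine ⟨fun e' => hy.1 (MulAction.injective h (e'.trans hhx.symm)), ?_⟩
          obtain ⟨n, hn, rfl⟩ := mem_subOrb.1 hy.2
          exact mem_subOrb.2 ⟨h * n * h⁻¹, hconj h hh.1 n hn,
            by rw [mul_smul, mul_smul, inv_smul_eq_iff.2 hhx.symm]⟩)
        (fun y hy => by
          simp only [Finset.mem_erase] at hy
          obtain ⟨n, hn, rfl⟩ := mem_subOrb.1 hy.2
          have hnH := hH (Subgroup.map_subtype_le N hn)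
          exact ⟨fun e' => hxp (MulAction.injective n (e'.trans hnH.1.symm)),
            fun e' => hxq (MulAction.injective n (e'.trans hnH.2.symm)), hy.1⟩)
      rw [Finset.card_erase_of_mem (self_mem_subOrb _ _), e] at h3
      norm_num at h3
  have : Nontrivial H := Finite.one_lt_card_iff_nontrivial.1 (by rw [hc]; norm_num)
  refine IsSimpleGroup.mk fun N hN => ?_
  by_cases h11 : 11 ∣ Nat.card N
  swap
  · exact Or.inl (hsmall N hN h11)
  right
  obtain ⟨P⟩ : Nonempty (Sylow 11 N) := inferInstance
  set P' := (P : Subgroup N).map N.subtype with hP'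
  have hPc : Nat.card (P : Subgroup N) = 11 := by
    obtain ⟨g, hg⟩ := exists_prime_orderOf_dvd_card' (G := N) 11 h11
    have hd : Nat.card (P : Subgroup N) ∣ 7920 :=
      hc ▸ (Subgroup.card_subgroup_dvd_card _).trans (Subgroup.card_subgroup_dvd_card N)
    have hf : 1 ≤ (Nat.card N).factorization 11 :=
      ((by norm_num : Nat.Prime 11).pow_dvd_iff_le_factorization Nat.card_pos.ne').1
        (by rwa [pow_one])
    rw [P.card_eq_multiplicity] at hd ⊢
    rcases Nat.lt_or_ge ((Nat.card N).factorization 11) 2 with h | h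
    · rw [show (Nat.card N).factorization 11 = 1 by omega, pow_one]
    · exact absurd ((pow_dvd_pow 11 h).trans hd) (by norm_num)
  have hP'c : Nat.card P' = 11 := by
    rw [hP', Subgroup.card_map_of_injective N.subtype_injective, hPc]
  have hN55 := card_normalizer_eleven_dvd hpq hH (by rw [hc]; norm_num) P' hP'c
  have hfr := Sylow.normalizer_sup_eq_top P
  rw [← hP'] at hfr
  -- a Sylow subgroup of `H` inside `N`
  have hP'p : IsPGroup 11 P' := IsPGroup.of_card (n := 1) (by rw [hP'c, pow_one])
  obtain ⟨Q, hQ⟩ := hP'p.exists_le_sylow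
  have hQc : Nat.card (Q : Subgroup H) = 11 := by
    rw [Q.card_eq_multiplicity, hc]
    rw [show (7920 : ℕ) = 11 * 720 by norm_num, Nat.factorization_mul (by norm_num) (by norm_num),
      Finsupp.add_apply, Nat.Prime.factorization_self (by norm_num),
      Nat.factorization_eq_zero_of_not_dvd (by norm_num)]
    norm_num
  have hQP : (Q : Subgroup H) = P' := (Subgroup.eq_of_le_of_card_ge hQ (by rw [hQc, hP'c])).symm
  set M := Subgroup.normalizer (P' : Set H) with hM
  have hMc : Nat.card M = 55 := by
    have h := Subgroup.card_mul_index M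
    rw [hM, ← hQP, show (Subgroup.normalizer ((Q : Subgroup H) : Set H)).index =
      Nat.card (Sylow 11 H) from (Sylow.card_eq_index_normalizer Q).symm, hn144, hc] at h
    rw [hM, ← hQP]
    omega
  by_contra hNtop
  have hNM : Nat.card ↥(M.subgroupOf N) = 11 := by
    have hle : P' ≤ M ⊓ N := le_inf Subgroup.le_normalizer (Subgroup.map_subtype_le _)
    have hcard : Nat.card ↥(M ⊓ N) = 11 ∨ Nat.card ↥(M ⊓ N) = 55 := by
      have h1 : 11 ∣ Nat.card ↥(M ⊓ N) := hP'c ▸ Subgroup.card_dvd_of_le hle
      have h2 : Nat.card ↥(M ⊓ N) ∣ 55 := hMc ▸ Subgroup.card_dvd_of_le inf_le_left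
      have hm := Nat.mem_divisors.2 ⟨h2, by norm_num⟩
      rw [show Nat.divisors 55 = {1, 5, 11, 55} by decide +kernel] at hm
      simp only [Finset.mem_insert, Finset.mem_singleton] at hm
      rcases hm with e | e | e | e <;> omega
    rcases hcard with e | e
    · rw [← e]
      exact Nat.card_congr
        { toFun := fun y => ⟨y.1.1, y.2, y.1.2⟩
          invFun := fun y => ⟨⟨y.1, y.2.2⟩, y.2.1⟩
          left_inv := fun _ => rfl
          right_inv := fun _ => rfl }
    · exfalso
      have hle' : M ≤ N := by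
        have := Subgroup.eq_of_le_of_card_ge (inf_le_left : M ⊓ N ≤ M) (by rw [e, hMc])
        rw [← this]
        exact inf_le_right
      exact hNtop (top_le_iff.1 (hfr ▸ sup_le hle' le_rfl))
  -- the normal complement
  have hnle : Subgroup.normalizer ((P : Subgroup N) : Set N) ≤
      Subgroup.centralizer ((P : Subgroup N) : Set N) := by
    have hsub : Subgroup.normalizer ((P : Subgroup N) : Set N) ≤ (P : Subgroup N) := by
      refine le_of_eq (Subgroup.eq_of_le_of_card_ge Subgroup.le_normalizer ?_).symm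
      refine le_trans ?_ (hNM.trans hPc.symm).le
      refine Nat.card_mono (Set.toFinite _) fun y hy => ?_
      show (y : H) ∈ M
      rw [hM, Subgroup.mem_normalizer_iff]
      intro z
      constructor
      · rintro ⟨w, hw, rfl⟩
        exact ⟨_, (Subgroup.mem_normalizer_iff.1 hy w).1 hw, rfl⟩
      · rintro ⟨w, hw, hwe⟩
        have hz : z ∈ N := by
          have h := hN.conj_mem (w : H) w.2 (y : H)⁻¹
          rw [show (w : H) = (y : H) * z * (y : H)⁻¹ from hwe] at h
          simpa [mul_assoc] using h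
        refine ⟨⟨z, hz⟩, (Subgroup.mem_normalizer_iff.1 hy ⟨z, hz⟩).2 ?_, rfl⟩
        rw [show y * ⟨z, hz⟩ * y⁻¹ = w from Subtype.ext hwe.symm]
        exact hw
    have hab : IsMulCommutative (P : Subgroup N) := (isCyclic_of_prime_card hPc).isMulCommutative
    exact hsub.trans (Subgroup.le_centralizer (P : Subgroup N))
  set A := (MonoidHom.transferSylow P hnle).ker with hA
  have hA11 : ¬ 11 ∣ Nat.card A := MonoidHom.not_dvd_card_ker_transferSylow P hnle
  have hAP : Nat.card A * 11 = Nat.card N := by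
    rw [← hPc]
    exact (MonoidHom.ker_transferSylow_isComplement' P hnle).card_mul_card
  have hAn : (A.map N.subtype).Normal := by
    refine ⟨fun a ha h => ?_⟩
    obtain ⟨b, hb, rfl⟩ := ha
    have hbo : (b : H) ^ Nat.card A = 1 := by
      exact congrArg (fun y : A => ((y : N) : H)) (pow_card_eq_one' (x := (⟨b, hb⟩ : A)))
    set c : N := ⟨h * (b : H) * h⁻¹, hN.conj_mem _ b.2 h⟩
    refine ⟨c, ?_, rfl⟩
    have hc1 : c ^ Nat.card A = 1 := Subtype.ext (by
      show (h * (b : H) * h⁻¹) ^ Nat.card A = 1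
      rw [conj_pow, hbo]
      group)
    have h1 : (MonoidHom.transferSylow P hnle c) ^ Nat.card A = 1 := by
      rw [← map_pow, hc1, map_one]
    have h2 : (MonoidHom.transferSylow P hnle c) ^ 11 = 1 := by
      have h2' := pow_card_eq_one' (x := MonoidHom.transferSylow P hnle c)
      rwa [hPc] at h2'
    have hcop : Nat.Coprime (Nat.card A) 11 :=
      (Nat.Prime.coprime_iff_not_dvd (by norm_num) |>.2 hA11).symm
    have h3 := pow_gcd_eq_one.2 ⟨h1, h2⟩
    rw [hcop, pow_one] at h3
    exact MonoidHom.mem_ker.2 h3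
  have hbot := hsmall _ hAn (by rwa [Subgroup.card_map_of_injective N.subtype_injective])
  rw [Subgroup.map_eq_bot_iff_of_injective _ N.subtype_injective] at hbot
  rw [hbot, Subgroup.card_bot, one_mul] at hAP
  -- a normal subgroup of order 11
  have hNP : N = P' := (Subgroup.eq_of_le_of_card_ge (Subgroup.map_subtype_le _)
    (by rw [hP'c, ← hAP])).symm
  have hMtop : M = ⊤ := by
    rw [hM, ← hNP]
    exact Subgroup.normalizer_eq_top N
  rw [hMtop, Subgroup.card_top, hc] at hMc
  norm_num at hMc

theorem card_ne_7920 {p q : GolayPt} (hpq : p ≠ q) {H : Subgroup M24}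
    (hH : H ≤ MulAction.stabilizer M24 p ⊓ MulAction.stabilizer M24 q) :
    Nat.card H ≠ 7920 := by
  intro hc
  have : Fact (Nat.Prime 11) := ⟨by norm_num⟩
  have : Fact (Nat.Prime 3) := ⟨by norm_num⟩
  obtain ⟨x, -, hx⟩ := Finset.exists_mem_notMem_of_card_lt_card
    (s := ({p, q} : Finset GolayPt)) (t := Finset.univ) (by
      rw [card_univ_golayPt]; exact lt_of_le_of_lt Finset.card_le_two (by norm_num))
  simp only [Finset.mem_insert, Finset.mem_singleton, not_or] at hx
  obtain ⟨g, hgH, hg⟩ := exists_orderOf (H := H) 11 (by rw [hc]; norm_num)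
  set S := subOrb H x with hS
  have hsub : S ⊆ ((Finset.univ : Finset GolayPt).erase p).erase q := by
    intro y hy
    obtain ⟨h, hh, rfl⟩ := mem_subOrb.1 hy
    simp only [Finset.mem_erase, Finset.mem_univ, and_true]
    exact ⟨fun e => hx.2 (MulAction.injective h (e.trans (hH hh).2.symm)),
      fun e => hx.1 (MulAction.injective h (e.trans (hH hh).1.symm))⟩
  have hmod := fixed_modEq (hg ▸ pow_orderOf_eq_one g) S fun y hy => smul_mem_subOrb hgH hy
  rw [Finset.filter_eq_empty_iff.2 fun y hy e => by
      have hm := hsub hy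
      simp only [Finset.mem_erase, Finset.mem_univ, and_true] at hm
      rcases eleven_fixed hpq (hH hgH) hg e with e' | e'
      · exact hm.2 e'
      · exact hm.1 e', Finset.card_empty, Nat.ModEq] at hmod
  have hle := Finset.card_le_card hsub
  rw [Finset.card_erase_of_mem (Finset.mem_erase.2 ⟨hpq.symm, Finset.mem_univ _⟩),
    Finset.card_erase_of_mem (Finset.mem_univ _), card_univ_golayPt] at hle
  have hpos : 0 < S.card := Finset.card_pos.2 ⟨x, self_mem_subOrb H x⟩
  set K := H ⊓ MulAction.stabilizer M24 x with hK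
  have hKc : S.card * Nat.card K = 7920 := hc ▸ card_subOrb_mul H x
  have hK4 : K ≤ MulAction.stabilizer M24 p ⊓ MulAction.stabilizer M24 q ⊓
      MulAction.stabilizer M24 x := le_inf ((inf_le_left : K ≤ H).trans hH) inf_le_right
  rcases (show S.card = 11 ∨ S.card = 22 by omega) with e | e
  · rw [e] at hKc
    have h3 := three_dvd_card_invariant hpq hx.1 hx.2 hK4
      (show 9 ∣ Nat.card K by rw [show Nat.card K = 720 by omega]; norm_num)
      (S.erase x)
      (fun h hh y hy => Finset.mem_erase.2 ⟨fun e' => (Finset.mem_erase.1 hy).1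
        (MulAction.injective h (e'.trans hh.2.symm)),
        smul_mem_subOrb hh.1 (Finset.mem_erase.1 hy).2⟩)
      (fun y hy => by
        obtain ⟨hyx, hyS⟩ := Finset.mem_erase.1 hy
        have hm := hsub hyS
        simp only [Finset.mem_erase, Finset.mem_univ, and_true] at hm
        exact ⟨hm.2, hm.1, hyx⟩)
    rw [Finset.card_erase_of_mem (self_mem_subOrb H x), e] at h3
    norm_num at h3
  · rw [e] at hKc
    have hM : Cfsg.IsM11 H := ⟨isSimpleGroup_7920 hpq hx.1 hx.2 hH hc e, hc⟩
    obtain ⟨T⟩ : Nonempty (Sylow 3 (K.subgroupOf H)) := inferInstance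
    set T' := (T : Subgroup (K.subgroupOf H)).map (K.subgroupOf H).subtype with hT'
    have hKH : Nat.card (K.subgroupOf H) = 360 := by
      rw [Nat.card_congr (Subgroup.subgroupOfEquivOfLe inf_le_left).toEquiv]
      change 22 * Nat.card ↥(H ⊓ MulAction.stabilizer M24 x) = 7920 at hKc
      omega
    have hT'c : Nat.card T' = 9 := by
      rw [hT', Subgroup.card_map_of_injective (Subgroup.subtype_injective _),
        T.card_eq_multiplicity, hKH, show (360 : ℕ) = 3 ^ 2 * 40 by norm_num,
        Nat.factorization_mul (by norm_num) (by norm_num), Finsupp.add_apply,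
        Nat.Prime.factorization_pow (by norm_num), Finsupp.single_eq_same,
        Nat.factorization_eq_zero_of_not_dvd (by norm_num)]
      norm_num
    have hT'p : IsPGroup 3 T' := IsPGroup.of_card (n := 2) (by rw [hT'c]; norm_num)
    obtain ⟨Q, hQ⟩ := hT'p.exists_le_sylow
    have hQT : (Q : Subgroup H) = T' := by
      refine (Subgroup.eq_of_le_of_card_ge hQ ?_).symm
      rw [hT'c, CfsgLib.Mathieu.Order7920.card_three_sylow hM Q]
    have hN := (CfsgLib.Mathieu.Order7920.sylow_three hM Q).2.1
    have hNK : Subgroup.normalizer ((Q : Subgroup H) : Set H) ≤ K.subgroupOf H := by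
      intro n hn
      refine ⟨n.2, ?_⟩
      -- `x` is the only fixed point of the Sylow subgroup
      by_contra hne
      set z := (n : M24) • x with hz
      have hzm := hsub (mem_subOrb.2 ⟨(n : M24), n.2, rfl⟩ : z ∈ S)
      simp only [Finset.mem_erase, Finset.mem_univ, and_true] at hzm
      have hTfix : T'.map H.subtype ≤ MulAction.stabilizer M24 p ⊓ MulAction.stabilizer M24 q ⊓
          MulAction.stabilizer M24 x ⊓ MulAction.stabilizer M24 z := by
        rintro _ ⟨t, ht, rfl⟩
        obtain ⟨t', ht', rfl⟩ := ht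
        refine ⟨hK4 t'.2, ?_⟩
        have hc1 : n⁻¹ * (t' : H) * n ∈ (Q : Subgroup H) :=
          (Subgroup.mem_normalizer_iff''.1 hn _).1 (by rw [hQT]; exact ⟨t', ht', rfl⟩)
        rw [hQT] at hc1
        obtain ⟨t'', -, ht''⟩ := hc1
        have h1 : ((t'' : H) : M24) • x = x := t''.2.2
        rw [show (t'' : H) = n⁻¹ * (t' : H) * n from ht''] at h1
        simp only [Subgroup.coe_mul, Subgroup.coe_inv, mul_smul, inv_smul_eq_iff] at h1
        exact h1
      have hd := Subgroup.card_dvd_of_le hTfix
      rw [Subgroup.card_map_of_injective H.subtype_injective, hT'c,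
        card_stabilizer_four (by
          simp [hpq, Ne.symm hx.1, Ne.symm hx.2, Ne.symm hzm.1, Ne.symm hzm.2,
            show ¬ x = z from fun e' => hne e'.symm])] at hd
      norm_num at hd
    have hd := Subgroup.card_dvd_of_le hNK
    change Nat.card (Subgroup.normalizer ((Q : Subgroup H) : Set H)) ∣ _ at hd
    rw [show Nat.card (Subgroup.normalizer ((Q : Subgroup H) : Set H)) = 144 from hN, hKH] at hd
    norm_num at hd

/-- The statement about indices. -/
theorem index_ne (p q : GolayPt) (hpq : p ≠ q)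
    (H : Subgroup ↥(MulAction.stabilizer M24 p ⊓ MulAction.stabilizer M24 q)) :
    H.index ≠ 56 ∧ H.index ≠ 210 := by
  have hc := Subgroup.card_mul_index H
  rw [card_stabilizer_two hpq,
    ← Subgroup.card_map_of_injective (K := H)
      (f := (MulAction.stabilizer M24 p ⊓ MulAction.stabilizer M24 q).subtype)
      (Subgroup.subtype_injective _)] at hc
  constructor <;> intro hi <;> rw [hi] at hc
  · exact card_ne_7920 hpq (Subgroup.map_subtype_le H) (by omega)
  · exact card_ne_2112 hpq (Subgroup.map_subtype_le H) (by omega)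

end CfsgLib.GolayStructure
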