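/-
The squared intersection sum of two families of sets, used to separate suborbits.
-/
import Cfsg.Agent.Lib.GolayStructure.Orbits

set_option autoImplicit false

namespace CfsgLib.GolayStructure

open Cfsg CfsgLib.Golay
open scoped Pointwise

/-- Sum of the squared intersection sizes. -/
def pairInv (S X : Finset (Finset GolayPt)) : ℕ := ∑ t ∈ S, ∑ u ∈ X, (t ∩ u).card ^ 2

theorem pairInv_smul {S : Finset (Finset GolayPt)} {g : M24}
    (hg : g ∈ MulAction.stabilizer M24 S) (X : Finset (Finset GolayPt)) :
    pairInv S (g • X) = pairInv S X := by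
  have hinj : Function.Injective fun u : Finset GolayPt => g • u := MulAction.injective g
  have hS : g • S = S := MulAction.mem_stabilizer_iff.1 hg
  conv_lhs => rw [← hS]
  unfold pairInv
  rw [show g • S = S.image (fun u => g • u) from rfl, Finset.sum_image hinj.injOn,
    show g • X = X.image (fun u => g • u) from rfl]
  refine Finset.sum_congr rfl fun t _ => ?_
  rw [Finset.sum_image hinj.injOn]
  refine Finset.sum_congr rfl fun u _ => ?_
  rw [← Finset.smul_finset_inter, card_smul]

/-- The invariant on lists of masks. -/
def listInv (a b : List ℕ) : ℕ :=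
  (a.map fun t => (b.map fun u => popc (t &&& u) ^ 2).sum).sum

/-- A list of masks without repetition, all below `2 ^ 24`. -/
def maskList (l : List ℕ) : Bool := l.all (fun m => m.blt 16777216) && decide l.Nodup

theorem maskList_spec {l : List ℕ} (h : maskList l = true) : (l.map unmask).Nodup := by
  simp only [maskList, Bool.and_eq_true, List.all_eq_true, Nat.blt_eq, decide_eq_true_iff] at h
  exact h.2.map_on fun a ha b hb e => unmask_injOn (h.1 a ha) (h.1 b hb) e

theorem pairInv_masks {a b : List ℕ} (ha : maskList a = true) (hb : maskList b = true) :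
    pairInv (a.map unmask).toFinset (b.map unmask).toFinset = listInv a b := by
  simp only [pairInv, listInv, List.sum_toFinset _ (maskList_spec ha),
    List.sum_toFinset _ (maskList_spec hb), List.map_map]
  congr 1
  refine List.map_congr_left fun t _ => ?_
  simp only [Function.comp]
  congr 1
  refine List.map_congr_left fun u _ => ?_
  simp only [Function.comp, card_inter_unmask]

/-- Six tetrad masks forming a sextet. -/
def sextetList (l : List ℕ) : Bool :=
  maskList l && l.length == 6 && l.all (fun t => popc t == 4) &&
    l.all fun t => l.all fun u => t == u || inCode (t ||| u) && popc (t ||| u) == 8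

theorem sextetOf_list {m : ℕ} {l : List ℕ} (h : sextetList (m :: l) = true) :
    sextetOf (unmask m) = ((m :: l).map unmask).toFinset := by
  simp only [sextetList, Bool.and_eq_true, beq_iff_eq, List.all_eq_true] at h
  obtain ⟨⟨⟨h1, h2⟩, h3⟩, h4⟩ := h
  refine (eq_sextetOf ⟨?_, ?_, ?_⟩ (by simp)).symm
  · rw [List.toFinset_card_of_nodup (maskList_spec h1), List.length_map, h2]
  · intro t ht
    obtain ⟨a, ha, rfl⟩ := List.mem_map.1 (List.mem_toFinset.1 ht)
    rw [card_unmask, h3 a ha]
  · intro t ht u hu hne
    obtain ⟨a, ha, rfl⟩ := List.mem_map.1 (List.mem_toFinset.1 ht)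
    obtain ⟨b, hb, rfl⟩ := List.mem_map.1 (List.mem_toFinset.1 hu)
    have h4 := h4 a ha b hb
    simp only [Bool.or_eq_true, beq_iff_eq, Bool.and_eq_true] at h4
    rcases h4 with h4 | ⟨hc, hp⟩
    · exact absurd (congrArg unmask h4) hne
    · rw [← unmask_or]
      exact mem_octads_iff.2 ⟨_, inCode_iff.1 hc, hp, rfl⟩

/-- The three masks of a packed trio. -/
def trioList (m : ℕ) : List ℕ :=
  [m / 16777216, m % 16777216, (m / 16777216 ||| m % 16777216) ^^^ fullMask]

theorem trioDec_eq_list (m : ℕ) : trioDec m = ((trioList m).map unmask).toFinset := by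
  simp only [trioDec, trioOf, trioList, List.map_cons, List.map_nil, List.toFinset_cons,
    List.toFinset_nil, unmask_compl, unmask_or, LawfulSingleton.insert_empty_eq]

end CfsgLib.GolayStructure
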