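/-
Transitivity on sextets, suborbit certificate and maximality of the stabiliser.
-/
import Cfsg.Agent.Lib.GolayStructure.DataSextet
import Cfsg.Agent.Lib.GolayStructure.Orbits

set_option autoImplicit false

namespace CfsgLib.GolayStructure

open Cfsg CfsgLib.Golay
open scoped Pointwise


theorem sextet_mapsTo (r : ℕ) (hr : r < 1771) :
    (sextetKind).dec (fieldAt 24 sextetTable r) ∈ sextets := by
  have h := List.all_eq_true.1 sextet_canon r (List.mem_range.2 hr)
  simp only [Bool.and_eq_true, beq_iff_eq] at h
  exact sextetOf_mem (by rw [card_unmask, h.1])

/-- All of them. -/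
noncomputable def sextetAll : Cert sextetKind sextets 1771 where
  gens := sextetAllGens
  R := fieldAt 24 sextetTable
  parts := sextetAllParts
  gens_valid := sextet_allGens
  parts_valid := sextet_allParts
  covers := sextet_allCovers
  injOn := sextetKind_injOn sextet_inc sextet_canon
  mapsTo := sextet_mapsTo
  ncard_eq := ncard_sextets

/-- The suborbits of the base one. -/
noncomputable def sextetSub : Cert sextetKind sextets 1771 where
  gens := sextetStabGens
  R := fieldAt 24 sextetTable
  parts := sextetStabParts
  gens_valid := sextet_stabGens
  parts_valid := sextet_stabParts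
  covers := sextet_stabCovers
  injOn := sextetKind_injOn sextet_inc sextet_canon
  mapsTo := sextet_mapsTo
  ncard_eq := ncard_sextets

/-- The base one. -/
noncomputable def baseSextet : Finset (Finset GolayPt) := (sextetKind).dec (fieldAt 24 sextetTable sextetRoot)

theorem orbit_baseSextet : MulAction.orbit M24 baseSextet = sextets := by
  have h := sextetAll.orbit_all (by norm_num) (sextetAllParts.head (by simp [sextetAllParts])) rfl
    fun g _ h => smul_mem_sextets g h
  exact h

theorem exists_smul_baseSextet {x : Finset (Finset GolayPt)} (hx : x ∈ sextets) : ∃ g : M24, g • baseSextet = x := by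
  rw [← orbit_baseSextet] at hx
  exact hx

theorem sextetSub_gens : ∀ t ∈ sextetSub.gens, m24Of t ∈ MulAction.stabilizer M24 baseSextet :=
  gens_mem_stabilizer (K := sextetKind) sextet_stabGens sextet_stabFix

theorem isCoatom_sextet {x : Finset (Finset GolayPt)} (hx : x ∈ sextets) : IsCoatom (MulAction.stabilizer M24 x) := by
  refine isCoatom_of_base orbit_baseSextet ?_ hx
  have h := sextetSub.isCoatom_base (by norm_num) (sextetStabParts.head (by simp [sextetStabParts]))
    sextetStabParts.tail rfl rfl sextetSub_gens orbit_baseSextet
    (by decide +kernel)
  exact h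

end CfsgLib.GolayStructure
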