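/-
Suborbits of an arbitrary point, obtained from the certificate at the base point.
-/
import Cfsg.Agent.Lib.GolayStructure.Orbits

set_option autoImplicit false

namespace CfsgLib.GolayStructure

open Cfsg MulAction

variable {X : Type*} [MulAction M24 X] {K : Kind X} {Ω : Set X} {N : ℕ}

theorem Cert.orbit_moved (C : Cert K Ω N) (hN : 0 < N) {x0 : X}
    (hH : ∀ t ∈ C.gens, m24Of t ∈ stabilizer M24 x0) (hΩ : ∀ g : M24, ∀ x ∈ Ω, g • x ∈ Ω)
    {β : Type*} (f : X → β) (hf : ∀ h ∈ stabilizer M24 x0, ∀ x, f (h • x) = f x)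
    (hsep : ∀ P ∈ C.parts, ∀ Q ∈ C.parts,
      f (K.dec (C.R P.root)) = f (K.dec (C.R Q.root)) → P = Q)
    (g : M24) {P : Part} (hP : P ∈ C.parts) :
    orbit (stabilizer M24 (g • x0)) (g • K.dec (C.R P.root)) = (g • ·) '' C.set P ∧
      (orbit (stabilizer M24 (g • x0)) (g • K.dec (C.R P.root))).ncard = P.size + 1 ∧
      g • K.dec (C.R P.root) ∈ Ω := by
  have h := C.orbit_eq hN hH (fun h _ x hx => hΩ h x hx) f hf hsep hP
  refine ⟨by rw [orbit_stabilizer_smul, h], ?_, hΩ g _ (C.set_subset hP (C.root_mem P))⟩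
  rw [ncard_orbit_stabilizer_smul, h, C.ncard_set hP]

theorem Cert.cover_moved (C : Cert K Ω N) (hN : 0 < N) {x0 : X}
    (hH : ∀ t ∈ C.gens, m24Of t ∈ stabilizer M24 x0) (hΩ : ∀ g : M24, ∀ x ∈ Ω, g • x ∈ Ω)
    (P0 : Part) (others : List Part) (hparts : C.parts = P0 :: others) (hP0 : P0.size = 0)
    (hx0 : K.dec (C.R P0.root) = x0) (g : M24) {y : X} (hy : y ∈ Ω) :
    y = g • x0 ∨ ∃ P ∈ others, y ∈ orbit (stabilizer M24 (g • x0)) (g • K.dec (C.R P.root)) := by
  obtain ⟨P, hP, hyP⟩ := C.exists_part hN (hΩ g⁻¹ y hy)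
  have hmem : P ∈ P0 :: others := hparts ▸ hP
  rcases List.mem_cons.1 hmem with rfl | hP'
  · left
    obtain ⟨r, hr, he⟩ := hyP
    rw [Part.ranks, List.eq_nil_of_length_eq_zero (l := List.map entryRank _)
      (by simp [length_treeList, hP0]), Set.mem_ofPred_eq, List.mem_singleton] at hr
    change K.dec (C.R r) = g⁻¹ • y at he
    rw [hr, hx0] at he
    rw [he, smul_inv_smul]
  · right
    refine ⟨P, hP', ?_⟩
    rw [orbit_stabilizer_smul]
    exact ⟨g⁻¹ • y, C.set_subset_orbit hH hP hyP, smul_inv_smul g y⟩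

end CfsgLib.GolayStructure
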