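/-
The suborbits of a sextet stabiliser are separated by the intersection sum.
-/
import Cfsg.Agent.Lib.GolayStructure.SextetOrbits
import Cfsg.Agent.Lib.GolayStructure.PairInv
import Cfsg.Agent.Lib.GolayStructure.Suborbits

set_option autoImplicit false

namespace CfsgLib.GolayStructure

open Cfsg CfsgLib.Golay
open scoped Pointwise

/-- The tetrads of the suborbit roots, in the order of the parts. -/
def sextetRootLists : List (List ℕ) :=
  [[8536096, 15, 5264, 622848, 3416064, 4196928], [8388615, 147496, 268544, 1082880, 2621632, 4268048],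
   [8388627, 33184, 135744, 1574920, 2376704, 4268036],
   [8388643, 33168, 147468, 594944, 2107904, 5505088]]

theorem sextetRootLists_ok : ((List.range 4).all fun i =>
    sextetList (sextetRootLists.getD i []) &&
      (sextetRootLists.getD i []).head? ==
        some (fieldAt 24 sextetTable (sextetStabParts.getD i ⟨0, 0, 0⟩).root)) = true := by
  decide +kernel

/-- The invariant values on the roots differ. -/
theorem sextetRootInv_sep : ((List.range 4).all fun i => (List.range 4).all fun j => i == j ||
    listInv (sextetRootLists.getD 0 []) (sextetRootLists.getD i []) !=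
      listInv (sextetRootLists.getD 0 []) (sextetRootLists.getD j [])) = true := by
  decide +kernel

theorem sextetRoot_dec (i : ℕ) (hi : i < 4) :
    maskList (sextetRootLists.getD i []) = true ∧
    sextetKind.dec (sextetSub.R (sextetStabParts.getD i ⟨0, 0, 0⟩).root) =
      ((sextetRootLists.getD i []).map unmask).toFinset := by
  have h := List.all_eq_true.1 sextetRootLists_ok i (List.mem_range.2 hi)
  simp only [Bool.and_eq_true, beq_iff_eq] at h
  refine ⟨?_, ?_⟩
  · have h1 := h.1
    simp only [sextetList, Bool.and_eq_true] at h1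
    exact h1.1.1.1
  · obtain ⟨m, l, hl⟩ : ∃ m l, sextetRootLists.getD i [] = m :: l := by
      cases hc : sextetRootLists.getD i [] with
      | nil => rw [hc] at h; simp at h
      | cons a b => exact ⟨a, b, rfl⟩
    rw [hl] at h ⊢
    simp only [List.head?_cons, Option.some.injEq] at h
    rw [← sextetOf_list h.1, h.2]
    rfl

theorem sextetInv_root (i : ℕ) (hi : i < 4) :
    pairInv baseSextet (sextetKind.dec (sextetSub.R (sextetStabParts.getD i ⟨0, 0, 0⟩).root)) =
      listInv (sextetRootLists.getD 0 []) (sextetRootLists.getD i []) := by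
  have h0 := sextetRoot_dec 0 (by norm_num)
  have hi' := sextetRoot_dec i hi
  rw [hi'.2]
  have hb : baseSextet = ((sextetRootLists.getD 0 []).map unmask).toFinset := h0.2
  rw [hb, pairInv_masks h0.1 hi'.1]

theorem sextetSub_sep : ∀ P ∈ sextetSub.parts, ∀ Q ∈ sextetSub.parts,
    pairInv baseSextet (sextetKind.dec (sextetSub.R P.root)) =
      pairInv baseSextet (sextetKind.dec (sextetSub.R Q.root)) → P = Q := by
  intro P hP Q hQ h
  obtain ⟨i, hi, rfl⟩ := List.getElem_of_mem hP
  obtain ⟨j, hj, rfl⟩ := List.getElem_of_mem hQ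
  have ei : sextetSub.parts[i] = sextetStabParts.getD i ⟨0, 0, 0⟩ :=
    (List.getD_eq_getElem _ _ hi).symm
  have ej : sextetSub.parts[j] = sextetStabParts.getD j ⟨0, 0, 0⟩ :=
    (List.getD_eq_getElem _ _ hj).symm
  have hlen : sextetSub.parts.length = 4 := rfl
  rw [ei, ej, sextetInv_root i (hlen ▸ hi), sextetInv_root j (hlen ▸ hj)] at h
  have hs := List.all_eq_true.1 (List.all_eq_true.1 sextetRootInv_sep i
    (List.mem_range.2 (hlen ▸ hi))) j (List.mem_range.2 (hlen ▸ hj))
  simp only [Bool.or_eq_true, beq_iff_eq, bne_iff_ne, ne_eq] at hs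
  rcases hs with rfl | hs
  · rfl
  · exact absurd h hs

theorem sextet_suborbits {S : Finset (Finset GolayPt)} (hS : S ∈ sextets) :
    ∃ X₁ ∈ sextets, ∃ X₂ ∈ sextets, ∃ X₃ ∈ sextets,
      (MulAction.orbit (MulAction.stabilizer M24 S) X₁).ncard = 90 ∧
      (MulAction.orbit (MulAction.stabilizer M24 S) X₂).ncard = 240 ∧
      (MulAction.orbit (MulAction.stabilizer M24 S) X₃).ncard = 1440 ∧
      sextets = {S} ∪ MulAction.orbit (MulAction.stabilizer M24 S) X₁ ∪
        MulAction.orbit (MulAction.stabilizer M24 S) X₂ ∪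
        MulAction.orbit (MulAction.stabilizer M24 S) X₃ := by
  obtain ⟨g, rfl⟩ := exists_smul_baseSextet hS
  have hΩ : ∀ g : M24, ∀ x ∈ sextets, g • x ∈ sextets := fun g _ h => smul_mem_sextets g h
  have hP : ∀ i < 4, sextetStabParts.getD i ⟨0, 0, 0⟩ ∈ sextetSub.parts := fun i hi => by
    have hlen : sextetStabParts.length = 4 := rfl
    rw [List.getD_eq_getElem _ _ (hlen ▸ hi)]
    exact List.getElem_mem _
  have hinv : ∀ h ∈ MulAction.stabilizer M24 baseSextet, ∀ x,
      pairInv baseSextet (h • x) = pairInv baseSextet x := fun _ hh x => pairInv_smul hh x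
  obtain ⟨-, a2, a3⟩ := sextetSub.orbit_moved (by norm_num) sextetSub_gens hΩ _ hinv sextetSub_sep
    g (hP 3 (by norm_num))
  obtain ⟨-, b2, b3⟩ := sextetSub.orbit_moved (by norm_num) sextetSub_gens hΩ _ hinv sextetSub_sep
    g (hP 1 (by norm_num))
  obtain ⟨-, c2, c3⟩ := sextetSub.orbit_moved (by norm_num) sextetSub_gens hΩ _ hinv sextetSub_sep
    g (hP 2 (by norm_num))
  refine ⟨_, a3, _, b3, _, c3, a2.trans rfl, b2.trans rfl, c2.trans rfl, ?_⟩
  refine Set.Subset.antisymm (fun y hy => ?_) ?_
  · rcases sextetSub.cover_moved (by norm_num) sextetSub_gens hΩ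
      (sextetStabParts.head (by simp [sextetStabParts])) sextetStabParts.tail rfl rfl rfl g hy with
      h | ⟨P, hPm, h⟩
    · exact Or.inl (Or.inl (Or.inl h))
    · obtain ⟨i, hi, rfl⟩ := List.getElem_of_mem hPm
      have hlen : sextetStabParts.tail.length = 3 := rfl
      rcases i with _ | _ | _ | i
      · exact Or.inl (Or.inr h)
      · exact Or.inr h
      · exact Or.inl (Or.inl (Or.inr h))
      · omega
  · rintro y (((rfl | ⟨h, rfl⟩) | ⟨h, rfl⟩) | ⟨h, rfl⟩)
    · exact hS
    · exact hΩ h.1 _ a3
    · exact hΩ h.1 _ b3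
    · exact hΩ h.1 _ c3

end CfsgLib.GolayStructure
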