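/-
Stabilisers of a family of sets: action on the members, generation, and subgroups of exponent two
given by commuting involutions.
-/
import Cfsg.Agent.Lib.Golay.Chain
import Cfsg.Agent.Lib.GolayStructure.Kinds

set_option autoImplicit false

namespace CfsgLib.GolayStructure

open Cfsg
open CfsgLib.Golay (idx idx_lt unmask stabK stabK_le chainOK IsTbl)
open scoped Pointwise

variable {S : Finset (Finset GolayPt)}

theorem smul_mem_iff_of_stab {g : M24} (hg : g ∈ MulAction.stabilizer M24 S) (t : Finset GolayPt) :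
    g • t ∈ S ↔ t ∈ S := by
  have := Finset.smul_mem_smul_finset_iff (s := S) (b := t) g
  rwa [MulAction.mem_stabilizer_iff.1 hg] at this

/-- The permutation of the members induced by an element of the stabiliser. -/
def setPerm (S : Finset (Finset GolayPt)) : MulAction.stabilizer M24 S →* Equiv.Perm ↥S where
  toFun g := (MulAction.toPerm (g : M24)).subtypePerm (smul_mem_iff_of_stab g.2)
  map_one' := by
    ext t : 2
    exact one_smul M24 (t : Finset GolayPt)
  map_mul' g h := by
    ext t : 2
    exact mul_smul (g : M24) (h : M24) (t : Finset GolayPt)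

theorem setPerm_apply (g : MulAction.stabilizer M24 S) (t : ↥S) :
    ((setPerm S g t : ↥S) : Finset GolayPt) = (g : M24) • (t : Finset GolayPt) := rfl

theorem setPerm_ker_iff {g : MulAction.stabilizer M24 S} :
    setPerm S g = 1 ↔ ∀ t ∈ S, (g : M24) • t = t := by
  constructor
  · intro h t ht
    rw [← setPerm_apply g ⟨t, ht⟩, h]; rfl
  · intro h
    exact Equiv.Perm.ext fun t => Subtype.ext (h t.1 t.2)

/-- A subgroup of permutations containing all transpositions of one point with the others. -/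
theorem perm_subgroup_eq_top {α : Type*} [Fintype α] [DecidableEq α] {K : Subgroup (Equiv.Perm α)}
    (a : α) (h : ∀ x, x ≠ a → Equiv.swap a x ∈ K) : K = ⊤ := by
  rw [eq_top_iff, ← Equiv.Perm.closure_isSwap, Subgroup.closure_le]
  rintro σ ⟨x, y, hxy, rfl⟩
  rw [SetLike.mem_coe]
  rcases eq_or_ne x a with rfl | hx
  · exact h y (Ne.symm hxy)
  rcases eq_or_ne y a with rfl | hy
  · rw [Equiv.swap_comm]; exact h x hx
  have he : Equiv.swap x y = Equiv.swap a x * Equiv.swap a y * Equiv.swap a x := by
    ext z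
    simp only [Equiv.Perm.mul_apply]
    rcases eq_or_ne z x with rfl | hzx
    · rw [Equiv.swap_apply_right, Equiv.swap_apply_left, Equiv.swap_apply_left,
        Equiv.swap_apply_of_ne_of_ne hy (Ne.symm hxy)]
    rcases eq_or_ne z y with rfl | hzy
    · rw [Equiv.swap_apply_right, Equiv.swap_apply_of_ne_of_ne hy hzx,
        Equiv.swap_apply_right, Equiv.swap_apply_left]
    rcases eq_or_ne z a with rfl | hza
    · rw [Equiv.swap_apply_left, Equiv.swap_apply_of_ne_of_ne hzx hzy,
        Equiv.swap_apply_of_ne_of_ne hx hxy, Equiv.swap_apply_right]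
    · rw [Equiv.swap_apply_of_ne_of_ne hzx hzy, Equiv.swap_apply_of_ne_of_ne hza hzx,
        Equiv.swap_apply_of_ne_of_ne hza hzy, Equiv.swap_apply_of_ne_of_ne hza hzx]
  rw [he]
  exact mul_mem (mul_mem (h x hx) (h y hy)) (h x hx)

/-- The check of the five or two transposition lifts. -/
def swapOK (masks : List ℕ) (swaps : List (ℕ × ℕ)) : Bool :=
  swaps.length + 1 == masks.length && swaps.all isM24Tbl &&
    (List.range swaps.length).all fun i =>
      (List.range masks.length).all fun j =>
        imgMask (swaps.getD i (0, 0)).1 (masks.getD j 0) ==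
          masks.getD (if j = 0 then i + 1 else if j = i + 1 then 0 else j) 0

theorem eq_m24Of_of_isTbl {t : ℕ × ℕ} (ht : isM24Tbl t = true) {g : Equiv.Perm GolayPt}
    (hg : IsTbl g t.1) : g = (m24Of t : Equiv.Perm GolayPt) := by
  rw [coe_m24Of ht]
  exact Equiv.ext fun p => CfsgLib.Golay.idx_injective
    ((hg p).trans (idx_permOf (isTbl_of_isM24Tbl ht) p).symm)

theorem mem_stabilizer_of_swaps {masks : List ℕ} {swaps : List (ℕ × ℕ)}
    (hS : S = (masks.map unmask).toFinset) (h : swapOK masks swaps = true) :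
    ∀ t ∈ swaps, m24Of t ∈ MulAction.stabilizer M24 S := by
  intro t ht
  simp only [swapOK, Bool.and_eq_true, beq_iff_eq, List.all_eq_true, List.mem_range] at h
  obtain ⟨⟨hlen, hv⟩, himg⟩ := h
  obtain ⟨i, hi, rfl⟩ := List.getElem_of_mem ht
  have hsub : m24Of swaps[i] • S ⊆ S := by
    intro x hx
    obtain ⟨y, hy, rfl⟩ := Finset.mem_smul_finset.1 hx
    rw [hS, List.mem_toFinset, List.mem_map] at hy ⊢
    obtain ⟨m, hm, rfl⟩ := hy
    obtain ⟨j, hj, rfl⟩ := List.getElem_of_mem hm
    have he := himg i hi j hj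
    rw [List.getD_eq_getElem _ _ hi, List.getD_eq_getElem _ _ hj] at he
    rw [m24Of_smul_unmask (hv _ ht), he]
    refine ⟨_, ?_, rfl⟩
    have hk : (if j = 0 then i + 1 else if j = i + 1 then 0 else j) < masks.length := by
      split_ifs <;> omega
    rw [List.getD_eq_getElem _ _ hk]
    exact List.getElem_mem _
  exact Finset.eq_of_subset_of_card_le hsub (Finset.card_smul_finset _ S).ge

theorem swaps_surjective {masks : List ℕ} {swaps : List (ℕ × ℕ)}
    (hS : S = (masks.map unmask).toFinset) (hnd : (masks.map unmask).Nodup)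
    (hne : masks ≠ []) (h : swapOK masks swaps = true)
    {H : Subgroup M24} (hH : ∀ t ∈ swaps, m24Of t ∈ H) :
    ∀ e : Equiv.Perm ↥S, ∃ g : MulAction.stabilizer M24 S, (g : M24) ∈ H ∧ setPerm S g = e := by
  have hst := mem_stabilizer_of_swaps hS h
  simp only [swapOK, Bool.and_eq_true, beq_iff_eq, List.all_eq_true, List.mem_range] at h
  obtain ⟨⟨hlen, hv⟩, himg⟩ := h
  have hmem : ∀ j, j < masks.length → unmask (masks.getD j 0) ∈ S := fun j hj => by
    rw [hS, List.mem_toFinset, List.getD_eq_getElem _ _ hj]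
    exact List.mem_map_of_mem (List.getElem_mem hj)
  have h0 : 0 < masks.length := List.length_pos_iff.2 hne
  have hinj : ∀ j k, j < masks.length → k < masks.length →
      unmask (masks.getD j 0) = unmask (masks.getD k 0) → j = k := fun j k hj hk he => by
    rw [List.getD_eq_getElem _ _ hj, List.getD_eq_getElem _ _ hk] at he
    have : (masks.map unmask)[j]'(by simpa using hj) = (masks.map unmask)[k]'(by simpa using hk) := by
      simpa using he
    exact hnd.getElem_inj_iff.1 this
  obtain ⟨a, ha⟩ : ∃ a : ↥S, (a : Finset GolayPt) = unmask (masks.getD 0 0) :=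
    ⟨⟨_, hmem 0 h0⟩, rfl⟩
  have key : (Subgroup.map (setPerm S) (H.subgroupOf (MulAction.stabilizer M24 S))) = ⊤ := by
    refine perm_subgroup_eq_top a fun x hx => ?_
    obtain ⟨m, hm, hme⟩ := List.mem_map.1 (List.mem_toFinset.1 (hS ▸ x.2 :
      (x : Finset GolayPt) ∈ (masks.map unmask).toFinset))
    obtain ⟨j, hj, rfl⟩ := List.getElem_of_mem hm
    obtain ⟨i, rfl⟩ : ∃ i, j = i + 1 := by
      refine ⟨j - 1, ?_⟩
      rcases Nat.eq_zero_or_pos j with rfl | h
      · refine absurd (Subtype.ext ?_) hx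
        exact hme.symm.trans ((congrArg unmask (List.getD_eq_getElem _ _ h0).symm).trans ha.symm)
      · omega
    have hi : i < swaps.length := by omega
    have hsw := List.getElem_mem hi
    refine ⟨⟨m24Of swaps[i], hst _ hsw⟩, hH _ hsw, ?_⟩
    refine Equiv.Perm.ext fun y => ?_
    obtain ⟨m', hm', hme'⟩ := List.mem_map.1 (List.mem_toFinset.1 (hS ▸ y.2 :
      (y : Finset GolayPt) ∈ (masks.map unmask).toFinset))
    obtain ⟨k, hk, rfl⟩ := List.getElem_of_mem hm'
    apply Subtype.ext
    rw [setPerm_apply]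
    have he := himg i hi k hk
    rw [List.getD_eq_getElem _ _ hi, List.getD_eq_getElem _ _ hk] at he
    change m24Of swaps[i] • (y : Finset GolayPt) = _
    rw [← hme', m24Of_smul_unmask (hv _ hsw), he]
    have hxv : (x : Finset GolayPt) = unmask (masks.getD (i + 1) 0) := by
      rw [← hme, List.getD_eq_getElem _ _ hj]
    have hyv : (y : Finset GolayPt) = unmask (masks.getD k 0) := by
      rw [← hme', List.getD_eq_getElem _ _ hk]
    split_ifs with hk0 hki
    · rw [show y = a from Subtype.ext (by rw [hyv, hk0, ha]), Equiv.swap_apply_left, hxv]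
    · rw [show y = x from Subtype.ext (by rw [hyv, hxv, hki]), Equiv.swap_apply_right, ha]
    · rw [Equiv.swap_apply_of_ne_of_ne, hyv]
      · intro hc
        exact hk0 (hinj k 0 hk h0 (hyv.symm.trans ((congrArg Subtype.val hc).trans ha)))
      · intro hc
        exact hki (hinj k (i + 1) hk hj
          (hyv.symm.trans ((congrArg Subtype.val hc).trans hxv)))
  intro e
  have : e ∈ Subgroup.map (setPerm S) (H.subgroupOf (MulAction.stabilizer M24 S)) :=
    key ▸ Subgroup.mem_top e
  obtain ⟨g, hg, rfl⟩ := this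
  exact ⟨g, hg, rfl⟩

/-- The chain in the format of the Golay library. -/
def chainFst (levels : List (ℕ × List ℕ × List (ℕ × ℕ))) : List (ℕ × List ℕ × List ℕ) :=
  levels.map fun l => (l.1, l.2.1, l.2.2.map Prod.fst)

/-- The kernel chain check. -/
def kernelOK (masks : List ℕ) (levels : List (ℕ × List ℕ × List (ℕ × ℕ))) (final : List ℕ) : Bool :=
  chainOK masks (chainFst levels) final && levels.all fun l => l.2.2.all isM24Tbl

theorem fix_mem_of_kernel {masks : List ℕ} {levels : List (ℕ × List ℕ × List (ℕ × ℕ))}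
    {final : List ℕ} (h : kernelOK masks levels final = true) {H : Subgroup M24}
    (hH : ∀ l ∈ levels, ∀ t ∈ l.2.2, m24Of t ∈ H) {g : M24}
    (hg : ∀ m ∈ masks, g • unmask m = unmask m) : g ∈ H := by
  simp only [kernelOK, Bool.and_eq_true] at h
  have hle : stabK masks ≤ H.map M24.subtype := by
    refine stabK_le h.1 fun l hl t ht u hu => ?_
    obtain ⟨l', hl', rfl⟩ := List.mem_map.1 hl
    obtain ⟨t', ht', rfl⟩ := List.mem_map.1 ht
    refine ⟨m24Of t', hH l' hl' t' ht', ?_⟩
    exact (eq_m24Of_of_isTbl (List.all_eq_true.1 (List.all_eq_true.1 h.2 l' hl') t' ht') hu).symm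
  have hmem : (g : Equiv.Perm GolayPt) ∈ stabK masks :=
    CfsgLib.Golay.mem_stabK.2 ⟨g.2, fun m hm => hg m hm⟩
  obtain ⟨g', hg', he⟩ := hle hmem
  rwa [← Subtype.ext he]

/-- The stabiliser is generated by the chain tables and the transposition lifts. -/
theorem stabilizer_le {masks : List ℕ} {swaps : List (ℕ × ℕ)}
    {levels : List (ℕ × List ℕ × List (ℕ × ℕ))} {final : List ℕ}
    (hS : S = (masks.map unmask).toFinset) (hnd : (masks.map unmask).Nodup) (hne : masks ≠ [])
    (hsw : swapOK masks swaps = true) (hk : kernelOK masks levels final = true) {H : Subgroup M24}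
    (h1 : ∀ t ∈ swaps, m24Of t ∈ H) (h2 : ∀ l ∈ levels, ∀ t ∈ l.2.2, m24Of t ∈ H) :
    MulAction.stabilizer M24 S ≤ H := by
  intro g hg
  obtain ⟨h, hhH, hh⟩ := swaps_surjective hS hnd hne hsw h1 (setPerm S ⟨g, hg⟩)
  have hker : ∀ t ∈ S, (((h⁻¹ * ⟨g, hg⟩ : MulAction.stabilizer M24 S)) : M24) • t = t :=
    setPerm_ker_iff.1 (by rw [map_mul, map_inv, hh, inv_mul_cancel])
  have hfix : (h : M24)⁻¹ * g ∈ H := fix_mem_of_kernel hk h2 fun m hm =>
    hker _ (by rw [hS, List.mem_toFinset]; exact List.mem_map_of_mem hm)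
  have := mul_mem hhH hfix
  rwa [mul_inv_cancel_left] at this

/-! ### Subgroups spanned by commuting involutions -/

/-- Packing of `n` values, five bits each. -/
def packTbl (f : ℕ → ℕ) : ℕ → ℕ
  | 0 => 0
  | n + 1 => packTbl f n ||| f n <<< (5 * n)

/-- The table of a composite. -/
def compTbl (a b : ℕ) : ℕ := packTbl (fun i => tblAt a (tblAt b i)) 24

/-- The table of the identity. -/
def idTbl : ℕ := packTbl id 24

/-- All products of subfamilies. -/
def spanTbl : List ℕ → List ℕ
  | [] => [idTbl]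
  | a :: as => spanTbl as ++ (spanTbl as).map (compTbl a)

theorem testBit_packTbl {f : ℕ → ℕ} (hf : ∀ i, f i < 32) : ∀ n j,
    (packTbl f n).testBit j = (decide (j < 5 * n) && (f (j / 5)).testBit (j % 5))
  | 0, j => by simp [packTbl]
  | n + 1, j => by
    rw [packTbl, Nat.testBit_lor, testBit_packTbl hf n j, Nat.testBit_shiftLeft]
    rcases Nat.lt_or_ge j (5 * n) with hj | hj
    · have h1 : ¬ j ≥ 5 * n := by omega
      have h2 : j < 5 * (n + 1) := by omega
      simp [hj, h1, h2]
    rcases Nat.lt_or_ge j (5 * (n + 1)) with hj' | hj'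
    · have h1 : j / 5 = n := by omega
      have h2 : j - 5 * n = j % 5 := by omega
      have h3 : ¬ j < 5 * n := by omega
      simp [hj, hj', h1, h2, h3]
    · have h3 : ¬ j < 5 * n := by omega
      have h4 : ¬ j < 5 * (n + 1) := by omega
      have h5 : (f n).testBit (j - 5 * n) = false :=
        Nat.testBit_lt_two_pow (lt_of_lt_of_le (hf n)
          (le_trans (by norm_num) (Nat.pow_le_pow_right (by norm_num) (show 5 ≤ j - 5 * n by omega))))
      simp [h3, h4, h5]

theorem tblAt_packTbl {f : ℕ → ℕ} (hf : ∀ i, f i < 32) {n i : ℕ} (hi : i < n) :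
    tblAt (packTbl f n) i = f i := by
  apply Nat.eq_of_testBit_eq
  intro j
  rw [tblAt, show (32 : ℕ) = 2 ^ 5 from rfl, Nat.testBit_mod_two_pow, Nat.testBit_shiftRight,
    testBit_packTbl hf]
  rcases Nat.lt_or_ge j 5 with hj | hj
  · have h1 : (5 * i + j) / 5 = i := by omega
    have h2 : (5 * i + j) % 5 = j := by omega
    have h3 : 5 * i + j < 5 * n := by omega
    simp [hj, h1, h2, h3]
  · have h5 : (f i).testBit j = false :=
      Nat.testBit_lt_two_pow (lt_of_lt_of_le (hf i)
        ((by norm_num : (32 : ℕ) ≤ 2 ^ 5).trans (Nat.pow_le_pow_right (by norm_num) hj)))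
    have h3 : ¬ j < 5 := by omega
    simp [h3, h5]

theorem tblAt_compTbl (a b : ℕ) {i : ℕ} (hi : i < 24) :
    tblAt (compTbl a b) i = tblAt a (tblAt b i) :=
  tblAt_packTbl (f := fun i => tblAt a (tblAt b i)) (fun _ => Nat.mod_lt _ (by norm_num)) hi

theorem isTbl_mul {g h : Equiv.Perm GolayPt} {a b : ℕ} (hg : IsTbl g a) (hh : IsTbl h b) :
    IsTbl (g * h) (compTbl a b) := fun p => by
  refine (hg (h p)).trans ?_
  rw [hh p]
  exact (tblAt_compTbl a b (idx_lt p)).symm

theorem idTblCheck : ∀ i < 24, tblAt idTbl i = i := by decide +kernel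

theorem isTbl_idTbl : IsTbl (1 : Equiv.Perm GolayPt) idTbl :=
  fun p => (idTblCheck (idx p) (idx_lt p)).symm

theorem isTbl_m24Of {t : ℕ × ℕ} (h : isM24Tbl t = true) :
    IsTbl (m24Of t : Equiv.Perm GolayPt) t.1 := fun p => by
  rw [coe_m24Of h]
  exact idx_permOf (isTbl_of_isM24Tbl h) p

/-- The span is a group of exponent two of order `2 ^ length`. -/
def spanOK (six : List (ℕ × ℕ)) : Bool :=
  six.all isM24Tbl && decide (spanTbl (six.map Prod.fst)).Nodup &&
    six.all (fun a => compTbl a.1 a.1 == idTbl) &&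
    (spanTbl (six.map Prod.fst)).all fun t =>
      compTbl t t == idTbl && six.all fun a => (spanTbl (six.map Prod.fst)).elem (compTbl a.1 t)

theorem span_lt (six : List ℕ) (t : ℕ) (ht : t ∈ spanTbl six) : ∃ f : ℕ → ℕ,
    (∀ i, f i < 32) ∧ t = packTbl f 24 ∨ t = idTbl := by
  refine ⟨fun i => tblAt t i, ?_⟩
  induction six with
  | nil => right; simpa [spanTbl] using ht
  | cons a as ih =>
    rcases List.mem_append.1 ht with h | h
    · exact ih h
    · obtain ⟨s, -, rfl⟩ := List.mem_map.1 h
      refine Or.inl ⟨fun i => Nat.mod_lt _ (by norm_num), ?_⟩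
      rw [compTbl]
      have key : ∀ n ≤ 24, ∀ f g : ℕ → ℕ, (∀ i < n, f i = g i) → packTbl f n = packTbl g n := by
        intro n
        induction n with
        | zero => intros; rfl
        | succ n ihn =>
          intro hn f g he
          rw [packTbl, packTbl, ihn (by omega) f g (fun i hi => he i (by omega)), he n (by omega)]
      refine key 24 le_rfl _ _ fun i hi => ?_
      exact (tblAt_compTbl a s hi).symm

theorem tblAt_ext {six : List ℕ} {s t : ℕ} (hs : s ∈ spanTbl six) (ht : t ∈ spanTbl six)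
    (h : ∀ i < 24, tblAt s i = tblAt t i) : s = t := by
  have key : ∀ n, ∀ f g : ℕ → ℕ, (∀ i < n, f i = g i) → packTbl f n = packTbl g n := by
    intro n
    induction n with
    | zero => intros; rfl
    | succ n ihn =>
      intro f g he
      rw [packTbl, packTbl, ihn f g (fun i hi => he i (by omega)), he n (by omega)]
  have repack : ∀ u ∈ spanTbl six, u = packTbl (tblAt u) 24 := by
    intro u hu
    obtain ⟨f, ⟨hf, rfl⟩ | rfl⟩ := span_lt six u hu
    · exact key 24 _ _ fun i hi => (tblAt_packTbl hf hi).symm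
    · decide +kernel
  rw [repack s hs, repack t ht]
  exact key 24 _ _ h

/-- The subgroup generated by the listed elements. -/
def spanGroup (six : List (ℕ × ℕ)) : Subgroup M24 :=
  Subgroup.closure {g | ∃ a ∈ six, m24Of a = g}

theorem spanGroup_spec {six : List (ℕ × ℕ)} (h : spanOK six = true) :
    (∀ g : M24, g ∈ spanGroup six ↔ ∃ t ∈ spanTbl (six.map Prod.fst),
      IsTbl (g : Equiv.Perm GolayPt) t) ∧
    Nat.card (spanGroup six) = (spanTbl (six.map Prod.fst)).length ∧
    ∀ g ∈ spanGroup six, g * g = 1 := by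
  simp only [spanOK, Bool.and_eq_true, decide_eq_true_iff, List.all_eq_true, beq_iff_eq,
    List.elem_iff] at h
  obtain ⟨⟨⟨hv, hnd⟩, hinv⟩, hclosed⟩ := h
  have hsq : ∀ a ∈ six, m24Of a * m24Of a = 1 := fun a ha => by
    apply Subtype.ext
    have h1 := isTbl_mul (isTbl_m24Of (hv a ha)) (isTbl_m24Of (hv a ha))
    rw [hinv a ha] at h1
    exact CfsgLib.Golay.IsTbl.ext h1 isTbl_idTbl
  have hid : ∀ l : List ℕ, idTbl ∈ spanTbl l := by
    intro l
    induction l with
    | nil => simp [spanTbl]
    | cons a as ih => exact List.mem_append_left _ ih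
  have hto : ∀ g ∈ spanGroup six,
      ∃ t ∈ spanTbl (six.map Prod.fst), IsTbl (g : Equiv.Perm GolayPt) t := by
    intro g hg
    induction hg using Subgroup.closure_induction_left with
    | one => exact ⟨_, hid _, isTbl_idTbl⟩
    | mul_left x hx y _ ih =>
      obtain ⟨a, ha, rfl⟩ := hx
      obtain ⟨t, ht, htb⟩ := ih
      exact ⟨_, (hclosed t ht).2 a ha, isTbl_mul (isTbl_m24Of (hv a ha)) htb⟩
    | inv_mul_cancel x hx y _ ih =>
      obtain ⟨a, ha, rfl⟩ := hx
      obtain ⟨t, ht, htb⟩ := ih
      rw [inv_eq_of_mul_eq_one_right (hsq a ha)]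
      exact ⟨_, (hclosed t ht).2 a ha, isTbl_mul (isTbl_m24Of (hv a ha)) htb⟩
  have hfrom : ∀ t ∈ spanTbl (six.map Prod.fst),
      ∃ g ∈ spanGroup six, IsTbl (g : Equiv.Perm GolayPt) t := by
    have : ∀ l : List (ℕ × ℕ), (∀ a ∈ l, a ∈ six) → ∀ t ∈ spanTbl (l.map Prod.fst),
        ∃ g ∈ spanGroup six, IsTbl (g : Equiv.Perm GolayPt) t := by
      intro l
      induction l with
      | nil =>
        intro _ t ht
        rw [List.map_nil, spanTbl, List.mem_singleton] at ht
        exact ⟨1, one_mem _, ht ▸ isTbl_idTbl⟩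
      | cons a as ih =>
        intro hl t ht
        rcases List.mem_append.1 ht with ht | ht
        · exact ih (fun b hb => hl b (List.mem_cons_of_mem _ hb)) t ht
        · obtain ⟨s, hs, rfl⟩ := List.mem_map.1 ht
          obtain ⟨g, hg, hgt⟩ := ih (fun b hb => hl b (List.mem_cons_of_mem _ hb)) s hs
          have ha := hl a List.mem_cons_self
          exact ⟨_, mul_mem (Subgroup.subset_closure ⟨a, ha, rfl⟩) hg,
            isTbl_mul (isTbl_m24Of (hv a ha)) hgt⟩
    exact this six fun a ha => ha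
  have hiff : ∀ g : M24, g ∈ spanGroup six ↔
      ∃ t ∈ spanTbl (six.map Prod.fst), IsTbl (g : Equiv.Perm GolayPt) t := by
    refine fun g => ⟨hto g, ?_⟩
    rintro ⟨t, ht, hgt⟩
    obtain ⟨g', hg', hg't⟩ := hfrom t ht
    rwa [show g = g' from Subtype.ext (CfsgLib.Golay.IsTbl.ext hgt hg't)]
  refine ⟨hiff, ?_, fun g hg => ?_⟩
  · choose G hG hGt using hfrom
    have hbij : Function.Bijective
        (fun t : {t // t ∈ spanTbl (six.map Prod.fst)} =>
          (⟨G t.1 t.2, hG t.1 t.2⟩ : spanGroup six)) := by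
      constructor
      · intro s t he
        apply Subtype.ext
        refine tblAt_ext s.2 t.2 fun i hi => ?_
        have e1 := hGt s.1 s.2 (CfsgLib.Golay.pt i)
        have e2 := hGt t.1 t.2 (CfsgLib.Golay.pt i)
        rw [CfsgLib.Golay.idx_pt hi] at e1 e2
        have he : G s.1 s.2 = G t.1 t.2 := congrArg Subtype.val he
        exact e1.symm.trans (he ▸ e2)
      · intro g
        obtain ⟨t, ht, hgt⟩ := hto g.1 g.2
        exact ⟨⟨t, ht⟩, Subtype.ext (Subtype.ext (CfsgLib.Golay.IsTbl.ext (hGt t ht) hgt))⟩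
    rw [← Nat.card_congr (Equiv.ofBijective _ hbij)]
    rw [Nat.card_congr (hnd.getEquiv _).symm, Nat.card_fin]
  · obtain ⟨t, ht, hgt⟩ := hto g hg
    apply Subtype.ext
    have h1 := isTbl_mul hgt hgt
    rw [(hclosed t ht).1] at h1
    exact CfsgLib.Golay.IsTbl.ext h1 isTbl_idTbl

end CfsgLib.GolayStructure
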