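/-
The stabiliser of a sextet: 2^6 : 3.S6.
-/
import Cfsg.Agent.Lib.GolayStructure.StabGen
import Cfsg.Agent.Lib.GolayStructure.StabOrders
import Cfsg.Agent.Lib.GolayStructure.SextetInv
import Cfsg.Agent.Lib.GolayStructure.DataSextetStab

set_option autoImplicit false

namespace CfsgLib.GolayStructure

open Cfsg
open CfsgLib.Golay (unmask)
open scoped Pointwise

theorem sextetMasks_eq : sextetMasks = sextetRootLists.getD 0 [] := by decide +kernel

theorem baseSextet_eq :
    baseSextet = (sextetMasks.map unmask).toFinset ∧ (sextetMasks.map unmask).Nodup := by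
  have h := sextetRoot_dec 0 (by norm_num)
  rw [← sextetMasks_eq] at h
  exact ⟨h.2, maskList_spec h.1⟩

theorem sextetStab_checks :
    swapOK sextetMasks sextetSwaps = true ∧ kernelOK sextetMasks sextetLevels sextetFinal = true ∧
      spanOK sextetSix = true := by
  decide +kernel

theorem sextet_setPerm_surjective {S : Finset (Finset GolayPt)} (hS : S ∈ sextets) :
    ∀ e : Equiv.Perm ↥S, ∃ g : MulAction.stabilizer M24 S, setPerm S g = e := by
  obtain ⟨a, rfl⟩ := exists_smul_baseSextet hS
  intro e
  have hsurj := swaps_surjective baseSextet_eq.1 baseSextet_eq.2 (by decide) sextetStab_checks.1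
    (H := ⊤) (fun _ _ => Subgroup.mem_top _)
  let φ : ↥baseSextet ≃ ↥(a • baseSextet) :=
    (MulAction.toPerm a).subtypeEquiv fun t => Finset.smul_mem_smul_finset_iff a |>.symm
  obtain ⟨g, -, hg⟩ := hsurj (φ.trans (e.trans φ.symm))
  refine ⟨MulAction.stabilizerEquivStabilizer (a := baseSextet) (g := a) rfl g, ?_⟩
  refine Equiv.Perm.ext fun t => Subtype.ext ?_
  obtain ⟨s, rfl⟩ := φ.surjective t
  rw [setPerm_apply, MulAction.stabilizerEquivStabilizer_apply, MulAut.conj_apply, mul_smul,
    mul_smul]
  change a • (g : M24) • a⁻¹ • a • (s : Finset GolayPt) = _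
  rw [inv_smul_smul, ← setPerm_apply g s, hg]
  change ((φ (φ.symm (e (φ s))) : ↥(a • baseSextet)) : Finset GolayPt) = _
  rw [Equiv.apply_symm_apply]

theorem sextet_kernel_card {S : Finset (Finset GolayPt)} (hS : S ∈ sextets) :
    Nat.card {g : MulAction.stabilizer M24 S //
      ∀ t ∈ S, ((g : M24) : Equiv.Perm GolayPt) • t = t} = 192 := by
  have hsurj : Function.Surjective (setPerm S) := sextet_setPerm_surjective hS
  have hst := card_stabilizer_of_orbit orbit_baseSextet hS
  rw [ncard_sextets] at hst
  have h1 := Subgroup.card_mul_index (setPerm S).ker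
  rw [Subgroup.index_ker, MonoidHom.range_eq_top.2 hsurj, Subgroup.card_top, Nat.card_perm,
    Nat.card_eq_fintype_card (α := ↥S), Fintype.card_coe, hS.1,
    show Nat.factorial 6 = 720 by decide] at h1
  have h2 : Nat.card {g : MulAction.stabilizer M24 S //
      ∀ t ∈ S, ((g : M24) : Equiv.Perm GolayPt) • t = t} = Nat.card (setPerm S).ker :=
    Nat.card_congr (Equiv.subtypeEquivRight fun g => by
      rw [MonoidHom.mem_ker, setPerm_ker_iff]; rfl)
  omega

/-- The tables whose conjugation action on the six involutions is checked. -/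
def sextetTables : List (ℕ × ℕ) := sextetSwaps ++ sextetLevels.flatMap fun l => l.2.2

theorem sextetNormal_check : sextetTables.all isM24Tbl = true ∧ (sextetTables.all fun t =>
    isTbl t && sextetSix.all fun a =>
      (spanTbl (sextetSix.map Prod.fst)).elem (compTbl t.1 (compTbl a.1 t.2))) = true := by
  decide +kernel

theorem isTbl_inv {t : ℕ × ℕ} (h : isM24Tbl t = true) :
    CfsgLib.Golay.IsTbl ((m24Of t)⁻¹ : M24).1 t.2 := by
  intro p
  have ht := isTbl_of_isM24Tbl h
  have e : (((m24Of t)⁻¹ : M24) : Equiv.Perm GolayPt) p = tblFun t.2 p := by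
    rw [Subgroup.coe_inv, coe_m24Of h, permOf, dif_pos ht]
    rfl
  rw [e]
  exact CfsgLib.Golay.idx_pt (isTbl_spec ht (CfsgLib.Golay.idx_lt p)).2.1

theorem mem_stab_of_six : ∀ a ∈ sextetSix, m24Of a ∈ MulAction.stabilizer M24 baseSextet := by
  have h : (sextetSix.all fun a => isM24Tbl a &&
      sextetKind.ok a.1 (fieldAt 24 sextetTable sextetRoot) (fieldAt 24 sextetTable sextetRoot)) =
        true := by
    decide +kernel
  intro a ha
  have := List.all_eq_true.1 h a ha
  rw [Bool.and_eq_true] at this
  exact sextetKind.ok_spec a this.1 _ _ this.2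

theorem spanGroup_le_stab : spanGroup sextetSix ≤ MulAction.stabilizer M24 baseSextet := by
  rw [spanGroup, Subgroup.closure_le]
  rintro _ ⟨a, ha, rfl⟩
  exact mem_stab_of_six a ha

theorem stab_le_normalizer :
    MulAction.stabilizer M24 baseSextet ≤ Subgroup.normalizer (spanGroup sextetSix : Set M24) := by
  obtain ⟨hiff, -, -⟩ := spanGroup_spec sextetStab_checks.2.2
  have hn : ∀ t ∈ sextetTables, m24Of t ∈ Subgroup.normalizer (spanGroup sextetSix : Set M24) := by
    intro t ht
    have hv := List.all_eq_true.1 sextetNormal_check.1 t ht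
    have hc := List.all_eq_true.1 sextetNormal_check.2 t ht
    rw [Bool.and_eq_true] at hc
    have hle : (spanGroup sextetSix).map (MulAut.conj (m24Of t)).toMonoidHom ≤ spanGroup sextetSix := by
      rw [spanGroup, MonoidHom.map_closure, Subgroup.closure_le]
      rintro _ ⟨_, ⟨a, ha, rfl⟩, rfl⟩
      have hav : isM24Tbl a = true := by
        have := sextetStab_checks.2.2
        simp only [spanOK, Bool.and_eq_true, List.all_eq_true] at this
        exact this.1.1.1 a ha
      refine (hiff _).2 ⟨_, List.elem_iff.1 (List.all_eq_true.1 hc.2 a ha), ?_⟩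
      have hmul := isTbl_mul (isTbl_m24Of hv) (isTbl_mul (isTbl_m24Of hav) (isTbl_inv hv))
      simpa [MulAut.conj_apply, mul_assoc] using hmul
    have heq := Subgroup.eq_of_le_of_card_ge hle (le_of_eq (Subgroup.card_map_of_injective
      (MulEquiv.injective _)).symm)
    rw [Subgroup.mem_normalizer_iff]
    intro x
    constructor
    · intro hx
      have := Subgroup.mem_map_of_mem (MulAut.conj (m24Of t)).toMonoidHom hx
      rw [heq] at this
      exact this
    · intro hx
      rw [← heq] at hx
      obtain ⟨y, hy, he⟩ := hx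
      have : y = x := (MulAut.conj (m24Of t)).injective he
      exact this ▸ hy
  refine stabilizer_le baseSextet_eq.1 baseSextet_eq.2 (by decide) sextetStab_checks.1
    sextetStab_checks.2.1 (fun t ht => hn t (List.mem_append_left _ ht))
    fun l hl t ht => hn t (List.mem_append_right _ (List.mem_flatMap.2 ⟨l, hl, ht⟩))

theorem sextet_normal_64 {S : Finset (Finset GolayPt)} (hS : S ∈ sextets) :
    ∃ N : Subgroup (MulAction.stabilizer M24 S),
      N.Normal ∧ Nat.card N = 64 ∧ ∀ x ∈ N, x * x = 1 := by
  obtain ⟨a, rfl⟩ := exists_smul_baseSextet hS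
  obtain ⟨-, hcard, hsq⟩ := spanGroup_spec sextetStab_checks.2.2
  set N0 := (spanGroup sextetSix).subgroupOf (MulAction.stabilizer M24 baseSextet)
  have hN0 : N0.Normal := Subgroup.normal_subgroupOf_of_le_normalizer stab_le_normalizer
  let e := MulAction.stabilizerEquivStabilizer (a := baseSextet) (b := a • baseSextet) (g := a) rfl
  refine ⟨N0.map e.toMonoidHom, hN0.map _ e.surjective, ?_, ?_⟩
  · rw [Subgroup.card_map_of_injective e.injective,
      Nat.card_congr (Subgroup.subgroupOfEquivOfLe spanGroup_le_stab).toEquiv, hcard]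
    decide +kernel
  · rintro _ ⟨x, hx, rfl⟩
    rw [← map_mul, show x * x = 1 from Subtype.ext (hsq _ hx), map_one]

end CfsgLib.GolayStructure
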